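import Groth.Agent.Surf.K455.CMCut
import Groth.Agent.VarietyB.ClosedInter
import Groth.Agent.VarietyB.DimTop

/-!
# `C.D = h⁰(O/(I_C + I_D))` on a Cohen–Macaulay surface
-/

set_option autoImplicit false
universe u
open CategoryTheory CategoryTheory.Limits AlgebraicGeometry TopologicalSpace

namespace K455.CMInt

open Groth.Agent Groth.Agent.Fga.PicMon Groth.Agent.Dix.IdealModCartier

variable (k : Type u) [Field k] {X : Scheme.{u}} [X.Over (Spec (CommRingCat.of k))]

/-- The Euler characteristic of `O/J` for `J` of dimension zero. -/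
theorem euler_quotMod_of_finite [IsProper (X ↘ Spec (CommRingCat.of k))] (J : X.IdealSheafData)
    (hfin : (J.support : Set X).Finite) :
    FGA.eulerCharLE k X (ClSub.quotMod J) 2 = Module.finrank k (Coh.HH X (ClSub.quotMod J) 0) := by
  let : J.subscheme.Over (Spec (CommRingCat.of k)) := ⟨J.subschemeι ≫ (X ↘ (Spec (CommRingCat.of k)))⟩
  have hXn := Fga.IntAdd.isNoetherian k X
  have : IsProper (J.subscheme ↘ (Spec (CommRingCat.of k))) :=
    inferInstanceAs (IsProper (J.subschemeι ≫ (X ↘ (Spec (CommRingCat.of k)))))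
  have hJn := Fga.IntAdd.isNoetherian k J.subscheme
  have hJf : Finite J.subscheme := by
    have : Set.InjOn J.subschemeι (Set.univ : Set J.subscheme) := J.subschemeι.isEmbedding.injective.injOn
    have h1 : (Set.univ : Set J.subscheme).Finite := by
      refine Set.Finite.of_finite_image (f := J.subschemeι) (hfin.subset ?_) this
      rintro _ ⟨z, -, rfl⟩
      exact Divis.CartierStalk.subschemeι_mem_support J z
    exact Set.finite_univ_iff.1 h1
  have : LocallyOfFiniteType (J.subscheme ↘ (Spec (CommRingCat.of k))) := inferInstance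
  have hJJ : JacobsonSpace J.subscheme := LocallyOfFiniteType.jacobsonSpace (J.subscheme ↘ (Spec (CommRingCat.of k)))
  have hdim : topologicalKrullDim J.subscheme ≤ (0 : ℕ) := by
    have hcl : ∀ x : J.subscheme, IsClosed ({x} : Set J.subscheme) := fun x =>
      CMCut.isClosed_of_finite isClosed_univ Set.finite_univ (Set.mem_univ x)
    have : T1Space J.subscheme := ⟨hcl⟩
    have : DiscreteTopology J.subscheme := inferInstance
    exact topologicalKrullDim_zero_of_discreteTopology _
  have hvan : ∀ i : ℕ, 0 < i → Module.finrank k (Coh.HH X (ClSub.quotMod J) i) = 0 := by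
    intro i hi
    have h1 := (CurvesC.CurveNum.hhPushₗ k J.subschemeι rfl (Coh.structureModule J.subscheme) i).finrank_eq
    have : TopologicalSpace.NoetherianSpace J.subscheme.toTopCat :=
      inferInstanceAs (TopologicalSpace.NoetherianSpace J.subscheme)
    have h2 : Subsingleton (Coh.HH J.subscheme (Coh.structureModule J.subscheme) i) :=
      S0458.result (X := J.subscheme.toTopCat) 0 hdim (Coh.toAb (Coh.structureModule J.subscheme)) i hi
    have h3 : Module.finrank k (Coh.HH J.subscheme (Coh.structureModule J.subscheme) i) = 0 :=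
      Module.finrank_zero_of_subsingleton
    rw [← h3]
    exact h1.symm
  simp [FGA.eulerCharLE, Finset.sum_range_succ, hvan 1 one_pos, hvan 2 two_pos]

variable [IsProper (X ↘ Spec (CommRingCat.of k))]

/-- `(I_C·I_D) = h⁰(O/(I_C + I_D))`, if `D` restricts to an effective Cartier divisor on `C` of finite support. -/
theorem intNum_eq_of_isEff (hdim : topologicalKrullDim X ≤ (2 : ℕ)) (IC ID : X.IdealSheafData)
    (hD : BlowUp.IsEffCartierIdeal ID)
    (hCD : BlowUp.IsEffCartierIdeal (ID.comap IC.subschemeι))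
    (hfin : ((IC ⊔ ID).support : Set X).Finite) :
    FGA.intNum k X 2 ![ClSub.idealMod IC, ClSub.idealMod ID] (Coh.structureModule X) =
      (Module.finrank k (Coh.HH X (ClSub.quotMod (IC ⊔ ID)) 0) : ℤ) := by
  let : IC.subscheme.Over (Spec (CommRingCat.of k)) := ⟨IC.subschemeι ≫ (X ↘ (Spec (CommRingCat.of k)))⟩
  have : IsProper (IC.subscheme ↘ (Spec (CommRingCat.of k))) :=
    inferInstanceAs (IsProper (IC.subschemeι ≫ (X ↘ (Spec (CommRingCat.of k)))))
  have hdimC : topologicalKrullDim IC.subscheme ≤ (2 : ℕ) :=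
    (IC.subschemeι.isEmbedding.isInducing.topologicalKrullDim_le).trans hdim
  have h1 := Cut.intNum_ideal k hdim IC rfl (M := ClSub.idealMod ID) (isInvertible_idealMod hD)
  obtain ⟨e⟩ := pullback_idealMod IC.subschemeι hD hCD
  rw [h1, euler_iso k IC.subscheme e 2]
  have h2 := Fga.IntAdd.isAdd_euler k IC.subscheme 2 hdimC _
    (Sga2.LefPow644.shortExact_idealMod (ID.comap IC.subschemeι))
  have := Fga.IntAdd.isNoetherian k IC.subscheme
  have h3 := h2 (VarietyB.DegCartier.isCoh_idealMod _) (CurvesC.UnitCoh.isCoh_unit _)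
    (CycB.ClosSheaf.isCoh_push_structureModule _)
  have h4 : FGA.eulerCharLE k IC.subscheme (Coh.structureModule IC.subscheme) 2 -
      FGA.eulerCharLE k IC.subscheme (ClSub.idealMod (ID.comap IC.subschemeι)) 2 =
      FGA.eulerCharLE k IC.subscheme (ClSub.quotMod (ID.comap IC.subschemeι)) 2 := by
    rw [sub_eq_iff_eq_add']
    exact h3
  rw [h4, euler_quotMod_of_finite]
  · have h5 := VarietyB.ClosedInter.finrank_hZero_quotMod_sup IC.subschemeι k rfl ID
    rw [IC.ker_subschemeι, sup_comm ID IC] at h5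
    rw [h5]
  · refine Set.Finite.of_finite_image (f := IC.subschemeι) (hfin.subset ?_) IC.subschemeι.isEmbedding.injective.injOn
    rintro _ ⟨z, hz, rfl⟩
    rw [Scheme.IdealSheafData.support_comap] at hz
    rw [Scheme.IdealSheafData.support_sup]
    exact ⟨Divis.CartierStalk.subschemeι_mem_support IC z, hz⟩

/-- `(I_C·I_D) = h⁰(O/(I_C + I_D))` on a Cohen–Macaulay surface. -/
theorem intNum_eq_of_isCohenMacaulay
    (hdim : ∀ Z ∈ irreducibleComponents (X : Type u), topologicalKrullDim Z = 2)
    (IC ID : X.IdealSheafData) (hC : BlowUp.IsEffCartierIdeal IC) (hD : BlowUp.IsEffCartierIdeal ID)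
    (hCM : ∀ x ∈ (IC ⊔ ID).support, LocCoh.IsCohenMacaulayLocalRing (X.presheaf.stalk x))
    (hfin : ((IC ⊔ ID).support : Set X).Finite) :
    FGA.intNum k X 2 ![ClSub.idealMod IC, ClSub.idealMod ID] (Coh.structureModule X) =
      (Module.finrank k (Coh.HH X (ClSub.quotMod (IC ⊔ ID)) 0) : ℤ) := by
  have := Fga.IntAdd.isNoetherian k X
  have hJ : JacobsonSpace X := LocallyOfFiniteType.jacobsonSpace (X ↘ (Spec (CommRingCat.of k)))
  have hd : topologicalKrullDim X ≤ (2 : ℕ) := by
    rw [VarietyB.DimTop.topologicalKrullDim_eq_iSup_irreducibleComponents]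
    exact iSup_le fun Z => (hdim Z.1 Z.2).le
  have hcl : ∀ x ∈ (IC ⊔ ID).support, IsClosed ({x} : Set X) := fun x hx =>
    CMCut.isClosed_of_finite (IC ⊔ ID).support.isClosed hfin hx
  refine intNum_eq_of_isEff k hd IC ID hD (CMCut.isEff_comap IC ID hC hD hCM ?_ ?_) hfin
  · intro x hx
    exact CMCut.le_ringKrullDim_stalk k X 2 hdim x (hcl x hx)
  · intro x _ y hy hyx
    have h1 := hyx.mem_closure
    rw [(hcl y hy).closure_eq] at h1
    exact (Set.mem_singleton_iff.1 h1).symm

end K455.CMInt
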