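import Groth.Agent.Dual.H366.ExtQCoh
import Groth.Agent.Dual.H328.WUniv
import Groth.Agent.Dual.H339.OmegaRank

/-!
# The canonical module of a smooth scheme: existence and invertibility
-/

set_option autoImplicit false
universe u
open CategoryTheory CategoryTheory.Limits AlgebraicGeometry TopologicalSpace

namespace K455.Canon

open Groth.Agent

variable {X S : Scheme.{u}} (f : X ⟶ S) [QuasiSeparated f] (n : ℕ) [SmoothOfRelativeDimension n f]

theorem isInvertible {W : X.Modules} (hW : ExtPow.IsExtPow n (Omega.sheaf f) W) : PicF.IsInvertible W :=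
  Dual.H328.WUniv.isInvertible_extPow (Dual.H339.OmegaRank.isFinLocFreeOfRank_omega n f) hW

theorem exists_canonical : ∃ W : X.Modules, ExtPow.IsExtPow n (Omega.sheaf f) W ∧ PicF.IsInvertible W := by
  have h1 := Dual.H339.OmegaRank.isFinLocFreeOfRank_omega n f
  have h2 : Coh.IsQCoh (Omega.sheaf f) := Ega2.QCohLocal.isQCoh_of_isFinLocFree (Ega2.QCohLocal.isFinLocFree_of_rank h1)
  obtain ⟨W, hW⟩ := Dual.H366.ExtQCoh.exists_isExtPow n h2
  exact ⟨W, hW, isInvertible f n hW⟩

end K455.Canon
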