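import Groth.Agent.Surf.K455.Cut
import Groth.Agent.Fga.UnitRestrict
import Groth.Agent.Ega3B.PullTensor

/-!
# Cutting with a closed immersion

Versions of `Cut.euler_cut`, `Cut.euler_cut_one`, `Cut.intNum_ideal` for an arbitrary closed immersion `i : C ⟶ X`
instead of the closed subscheme of an ideal sheaf.
-/

set_option autoImplicit false
universe u
open CategoryTheory CategoryTheory.Limits AlgebraicGeometry TopologicalSpace

namespace K455.CutKer

open Groth.Agent Groth.Agent.Ega2 Groth.Agent.Fga.AltSum Groth.Agent.Fga.PicMon Groth.Agent.Fga.ChiBasic K455.Cut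

/-- Direct images of structure sheaves along morphisms which differ by an isomorphism. -/
theorem nonempty_pushIso {X Y Z : Scheme.{u}} (e : X ⟶ Y) [IsIso e] (g : Y ⟶ Z) (f : X ⟶ Z) (h : e ≫ g = f) :
    Nonempty ((Coh.push f).obj (Coh.structureModule X) ≅ (Coh.push g).obj (Coh.structureModule Y)) := by
  subst h
  have : IsIso (Fga.UnitRestrict.unitToPush e) :=
    Fga.UnitRestrict.isIso_unitToPush e fun U => ConcreteCategory.bijective_of_isIso (e.app U)
  exact ⟨(Scheme.Modules.pushforwardComp e g).symm.app (Coh.structureModule X) ≪≫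
    (Coh.push g).mapIso (asIso (Fga.UnitRestrict.unitToPush e)).symm⟩

theorem nonempty_push_iso_quotMod {C X : Scheme.{u}} (i : C ⟶ X) [IsClosedImmersion i] (I : X.IdealSheafData)
    (hI : i.ker = I) :
    Nonempty ((Coh.push i).obj (Coh.structureModule C) ≅ ClSub.quotMod I) := by
  subst hI
  have h1 : i.ker = i.ker.subschemeι.ker := by rw [Scheme.IdealSheafData.ker_subschemeι]
  have := IsClosedImmersion.isIso_lift i.ker.subschemeι i h1.symm
  exact nonempty_pushIso (IsClosedImmersion.lift i.ker.subschemeι i h1.symm.le) i.ker.subschemeι i (by simp)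

variable (k : Type u) [Field k] {X C : Scheme.{u}} [X.Over (Spec (CommRingCat.of k))]
  [C.Over (Spec (CommRingCat.of k))] [IsProper (X ↘ Spec (CommRingCat.of k))]
  (i : C ⟶ X) [IsClosedImmersion i] (hi : i ≫ (X ↘ Spec (CommRingCat.of k)) = C ↘ Spec (CommRingCat.of k))

include hi in
theorem euler_cut (hdim : topologicalKrullDim X ≤ (2 : ℕ)) (I : X.IdealSheafData) (hI : i.ker = I) {M : X.Modules}
    (hM : PicF.IsInvertible M) :
    FGA.eulerCharLE k X M 2 = FGA.eulerCharLE k X (CohB1.tensorMod M (ClSub.idealMod I)) 2 +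
      FGA.eulerCharLE k C ((Scheme.Modules.pullback i).obj M) 2 := by
  rw [euler_cut_quot k hdim I hM]
  congr 1
  rw [← euler_iso k C (Tens.runit ((Scheme.Modules.pullback i).obj M)) 2]
  obtain ⟨e⟩ := nonempty_push_iso_quotMod i I hI
  rw [← euler_iso k X (Tens.mapTIso (Iso.refl M) e) 2]
  exact euler_tensor_push k i hi hM (Coh.structureModule C) 2

include hi in
theorem euler_cut_one (hdim : topologicalKrullDim X ≤ (2 : ℕ)) (I : X.IdealSheafData) (hI : i.ker = I) :
    FGA.eulerCharLE k X (Coh.structureModule X) 2 = FGA.eulerCharLE k X (ClSub.idealMod I) 2 +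
      FGA.eulerCharLE k C (Coh.structureModule C) 2 := by
  have h := euler_cut k i hi hdim I hI (M := Coh.structureModule X) Fdesc.LocGen.isInvertible_structureModule
  rw [euler_iso k X (Tens.lunit (ClSub.idealMod I)) 2] at h
  obtain ⟨e⟩ := Ega3B.PullTensor.nonempty_pullUnitIso i
  rw [euler_iso k C e 2] at h
  exact h

include hi in
/-- `(I·M) = χ(C, O_C) - χ(C, M|_C)` for a closed immersion `C ⟶ X` with ideal `I`. -/
theorem intNum_ideal (hdim : topologicalKrullDim X ≤ (2 : ℕ)) (I : X.IdealSheafData) (hI : i.ker = I)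
    {M : X.Modules} (hM : PicF.IsInvertible M) :
    FGA.intNum k X 2 ![ClSub.idealMod I, M] (Coh.structureModule X) =
      FGA.eulerCharLE k C (Coh.structureModule C) 2 -
        FGA.eulerCharLE k C ((Scheme.Modules.pullback i).obj M) 2 := by
  have h1 := euler_cut k i hi hdim I hI hM
  have h2 := euler_cut_one k i hi hdim I hI
  rw [RR.intNum_two, h2, h1, euler_iso k X (Tens.swap (ClSub.idealMod I) M) 2]
  ring

end K455.CutKer
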