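import Groth.Agent.Surf.K455.RR
import Groth.Agent.Surf.K455.CutKer
import Groth.Agent.Surf.K461.SerreDual
import Groth.Agent.Grpsch.PicGrp
import Groth.Agent.Fga.IntAdd

/-!
# Riemann–Roch and adjunction on smooth proper surfaces

`X` proper and smooth of relative dimension two over a field `k`, `W` the canonical module.
* `euler_dual`: `χ(L) = χ(W ⊗ L')` for `L ⊗ L' ≅ O`;
* `rr`: `2 χ(L) = (L·L) - (L·W) + 2 χ(O)`;
* `adjunction`: `(I·I) - (I·W) = -2 χ(C, O_C)` for an effective Cartier divisor `C` with ideal `I`.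
* `finrank_two`: `h²(L) = h⁰(W ⊗ L')`.
-/

set_option autoImplicit false
universe u
open CategoryTheory CategoryTheory.Limits AlgebraicGeometry TopologicalSpace

namespace K455.SmoothRR

open Groth.Agent Groth.Agent.Ega2 Groth.Agent.Fga.PicMon Groth.Agent.Grpsch.PicGrp

variable (k : Type u) [Field k] {X : Scheme.{u}} [X.Over (Spec (CommRingCat.of k))]
  [IsProper (X ↘ Spec (CommRingCat.of k))] [SmoothOfRelativeDimension 2 (X ↘ Spec (CommRingCat.of k))]
  {W : X.Modules} (hW : ExtPow.IsExtPow 2 (Omega.sheaf (X ↘ Spec (CommRingCat.of k))) W)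

include hW

/-- `h^p(L) = h^{2-p}(W ⊗ L')`. -/
theorem finrank_dual {L L' : X.Modules} (hL : PicF.IsInvertible L)
    (e : Nonempty (CohB1.tensorMod L L' ≅ Coh.structureModule X)) (m p : ℕ) (h : m + p = 2) :
    Module.finrank k (Coh.HH X L p) = Module.finrank k (Coh.HH X (CohB1.tensorMod W L') m) :=
  K461.SerreDual.finrank_eq k 2 hW e (QCohLocal.isQCoh_of_isInvertible hL) m p h

theorem euler_dual {L L' : X.Modules} (hL : PicF.IsInvertible L)
    (e : Nonempty (CohB1.tensorMod L L' ≅ Coh.structureModule X)) :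
    FGA.eulerCharLE k X L 2 = FGA.eulerCharLE k X (CohB1.tensorMod W L') 2 := by
  unfold FGA.eulerCharLE
  simp only [Finset.sum_range_succ, Finset.sum_range_zero]
  rw [finrank_dual k hW hL e 2 0 rfl, finrank_dual k hW hL e 1 1 rfl, finrank_dual k hW hL e 0 2 rfl]
  ring

theorem euler_W : FGA.eulerCharLE k X W 2 = FGA.eulerCharLE k X (Coh.structureModule X) 2 := by
  rw [euler_dual k hW (L := Coh.structureModule X) (L' := Coh.structureModule X)
    Fdesc.LocGen.isInvertible_structureModule ⟨Tens.runit _⟩, euler_iso k X (Tens.runit W) 2]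

/-- **Riemann–Roch.** -/
theorem rr (hdim : topologicalKrullDim X ≤ (2 : ℕ)) {L : X.Modules} (hL : PicF.IsInvertible L) :
    2 * FGA.eulerCharLE k X L 2 = FGA.intNum k X 2 ![L, L] (Coh.structureModule X) -
      FGA.intNum k X 2 ![L, W] (Coh.structureModule X) + 2 * FGA.eulerCharLE k X (Coh.structureModule X) 2 := by
  obtain ⟨L', hL', ⟨e⟩⟩ := exists_inverse hL
  refine RR.rr_of_duality k hdim L L' W hL hL' ?_ (euler_W k hW) ?_
  · rw [← mc_tensor, ← mc_one, mc_eq_iff]
    exact ⟨e⟩
  · rw [euler_dual k hW hL' ⟨Tens.swap L' L ≪≫ e⟩, euler_iso k X (Tens.swap L W) 2]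

/-- **Adjunction.** -/
theorem adjunction (hdim : topologicalKrullDim X ≤ (2 : ℕ)) {C : Scheme.{u}} [C.Over (Spec (CommRingCat.of k))]
    (i : C ⟶ X) [IsClosedImmersion i] (hi : i ≫ (X ↘ Spec (CommRingCat.of k)) = C ↘ Spec (CommRingCat.of k))
    (hI : PicF.IsInvertible (ClSub.idealMod i.ker)) :
    FGA.intNum k X 2 ![ClSub.idealMod i.ker, ClSub.idealMod i.ker] (Coh.structureModule X) -
        FGA.intNum k X 2 ![ClSub.idealMod i.ker, W] (Coh.structureModule X) =
      -2 * FGA.eulerCharLE k C (Coh.structureModule C) 2 := by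
  have h1 := rr k hW hdim hI
  have h2 := CutKer.euler_cut_one k i hi hdim i.ker rfl
  linarith

end K455.SmoothRR
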