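import Groth.Agent.Picfga.CurveRelDim
import Groth.Agent.CurvesC.NormSections
import Groth.Agent.Lefpen.H705.ClosedPoint
import Groth.Agent.Ega2.SmoothBdry
import Groth.Agent.CalgA.RegBasic

/-!
# Smooth schemes over a field are smooth of relative dimension their dimension
-/

set_option autoImplicit false
universe u
open CategoryTheory CategoryTheory.Limits AlgebraicGeometry TopologicalSpace

namespace K455.RelDim

open Groth.Agent

variable (k : Type u) [Field k]

/-- A regular scheme with connected Noetherian space is integral. -/
theorem isIntegral_of_regular {X : Scheme.{u}} [IsNoetherian X] [ConnectedSpace X]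
    (hreg : ∀ x : X, IsRegularLocalRing (X.presheaf.stalk x)) : IsIntegral X := by
  have hdom : ∀ x : X, IsDomain (X.presheaf.stalk x) := fun x => CalgA.RegBasic.isDomain _
  have hirr : IrreducibleSpace X := by
    obtain ⟨x⟩ : Nonempty X := inferInstance
    have hZ := irreducibleComponent_mem_irreducibleComponents x
    have h1 : IsClopen (irreducibleComponent x) :=
      ⟨isClosed_irreducibleComponent, CurvesC.NormSections.isOpen_of_mem_irreducibleComponents hdom hZ⟩
    have h2 : irreducibleComponent x = Set.univ := h1.eq_univ ⟨x, mem_irreducibleComponent⟩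
    have h3 : IsIrreducible (Set.univ : Set X) := h2 ▸ isIrreducible_irreducibleComponent
    exact (irreducibleSpace_def X).2 h3
  have hred : IsReduced X := isReduced_of_isReduced_stalk X
  exact isIntegral_of_irreducibleSpace_of_isReduced X

/-- A smooth scheme all of whose irreducible components have dimension `n` is smooth of relative dimension `n`. -/
theorem smoothOfRelativeDimension {X : Scheme.{u}} [IsNoetherian X] (f : X ⟶ Spec (CommRingCat.of k)) [Smooth f]
    (n : ℕ) (hdim : ∀ Z ∈ irreducibleComponents (X : Type u), topologicalKrullDim Z = n) :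
    SmoothOfRelativeDimension n f := by
  have hreg : ∀ x : X, IsRegularLocalRing (X.presheaf.stalk x) :=
    Lefpen.H705.ClosedPoint.isRegularLocalRing_stalk f
  have hdom : ∀ x : X, IsDomain (X.presheaf.stalk x) := fun x => CalgA.RegBasic.isDomain _
  have hred : IsReduced X := isReduced_of_isReduced_stalk X
  let U : X → X.Opens := fun x => ⟨irreducibleComponent x,
    CurvesC.NormSections.isOpen_of_mem_irreducibleComponents hdom (irreducibleComponent_mem_irreducibleComponents x)⟩
  rw [IsZariskiLocalAtSource.iff_of_iSup_eq_top (P := @SmoothOfRelativeDimension n) U (by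
    rw [eq_top_iff]
    intro x _
    rw [TopologicalSpace.Opens.mem_iSup]
    exact ⟨x, mem_irreducibleComponent⟩)]
  intro x
  have hirr : IrreducibleSpace (U x) := (isIrreducible_iff_irreducibleSpace).1 isIrreducible_irreducibleComponent
  have hint : IsIntegral (U x : Scheme.{u}) := by
    have h1 : IrreducibleSpace (U x : Scheme.{u}) := hirr
    exact isIntegral_of_irreducibleSpace_of_isReduced _
  exact Picfga.CurveRelDim.smoothOfRelativeDimension_of_topologicalKrullDim_eq k (U x) ((U x).ι ≫ f) n
    (hdim _ (irreducibleComponent_mem_irreducibleComponents x))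

/-- A regular scheme of finite type over a perfect field is smooth. -/
theorem smooth_of_regular [PerfectField k] {X : Scheme.{u}} (f : X ⟶ Spec (CommRingCat.of k)) [LocallyOfFiniteType f]
    (hreg : ∀ x : X, IsRegularLocalRing (X.presheaf.stalk x)) : Smooth f :=
  Ega2.SmoothBdry.smooth_of_regular f hreg

end K455.RelDim
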