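import Groth.Agent.Fga.HodgePush
import Groth.Agent.Fga.IntAdd
import Groth.Agent.Fga.ChiBasic
import Groth.Agent.Fga.UnitRestrict
import Groth.Agent.Dix.IdealModSec
import Groth.Agent.S0031
import Groth.Agent.S0927
import Groth.Agent.S3231
import Groth.Agent.Vancyc.H175.FibSupp
import Groth.Agent.Fixpt.H907.Supp
import Groth.Agent.Ega3B.RpushAbCmp
import Groth.Agent.CurvesC.UnitCoh

/-!
# Intersection numbers under modifications

`intNum_pullback`: let `g : Z ⟶ X` be a morphism of proper `k`-schemes of dimension `≤ d` which is an isomorphism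
over an open `V ⊆ X` with `dim (X ∖ V) < r`. Then `(g^*M_1 ⋯ g^*M_r · O_Z) = (M_1 ⋯ M_r · O_X)`.
-/

set_option autoImplicit false
universe u
open CategoryTheory CategoryTheory.Limits AlgebraicGeometry TopologicalSpace

namespace K455.BirInt

open Groth.Agent Groth.Agent.Ega2 Groth.Agent.Fga.PicMon Groth.Agent.Fga.HodgePush

variable {X : Scheme.{u}}

theorem isCoh_of_isInvertible [IsLocallyNoetherian X] {L : X.Modules} (hL : PicF.IsInvertible L) : Coh.IsCoh L :=
  Sga67.CohBasic.isCoh_of_iso (Tens.runit L) (Fga.SnapperTwist.isCoh_tensor' hL (CurvesC.UnitCoh.isCoh_unit X))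

theorem isFinLocFree_of_isInvertible {L : X.Modules} (hL : PicF.IsInvertible L) : FlatMod.IsFinLocFree L :=
  QCohLocal.isFinLocFree_of_rank (QCohLocal.isFinLocFreeOfRank_one_iff.mpr hL)

/-- The kernel of a map injective on the opens inside `U` is supported off `U`. -/
theorem support_kernel_of_injective {N M : X.Modules} (f : N ⟶ M) (U : X.Opens)
    (h : ∀ V : X.Opens, V ≤ U → Function.Injective (f.app V)) :
    CohB1.support (kernel f) ⊆ (U : Set X)ᶜ := by
  intro x hx hxU
  refine CohqB.DevSupport.not_mem_support_of_sections _ U (fun V hV => ?_) x hxU hx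
  refine ⟨fun s t => ?_⟩
  have hinj : Function.Injective ((kernel.ι f).app V) := Dix.IdealModSec.kernel_app_injective f V
  apply hinj
  apply h V hV
  have h3 : ∀ z : Γ(kernel f, V), f.app V ((kernel.ι f).app V z) = 0 := by
    intro z
    have := congr((Scheme.Modules.Hom.app $(kernel.condition f) V) z)
    exact this
  rw [h3, h3]

/-- `g.app W` is bijective for `W` inside an open over which `g` is an isomorphism. -/
theorem app_bijective {Z : Scheme.{u}} (g : Z ⟶ X) (V : X.Opens) [IsIso (g ∣_ V)] (W : X.Opens) (hW : W ≤ V) :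
    Function.Bijective (g.app W) := by
  have h1 := morphismRestrict_app g V (V.ι ⁻¹ᵁ W)
  have h2 : V.ι ''ᵁ V.ι ⁻¹ᵁ W = W := by
    simpa [Scheme.Hom.image_preimage_eq_opensRange_inf] using hW
  have h3 : IsIso (g.app (V.ι ''ᵁ V.ι ⁻¹ᵁ W)) := by
    have : IsIso ((g ∣_ V).app (V.ι ⁻¹ᵁ W)) := inferInstance
    rw [h1] at this
    have h4 : IsIso (Z.presheaf.map (eqToHom (image_morphismRestrict_preimage g V (V.ι ⁻¹ᵁ W))).op) := inferInstance
    exact @IsIso.of_isIso_comp_right _ _ _ _ _ _ _ h4 this
  rw [h2] at h3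
  exact ConcreteCategory.bijective_of_isIso (g.app W)

section

variable (k : Type u) [Field k] {Z : Scheme.{u}} [X.Over (Spec (CommRingCat.of k))] [Z.Over (Spec (CommRingCat.of k))]
  [IsProper (X ↘ (Spec (CommRingCat.of k)))] [IsProper (Z ↘ (Spec (CommRingCat.of k)))]

/-- Leray for the twists of the structure sheaf by pulled back invertible modules. -/
theorem euler_pullback (g : Z ⟶ X) (hg : g ≫ (X ↘ (Spec (CommRingCat.of k))) = Z ↘ (Spec (CommRingCat.of k)))
    [HasInjectiveResolutions Z.Modules] {N : X.Modules} (hN : PicF.IsInvertible N) :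
    Curv2.euler k Z ((Scheme.Modules.pullback g).obj N) =
      ∑ᶠ i : ℕ, (-1 : ℤ) ^ i *
        Curv2.euler k X (CohB1.tensorMod N ((Coh.Rpush g i).obj (Coh.structureModule Z))) := by
  have hinv : PicF.IsInvertible ((Scheme.Modules.pullback g).obj N) := Fdesc.LocGen.isInvertible_pullback g hN
  have nZ : IsNoetherian Z := Fga.IntAdd.isNoetherian k Z
  rw [S1525.result k X Z g hg _ (isCoh_of_isInvertible hinv)]
  refine finsum_congr fun i => ?_
  congr 1
  have hflf : FlatMod.IsFinLocFree N := isFinLocFree_of_isInvertible hN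
  obtain ⟨e⟩ := S0927.result g (Coh.structureModule Z) N hflf i
  exact euler_congr k X ((Coh.Rpush g i).mapIso (Tens.runit _).symm ≪≫ e.symm)

/-- The higher direct images vanish for large degree. -/
theorem exists_bound (g : Z ⟶ X) [IsProper g] [IsNoetherian X] [HasInjectiveResolutions Z.Modules] :
    ∃ n : ℕ, ∀ i, n ≤ i → IsZero ((Coh.Rpush g i).obj (Coh.structureModule Z)) := by
  obtain ⟨n, hn⟩ := S0031.result g
  exact ⟨n, fun i hi => (Ega3B.RpushAbCmp.isZero_RpushAb_iff g _ i).mp
    (hn _ (CurvesC.UnitCoh.isCoh_unit Z).1 i hi)⟩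

theorem topologicalKrullDim_mono {T : Type*} [TopologicalSpace T] {A B : Set T} (h : A ⊆ B) :
    topologicalKrullDim A ≤ topologicalKrullDim B :=
  (Topology.IsEmbedding.inclusion h).isInducing.topologicalKrullDim_le

/-- Intersection numbers of pulled back modules, under a morphism which is an isomorphism off a small closed
subset. -/
theorem intNum_pullback (g : Z ⟶ X) (hg : g ≫ (X ↘ (Spec (CommRingCat.of k))) = Z ↘ (Spec (CommRingCat.of k)))
    (d e : ℕ) (hd : topologicalKrullDim X ≤ d) (he : topologicalKrullDim Z ≤ e)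
    (V : X.Opens) [IsIso (g ∣_ V)] {r : ℕ} (hV : topologicalKrullDim ((V : Set X)ᶜ : Set X) < r)
    (M : Fin r → X.Modules) (hM : ∀ i, PicF.IsInvertible (M i)) :
    FGA.intNum k Z e (fun i => (Scheme.Modules.pullback g).obj (M i)) (Coh.structureModule Z) =
      FGA.intNum k X d M (Coh.structureModule X) := by
  have nX : IsNoetherian X := Fga.IntAdd.isNoetherian k X
  have nZ : IsNoetherian Z := Fga.IntAdd.isNoetherian k Z
  have hgp : IsProper g := by
    have : IsProper (g ≫ (X ↘ (Spec (CommRingCat.of k)))) := hg ▸ inferInstance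
    exact IsProper.of_comp g (X ↘ (Spec (CommRingCat.of k)))
  have := Dcoh.DerSch.hasInjectiveResolutions Z
  obtain ⟨n, hn⟩ := exists_bound g
  have hcohZ : Coh.IsCoh (Coh.structureModule Z) := CurvesC.UnitCoh.isCoh_unit Z
  have hcohX : Coh.IsCoh (Coh.structureModule X) := CurvesC.UnitCoh.isCoh_unit X
  have hadd := Fga.IntAdd.isAdd_intNum k X d hd M hM
  -- the sum over the higher direct images
  have key : FGA.intNum k Z e (fun i => (Scheme.Modules.pullback g).obj (M i)) (Coh.structureModule Z) =
      ∑ i ∈ Finset.range (n + 1), (-1 : ℤ) ^ i * FGA.intNum k X d M ((Coh.Rpush g i).obj (Coh.structureModule Z)) := by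
    unfold FGA.intNum
    simp only [Finset.mul_sum]
    rw [Finset.sum_comm]
    refine Finset.sum_congr rfl fun I _ => ?_
    obtain ⟨e1⟩ := nonempty_pull_word g M hM I
    have hinv := isInvertible_word M hM I
    rw [Fga.IntAdd.eulerCharLE_eq k Z e he,
      euler_congr k Z (Tens.mapTIso e1.symm (Iso.refl _) ≪≫ Tens.runit _),
      euler_pullback k g hg hinv, finsum_eq_sum_of_support_subset (s := Finset.range (n + 1)), Finset.mul_sum]
    · refine Finset.sum_congr rfl fun i _ => ?_
      rw [Fga.IntAdd.eulerCharLE_eq k X d hd]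
      ring
    · intro i hi
      simp only [Function.mem_support] at hi
      simp only [Finset.coe_range, Set.mem_Iio]
      by_contra hlt
      refine hi ?_
      have h0 : IsZero (CohB1.tensorMod (word M I) ((Coh.Rpush g i).obj (Coh.structureModule Z))) :=
        (DCoh.tensorBi.obj (word M I)).map_isZero (hn i (by omega))
      rw [← Fga.IntAdd.eulerCharLE_eq k X d hd, Fga.ChiBasic.chi_isZero (Fga.IntAdd.isAdd_euler k X d hd) h0, mul_zero]
  rw [key, Finset.sum_range_succ', Finset.sum_eq_zero, zero_add, pow_zero, one_mul]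
  · -- degree zero
    let φ : Coh.structureModule X ⟶ (Coh.push g).obj (Coh.structureModule Z) := Fga.UnitRestrict.unitToPush g
    have hcp : Coh.IsCoh ((Coh.push g).obj (Coh.structureModule Z)) := isCoh_push g hcohZ
    have e0 : (Coh.Rpush g 0).obj (Coh.structureModule Z) ≅ (Coh.push g).obj (Coh.structureModule Z) :=
      (Scheme.Modules.pushforward g).rightDerivedZeroIsoSelf.app _
    rw [Fga.ChiBasic.chi_iso hadd e0 (S0036.result g _ hcohZ 0)]
    have hmap := Fga.ChiBasic.chi_map hadd φ hcohX hcp
    have hker : FGA.intNum k X d M (kernel φ) = 0 := by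
      refine S3231.result k X d hd M hM _ (Sga67.CohBasic.isCoh_kernel φ hcohX hcp.1) ?_
      refine lt_of_le_of_lt (topologicalKrullDim_mono ?_) hV
      exact support_kernel_of_injective φ V fun W hW => (app_bijective g V W hW).1
    have hcok : FGA.intNum k X d M (cokernel φ) = 0 := by
      refine S3231.result k X d hd M hM _ (Sga67.CohBasic.isCoh_cokernel φ hcohX.1 hcp) ?_
      refine lt_of_le_of_lt (topologicalKrullDim_mono ?_) hV
      exact Fixpt.H907.Supp.support_cokernel_of_surjective φ V fun W hW => (app_bijective g V W hW).2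
    simp only [hker, hcok, add_zero] at hmap
    exact hmap.symm
  · intro i _
    rw [S3231.result k X d hd M hM _ (S0036.result g _ hcohZ (i + 1)), mul_zero]
    refine lt_of_le_of_lt (topologicalKrullDim_mono ?_) hV
    refine Vancyc.H175.FibSupp.support_rpush_subset g hcohZ (i + 1) (by omega) _ fun z hz => ?_
    have hzV : z ∈ V := by simpa using hz
    -- the fibre over a point of `V`
    have hs : (g.base ⁻¹' {z}).Subsingleton := by
      intro a ha b hb
      have ha' : g a = z := ha
      have hb' : g b = z := hb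
      have haV : a ∈ g ⁻¹ᵁ V := by rw [Scheme.Hom.mem_preimage]; rw [ha']; exact hzV
      have hbV : b ∈ g ⁻¹ᵁ V := by rw [Scheme.Hom.mem_preimage]; rw [hb']; exact hzV
      have hinj : Function.Injective (g ∣_ V) := (g ∣_ V).homeomorph.injective
      have : (⟨a, haV⟩ : (g ⁻¹ᵁ V : Z.Opens)) = ⟨b, hbV⟩ := by
        apply hinj
        apply V.ι.isOpenEmbedding.injective
        rw [← Scheme.Hom.comp_apply, ← Scheme.Hom.comp_apply, morphismRestrict_ι]
        simp only [Scheme.Hom.comp_apply]
        change g a = g b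
        rw [ha', hb']
      exact congrArg Subtype.val this
    exact hs.finite

end

end K455.BirInt
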