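import Groth.Agent.Surf.K455.Cut
import Groth.Agent.Divis.CartierStalk
import Groth.Agent.Models2.CIFlat
import Groth.Agent.Fga.DimCut
import Groth.Agent.Dix.InterNum

/-!
# Intersection of two effective Cartier divisors without common component on a Cohen–Macaulay surface
-/

set_option autoImplicit false
universe u
open CategoryTheory CategoryTheory.Limits AlgebraicGeometry TopologicalSpace RingTheory.Sequence IsLocalRing

namespace K455.CMCut

open Groth.Agent Groth.Agent.Divis Groth.Agent.Divis.CartierBasic Groth.Agent.Divis.CartierStalk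

section Dim

variable (k : Type u) [Field k] (X : Scheme.{u}) [X.Over (Spec (CommRingCat.of k))]
  [LocallyOfFiniteType (X ↘ (Spec (CommRingCat.of k)))]

include k in
/-- If every irreducible component of `X` has dimension `n`, then the local rings at closed points have dimension
at least `n`. -/
theorem le_ringKrullDim_stalk (n : ℕ) (hdim : ∀ Z ∈ irreducibleComponents (X : Type u), topologicalKrullDim Z = n)
    (x : X) (hx : IsClosed ({x} : Set X)) : (n : WithBot ℕ∞) ≤ ringKrullDim (X.presheaf.stalk x) := by
  obtain ⟨Z, hZ, hxZ⟩ : ∃ Z ∈ irreducibleComponents (X : Type u), x ∈ Z :=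
    ⟨irreducibleComponent x, irreducibleComponent_mem_irreducibleComponents x, mem_irreducibleComponent⟩
  have hZc : IsClosed Z := isClosed_of_mem_irreducibleComponents Z hZ
  let I : X.IdealSheafData := Scheme.IdealSheafData.vanishingIdeal ⟨Z, hZc⟩
  have hsup : (I.support : Set X) = Z := Scheme.IdealSheafData.coe_support_vanishingIdeal _
  have hr : Set.range I.subschemeι = Z := by rw [I.range_subschemeι, hsup]
  obtain ⟨z, hz⟩ : x ∈ Set.range I.subschemeι := by rw [hr]; exact hxZ
  let e : I.subscheme ≃ₜ Set.range I.subschemeι := I.subschemeι.isEmbedding.toHomeomorph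
  have hirr : IrreducibleSpace I.subscheme := by
    have h1 : IsIrreducible (Set.range I.subschemeι) := by
      rw [hr]
      exact hZ.1
    have := Subtype.irreducibleSpace h1
    exact e.symm.surjective.irreducibleSpace e.symm.continuous
  let : I.subscheme.Over (Spec (CommRingCat.of k)) := ⟨I.subschemeι ≫ (X ↘ (Spec (CommRingCat.of k)))⟩
  have : LocallyOfFiniteType (I.subscheme ↘ (Spec (CommRingCat.of k))) :=
    inferInstanceAs (LocallyOfFiniteType (I.subschemeι ≫ (X ↘ (Spec (CommRingCat.of k)))))
  have hzc : IsClosed ({z} : Set I.subscheme) := by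
    have h1 : ({z} : Set I.subscheme) = I.subschemeι ⁻¹' {x} := by
      ext w
      simp only [Set.mem_singleton_iff, Set.mem_preimage]
      constructor
      · rintro rfl; exact hz
      · intro hw
        exact I.subschemeι.isEmbedding.injective (hw.trans hz.symm)
    rw [h1]
    exact hx.preimage I.subschemeι.continuous
  have h1 := Fga.DimCut.ringKrullDim_stalk_eq k I.subscheme z hzc
  have h2 : topologicalKrullDim I.subscheme = n := by
    have h3 : topologicalKrullDim I.subscheme = topologicalKrullDim (Set.range I.subschemeι) :=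
      e.isHomeomorph.topologicalKrullDim_eq
    rw [h3, hr, hdim Z hZ]
  rw [← h2, ← h1]
  subst hz
  exact ringKrullDim_le_of_surjective _ (stalkMap_subschemeι_surjective I z)

end Dim

/-- Points of a finite closed subset of a scheme of finite type over a field are closed. -/
theorem isClosed_of_finite {X : Scheme.{u}} [JacobsonSpace X] {T : Set X} (hT : IsClosed T) (hfin : T.Finite)
    {x : X} (hx : x ∈ T) : IsClosed ({x} : Set X) := by
  have h1 : closure ({x} : Set X) ⊆ T := hT.closure_subset_iff.2 (Set.singleton_subset_iff.2 hx)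
  have h2 := closure_inter_closedPoints (Z := closure ({x} : Set X)) isClosed_closure
  have h3 : x ∈ closure (closure ({x} : Set X) ∩ closedPoints X) := by
    rw [h2]
    exact subset_closure rfl
  have h4 : (closure ({x} : Set X) ∩ closedPoints X).Finite := (hfin.subset h1).subset Set.inter_subset_left
  have h5 : IsClosed (closure ({x} : Set X) ∩ closedPoints X) := by
    rw [← Set.biUnion_of_singleton (closure ({x} : Set X) ∩ closedPoints X)]
    exact h4.isClosed_biUnion fun y hy => hy.2
  rw [h5.closure_eq] at h3
  exact h3.2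

variable {X : Scheme.{u}}

/-- On a Cohen–Macaulay scheme, an effective Cartier divisor `D` restricts to an effective Cartier divisor on an
effective Cartier divisor `C`, if the local rings at the points of `C ∩ D` have dimension at least two and the
intersection is zero-dimensional there. -/
theorem isEff_comap [IsLocallyNoetherian X] (IC ID : X.IdealSheafData) (hC : BlowUp.IsEffCartierIdeal IC)
    (hD : BlowUp.IsEffCartierIdeal ID)
    (hCM : ∀ x ∈ (IC ⊔ ID).support, LocCoh.IsCohenMacaulayLocalRing (X.presheaf.stalk x))
    (hdim : ∀ x ∈ (IC ⊔ ID).support, 2 ≤ ringKrullDim (X.presheaf.stalk x))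
    (hmin : ∀ x ∈ (IC ⊔ ID).support, ∀ y ∈ (IC ⊔ ID).support, y ⤳ x → y = x) :
    BlowUp.IsEffCartierIdeal (ID.comap IC.subschemeι) := by
  have hLN : IsLocallyNoetherian IC.subscheme := LocallyOfFiniteType.isLocallyNoetherian IC.subschemeι
  refine isEffCartierIdeal_of_stalkIdeal _ fun z hz => ?_
  set x := IC.subschemeι z with hxdef
  have hxC : x ∈ IC.support := subschemeι_mem_support IC z
  have hz' : stalkIdeal (ID.comap IC.subschemeι) z ≠ ⊤ := (mem_support_iff_stalkIdeal_ne_top _ _).1 hz
  obtain ⟨f, hf, hIf⟩ := exists_stalkIdeal_eq_span hC x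
  obtain ⟨g, hg, hIg⟩ := exists_stalkIdeal_eq_span hD x
  have hcomap : stalkIdeal (ID.comap IC.subschemeι) z = Ideal.span {(IC.subschemeι.stalkMap z).hom g} := by
    rw [stalkIdeal_comap, hIg, Ideal.map_span, Set.image_singleton]
  have hsup : stalkIdeal (IC ⊔ ID) x = Ideal.span {f} ⊔ Ideal.span {g} := by
    rw [stalkIdeal_sup, hIf, hIg]
  have hfm : f ∈ maximalIdeal (X.presheaf.stalk x) := by
    have h1 := (mem_support_iff_stalkIdeal_le IC x).1 hxC
    rw [hIf] at h1
    exact h1 (Ideal.mem_span_singleton_self f)
  have hgm : g ∈ maximalIdeal (X.presheaf.stalk x) := by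
    by_contra hgu
    rw [mem_maximalIdeal, mem_nonunits_iff, not_not] at hgu
    apply hz'
    rw [hcomap, Ideal.span_singleton_eq_top]
    exact hgu.map _
  have hxs : x ∈ (IC ⊔ ID).support := by
    rw [mem_support_iff_stalkIdeal_le, hsup]
    exact sup_le (by rwa [Ideal.span_singleton_le_iff_mem]) (by rwa [Ideal.span_singleton_le_iff_mem])
  have hcm := hCM x hxs
  have hreg : IsWeaklyRegular (X.presheaf.stalk x) [f, g] := by
    refine Models2.CIFlat.isWeaklyRegular_of_forall_prime hcm _ ?_ (hdim x hxs) ?_
    · intro a ha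
      simp only [List.mem_cons, List.not_mem_nil, or_false] at ha
      rcases ha with rfl | rfl
      · exact (mem_maximalIdeal _).1 hfm
      · exact (mem_maximalIdeal _).1 hgm
    · intro r hr hmem
      have h1 := CartierDim.eq_maximalIdeal_of_stalkIdeal_le (IC ⊔ ID) x
        (fun y hy hyx => hmin x hxs y hy hyx) r (by
          rw [hsup]
          refine sup_le ?_ ?_
          · rw [Ideal.span_singleton_le_iff_mem]; exact hmem f (by simp)
          · rw [Ideal.span_singleton_le_iff_mem]; exact hmem g (by simp))
      rw [h1]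
      exact IsLocalRing.maximalIdeal.isMaximal _
  have hker : RingHom.ker (IC.subschemeι.stalkMap z).hom = Ideal.span {f} := by
    rw [ker_stalkMap_subschemeι, hIf]
  refine ⟨(IC.subschemeι.stalkMap z).hom g, ?_, hcomap⟩
  rw [mem_nonZeroDivisors_iff_right]
  intro w hw
  obtain ⟨a, rfl⟩ := stalkMap_subschemeι_surjective IC z w
  rw [← map_mul, ← RingHom.mem_ker, hker, Ideal.mem_span_singleton] at hw
  rw [← RingHom.mem_ker, hker, Ideal.mem_span_singleton]
  -- `g` is a nonzerodivisor modulo `f`
  rw [isWeaklyRegular_cons_iff, isWeaklyRegular_cons_iff] at hreg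
  have h1 := hreg.2.1
  have hmem : ∀ b : X.presheaf.stalk x, (Submodule.Quotient.mk b : QuotSMulTop f (X.presheaf.stalk x)) = 0 ↔ f ∣ b := by
    intro b
    rw [Submodule.Quotient.mk_eq_zero, Submodule.mem_smul_pointwise_iff_exists]
    constructor
    · rintro ⟨c, -, rfl⟩
      exact ⟨c, rfl⟩
    · rintro ⟨c, rfl⟩
      exact ⟨c, trivial, rfl⟩
  rw [← hmem]
  apply h1
  change g • (Submodule.Quotient.mk a : QuotSMulTop f (X.presheaf.stalk x)) = g • (0 : QuotSMulTop f (X.presheaf.stalk x))
  rw [smul_zero, ← Submodule.Quotient.mk_smul, hmem, smul_eq_mul, mul_comm]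
  exact hw

end K455.CMCut
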