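import Groth.Agent.Surf.K455.ExcInt
import Groth.Agent.Surf.K455.BirInt
import Groth.Agent.Surf.K455.CMCut
import Groth.Agent.Dix.ContractSurf
import Groth.Agent.Divis.BlowUpFormal
import Groth.Agent.Flat2C.BlowProper

/-!
# The blow-up of a surface in a closed point

* `dim_blowUp_le`: the blow-up of a closed point with regular local ring of dimension two in a scheme of dimension at
  most two has dimension at most two;
* `isProper_blowUp`;
* `main`: the three rules for intersection numbers on the blow-up.
-/

set_option autoImplicit false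
universe u
open CategoryTheory CategoryTheory.Limits AlgebraicGeometry TopologicalSpace IsLocalRing

namespace K455.BlowDim

open Groth.Agent Groth.Agent.Ega2 Groth.Agent.Dix.PointIdeal Groth.Agent.Divis.CartierStalk
  Groth.Agent.Divis.CartierBasic

/-- The dimension of the local rings along an effective Cartier divisor. -/
theorem ringKrullDim_stalk_le_of_isEff {X : Scheme.{u}} [IsLocallyNoetherian X] (I : X.IdealSheafData)
    (hI : BlowUp.IsEffCartierIdeal I) (n : ℕ) (hdim : topologicalKrullDim I.subscheme ≤ n) (x : X)
    (hx : x ∈ I.support) : ringKrullDim (X.presheaf.stalk x) ≤ ((n + 1 : ℕ) : WithBot ℕ∞) := by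
  obtain ⟨z, rfl⟩ := exists_subscheme_apply_eq I hx
  obtain ⟨f, hf, hIf⟩ := exists_stalkIdeal_eq_span hI (I.subschemeι z)
  have hfm : f ∈ maximalIdeal (X.presheaf.stalk (I.subschemeι z)) := by
    have h1 := (mem_support_iff_stalkIdeal_le I _).1 hx
    rw [hIf] at h1
    exact h1 (Ideal.mem_span_singleton_self f)
  have h1 := Ideal.height_le_ringKrullDim_quotient_add_one hfm
  rw [IsLocalRing.maximalIdeal_height_eq_ringKrullDim] at h1
  have h2 : ringKrullDim (X.presheaf.stalk (I.subschemeι z) ⧸ Ideal.span {f}) =
      ringKrullDim (I.subscheme.presheaf.stalk z) := by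
    rw [← hIf]
    exact ringKrullDim_eq_of_ringEquiv (stalkQuotEquiv I z)
  have h3 : ringKrullDim (I.subscheme.presheaf.stalk z) ≤ n := by
    refine le_trans ?_ hdim
    rw [Dix.ContractSurf.topologicalKrullDim_eq I.subscheme]
    exact le_iSup (fun z : I.subscheme => ringKrullDim (I.subscheme.presheaf.stalk z)) z
  rw [h2] at h1
  refine h1.trans ?_
  push_cast
  gcongr

variable {X X' : Scheme.{u}} [IsLocallyNoetherian X] (π : X' ⟶ X) (x : X) (hx : IsClosed ({x} : Set X))

/-- The complement of a closed point. -/
abbrev compl {X : Scheme.{u}} (x : X) (hx : IsClosed ({x} : Set X)) : X.Opens := ⟨{x}ᶜ, hx.isOpen_compl⟩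

theorem isIso_restrict (hπ : BlowUp.IsBlowUp π (pt x hx)) : IsIso (π ∣_ compl x hx) := by
  refine Divis.BlowUpFormal.isIso_morphismRestrict_compl_support hπ _ ?_
  have h1 : ((pt x hx).support : Set X) = {x} := Scheme.IdealSheafData.coe_support_vanishingIdeal _
  rw [h1]
  exact Set.disjoint_left.2 fun y hy hy' => hy hy'

theorem isProper_blowUp (hπ : BlowUp.IsBlowUp π (pt x hx)) : IsProper π := by
  refine Flat2C.BlowProper.isProper_of_isBlowUp hπ ?_
  intro U
  have : IsNoetherianRing Γ(X, U.1) := IsLocallyNoetherian.component_noetherian U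
  exact IsNoetherian.noetherian _

variable [IsRegularLocalRing (X.presheaf.stalk x)] (hdim : ringKrullDim (X.presheaf.stalk x) = 2)
  (hπ : BlowUp.IsBlowUp π (pt x hx))

include hdim hπ in
theorem dim_exc_le : topologicalKrullDim ((pt x hx).comap π).subscheme ≤ (1 : ℕ) := by
  obtain ⟨i, hi, hker, -⟩ := ExcCurve.exists_curve π x hx hdim hπ
  have h1 : i.ker = ((pt x hx).comap π).subschemeι.ker := by rw [Scheme.IdealSheafData.ker_subschemeι, hker]
  have h2 := IsClosedImmersion.isIso_lift ((pt x hx).comap π).subschemeι i h1.symm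
  have h3 := (IsClosedImmersion.lift ((pt x hx).comap π).subschemeι i h1.symm.le).homeomorph.isHomeomorph.topologicalKrullDim_eq
  rw [← h3]
  letI : Field (X.presheaf.stalk x ⧸ maximalIdeal (X.presheaf.stalk x)) := Ideal.Quotient.field _
  exact CohqA.ProjDim.topologicalKrullDim_le _ 1

include hdim hπ in
/-- The blow-up has dimension at most two. -/
theorem dim_blowUp_le (h2 : topologicalKrullDim X ≤ (2 : ℕ)) : topologicalKrullDim X' ≤ (2 : ℕ) := by
  have hp := isProper_blowUp π x hx hπ
  have : IsLocallyNoetherian X' := LocallyOfFiniteType.isLocallyNoetherian π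
  rw [Dix.ContractSurf.topologicalKrullDim_eq X']
  refine iSup_le fun y => ?_
  by_cases hy : π y = x
  · refine ringKrullDim_stalk_le_of_isEff ((pt x hx).comap π) hπ.1 1 (dim_exc_le π x hx hdim hπ) y ?_
    rw [Scheme.IdealSheafData.support_comap]
    change π y ∈ (pt x hx).support
    have h1 : ((pt x hx).support : Set X) = {x} := Scheme.IdealSheafData.coe_support_vanishingIdeal _
    change π y ∈ ((pt x hx).support : Set X)
    rw [h1]
    exact hy
  · have := isIso_restrict π x hx hπ
    rw [← Dix.ContractSurf.ringKrullDim_stalk_eq π (compl x hx) y hy]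
    refine le_trans ?_ h2
    rw [Dix.ContractSurf.topologicalKrullDim_eq X]
    exact le_iSup (fun z : X => ringKrullDim (X.presheaf.stalk z)) (π y)

theorem topologicalKrullDim_singleton_le {T : Type*} [TopologicalSpace T] (y : T) :
    topologicalKrullDim ({y} : Set T) ≤ 0 :=
  topologicalKrullDim_zero_of_discreteTopology _

include hdim hπ in
/-- **The intersection theory of a point blow-up** (`X` proper over `k`, of dimension at most two, `x` a closed point
with regular local ring of dimension two). -/
theorem main (k : Type u) [Field k] [X.Over (Spec (CommRingCat.of k))] [X'.Over (Spec (CommRingCat.of k))]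
    [IsProper (X ↘ Spec (CommRingCat.of k))]
    (hover : π ≫ (X ↘ Spec (CommRingCat.of k)) = X' ↘ Spec (CommRingCat.of k))
    (h2 : topologicalKrullDim X ≤ (2 : ℕ)) (L M : X.Modules) (hL : PicF.IsInvertible L) (hM : PicF.IsInvertible M) :
    letI : Algebra k (X.residueField x) := Curv2.resAlgebra k X x
    FGA.intNum k X' 2 ![(Scheme.Modules.pullback π).obj L, (Scheme.Modules.pullback π).obj M] (Coh.structureModule X') =
        FGA.intNum k X 2 ![L, M] (Coh.structureModule X) ∧
      FGA.intNum k X' 2 ![(Scheme.Modules.pullback π).obj L, ClSub.idealMod ((pt x hx).comap π)]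
        (Coh.structureModule X') = 0 ∧
      FGA.intNum k X' 2 ![ClSub.idealMod ((pt x hx).comap π), ClSub.idealMod ((pt x hx).comap π)]
        (Coh.structureModule X') = -(Module.finrank k (X.residueField x) : ℤ) := by
  have hp := isProper_blowUp π x hx hπ
  have hp' : IsProper (X' ↘ Spec (CommRingCat.of k)) := by
    rw [← hover]
    infer_instance
  have hdim' := dim_blowUp_le π x hx hdim hπ h2
  refine ⟨?_, ?_, ExcInt.intNum_exc_self k π hover x hx hdim hπ hdim'⟩
  · have := isIso_restrict π x hx hπ
    have h1 := BirInt.intNum_pullback k π hover 2 2 h2 hdim' (compl x hx) (r := 2) ?_ ![L, M] ?_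
    · rw [← h1]
      congr 1
      funext i
      fin_cases i <;> rfl
    · have h3 : ((compl x hx : X.Opens) : Set X)ᶜ = {x} := compl_compl _
      rw [h3]
      exact lt_of_le_of_lt (topologicalKrullDim_singleton_le x) (by norm_num)
    · intro i
      fin_cases i
      · exact hL
      · exact hM
  · rw [RR.intNum_comm]
    exact ExcInt.intNum_exc_pull k π hover x hx hdim hπ hdim' hL

end K455.BlowDim
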