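import Groth.Agent.Surf.K455.Pos
import Groth.Agent.Surf.K455.SmoothRR
import Groth.Agent.Surf.K455.Canon
import Groth.Agent.Surf.K455.RelDim
import Groth.Agent.Fga.HodgeSec

/-!
# Vanishing of `H²` and growth of sections on a smooth proper surface
-/

set_option autoImplicit false
universe u
open CategoryTheory CategoryTheory.Limits AlgebraicGeometry TopologicalSpace

namespace K455.Growth

open Groth.Agent Groth.Agent.Ega2 Groth.Agent.Fga.PicMon Groth.Agent.Grpsch.PicGrp Groth.Agent.Fdesc.LocGen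

variable (k : Type u) [Field k] {X : Scheme.{u}} [X.Over (Spec (CommRingCat.of k))]
  [IsProper (X ↘ Spec (CommRingCat.of k))]

/-- The Euler characteristics of the powers of an invertible module. -/
theorem two_mul_euler_pow (hdim : topologicalKrullDim X ≤ (2 : ℕ)) {L : X.Modules} (hL : PicF.IsInvertible L) (n : ℕ) :
    2 * RR.χ k X (mc L ^ n) = 2 * RR.χ k X 1 + 2 * n * (RR.χ k X (mc L) - RR.χ k X 1) +
      n * (n - 1) * FGA.intNum k X 2 ![L, L] (Coh.structureModule X) := by
  have step : ∀ m : ℕ, RR.χ k X (mc L ^ (m + 2)) = 2 * RR.χ k X (mc L ^ (m + 1)) - RR.χ k X (mc L ^ m) +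
      FGA.intNum k X 2 ![L, L] (Coh.structureModule X) := by
    intro m
    have h := RR.third_difference k hdim (CohB1.tensorPow L m) L L
      (Fdesc.LocGen.isInvertible_tensorPow hL m) hL hL
    rw [mc_tensorPow] at h
    rw [RR.intNum_eq_χ]
    have e1 : mc L ^ m * mc L = mc L ^ (m + 1) := (pow_succ _ _).symm
    have e2 : mc L ^ (m + 1) * mc L = mc L ^ (m + 2) := (pow_succ _ _).symm
    rw [e1, e2] at h
    linarith
  induction n using Nat.strong_induction_on with
  | _ n ih =>
    match n with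
    | 0 => simp
    | 1 => simp; ring
    | m + 2 =>
      have h1 := ih (m + 1) (by omega)
      have h2 := ih m (by omega)
      have h3 := step m
      push_cast at h1 h2 h3 ⊢
      linarith

/-- If `(L·L) > 0` then `χ(L^n)` tends to infinity. -/
theorem exists_euler_pos (hdim : topologicalKrullDim X ≤ (2 : ℕ)) {L : X.Modules} (hL : PicF.IsInvertible L)
    (hLL : 0 < FGA.intNum k X 2 ![L, L] (Coh.structureModule X)) (C : ℤ) :
    ∃ N : ℕ, ∀ n : ℕ, N ≤ n → C < FGA.eulerCharLE k X (CohB1.tensorPow L n) 2 := by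
  set q := FGA.intNum k X 2 ![L, L] (Coh.structureModule X) with hq
  set a := RR.χ k X (mc L) - RR.χ k X 1
  set c := RR.χ k X 1
  refine ⟨(2 * |C| + 2 * |c| + 2 * |a| + 3).toNat, fun n hn => ?_⟩
  have h1 := two_mul_euler_pow k hdim hL n
  rw [← mc_tensorPow, RR.χ_mc] at h1
  have hn' : 2 * |C| + 2 * |c| + 2 * |a| + 3 ≤ (n : ℤ) := by
    have := Int.self_le_toNat (2 * |C| + 2 * |c| + 2 * |a| + 3)
    have h2 : ((2 * |C| + 2 * |c| + 2 * |a| + 3).toNat : ℤ) ≤ n := by exact_mod_cast hn
    linarith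
  have hC := abs_nonneg C
  have hc := abs_nonneg c
  have ha := abs_nonneg a
  have hn0 : (0 : ℤ) ≤ n := by positivity
  have h3 : (n : ℤ) * (n - 1) ≤ n * (n - 1) * q := by
    have h4 : (0 : ℤ) ≤ n * (n - 1) := mul_nonneg hn0 (by linarith)
    nlinarith
  have h5 : -(n * |a|) ≤ n * a := by
    have := neg_abs_le a
    nlinarith
  have h6 := neg_abs_le c
  have h7 := le_abs_self C
  have h8 : (n : ℤ) * (2 * |C| + 2 * |c| + 2 * |a| + 2) ≤ n * (n - 1) :=
    mul_le_mul_of_nonneg_left (by linarith) hn0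
  have h9 : (2 * |C| + 2 * |c| + 2) ≤ (n : ℤ) * (2 * |C| + 2 * |c| + 2) := by
    have : (1 : ℤ) ≤ n := by linarith
    nlinarith
  have key : 2 * C < 2 * FGA.eulerCharLE k X (CohB1.tensorPow L n) 2 := by
    rw [h1]
    nlinarith
  linarith

/-- A module with a nonzero section, from `H⁰`. -/
theorem exists_section_of_pos {M : X.Modules} (h : 0 < Module.finrank k (Coh.HH X M 0)) : ∃ s : Γ(M, ⊤), s ≠ 0 := by
  have : Nontrivial (Coh.HH X M 0) := Module.nontrivial_of_finrank_pos h
  exact K456.SecTriv.exists_ne_zero_of_nontrivial this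

section Integral

variable [IsIntegral X] (hdim : topologicalKrullDim X = 2) {H : X.Modules} (hH : CohB1.IsAmple H)

include hdim hH in
/-- A module of negative degree has no sections. -/
theorem finrank_zero_of_neg {M : X.Modules} (hM : PicF.IsInvertible M)
    (h : FGA.intNum k X 2 ![M, H] (Coh.structureModule X) < 0) : Module.finrank k (Coh.HH X M 0) = 0 := by
  by_contra hne
  obtain ⟨s, hs⟩ := exists_section_of_pos k (Nat.pos_of_ne_zero hne)
  exact absurd (Pos.intNum_nonneg_of_section k hdim hH hM s hs).1 (not_le.2 h)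

theorem intNum_pow_left {M C : X.Modules} (hdim : topologicalKrullDim X ≤ (2 : ℕ)) (hM : PicF.IsInvertible M)
    (hC : PicF.IsInvertible C) (n : ℕ) :
    FGA.intNum k X 2 ![CohB1.tensorPow M n, C] (Coh.structureModule X) =
      n * FGA.intNum k X 2 ![M, C] (Coh.structureModule X) := by
  induction n with
  | zero =>
    rw [RR.intNum_one_left k (A := CohB1.tensorPow M 0) rfl]
    simp
  | succ n ih =>
    have h1 : mc (CohB1.tensorPow M (n + 1)) = mc (CohB1.tensorMod (CohB1.tensorPow M n) M) := by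
      rw [mc_tensorPow, mc_tensor, mc_tensorPow, pow_succ]
    rw [RR.intNum_congr_cl k (B := C) (B' := C) h1 rfl,
      RR.intNum_mul_left k hdim _ _ _ (Fdesc.LocGen.isInvertible_tensorPow hM n) hM hC, ih]
    push_cast
    ring

variable [SmoothOfRelativeDimension 2 (X ↘ Spec (CommRingCat.of k))]

include hdim hH in
/-- **Vanishing of `H²`.** -/
theorem exists_vanish_two : ∃ n₀ : ℤ, ∀ L : X.Modules, PicF.IsInvertible L →
    n₀ < FGA.intNum k X 2 ![L, H] (Coh.structureModule X) → Module.finrank k (Coh.HH X L 2) = 0 := by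
  obtain ⟨W, hW, hWi⟩ := Canon.exists_canonical (X ↘ Spec (CommRingCat.of k)) 2
  refine ⟨FGA.intNum k X 2 ![W, H] (Coh.structureModule X), fun L hL hlt => ?_⟩
  obtain ⟨L', hL', e⟩ := exists_inverse hL
  rw [SmoothRR.finrank_dual k hW hL e 0 2 rfl]
  refine finrank_zero_of_neg k hdim hH (Fdesc.LocGen.isInvertible_tensorMod hWi hL') ?_
  have hmc : mc L * mc L' = 1 := by
    rw [← mc_tensor, ← mc_one, mc_eq_iff]
    exact e
  rw [RR.intNum_mul_left k hdim.le W L' H hWi hL' hH.1, RR.intNum_inv_left k hdim.le L L' H hL hL' hmc hH.1]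
  linarith

include hdim hH in
/-- **Growth of sections.** -/
theorem exists_sections {L : X.Modules} (hL : PicF.IsInvertible L)
    (hLL : 0 < FGA.intNum k X 2 ![L, L] (Coh.structureModule X))
    (hLH : 0 < FGA.intNum k X 2 ![L, H] (Coh.structureModule X)) (C : ℤ) :
    ∃ N : ℕ, ∀ n : ℕ, N ≤ n → C < Module.finrank k (Coh.HH X (CohB1.tensorPow L n) 0) := by
  obtain ⟨n₀, h0⟩ := exists_vanish_two k hdim hH
  obtain ⟨N, hN⟩ := exists_euler_pos k hdim.le hL hLL C
  refine ⟨N + (|n₀| + 1).toNat, fun n hn => ?_⟩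
  have h1 := hN n (by omega)
  have h2 : Module.finrank k (Coh.HH X (CohB1.tensorPow L n) 2) = 0 := by
    refine h0 _ (Fdesc.LocGen.isInvertible_tensorPow hL n) ?_
    rw [intNum_pow_left k hdim.le hL hH.1]
    have h3 := Int.self_le_toNat (|n₀| + 1)
    have h4 : ((|n₀| + 1).toNat : ℤ) ≤ n := by exact_mod_cast (le_trans (Nat.le_add_left _ _) hn)
    have h5 := le_abs_self n₀
    have h6 := abs_nonneg n₀
    nlinarith
  have h3 := Fga.HodgeSec.euler_le (Z := X) k (CohB1.tensorPow L n)
  rw [h2] at h3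
  push_cast at h3
  linarith

include hdim hH in
theorem exists_nontrivial {L : X.Modules} (hL : PicF.IsInvertible L)
    (hLL : 0 < FGA.intNum k X 2 ![L, L] (Coh.structureModule X))
    (hLH : 0 < FGA.intNum k X 2 ![L, H] (Coh.structureModule X)) :
    ∃ N : ℕ, ∀ n : ℕ, N ≤ n → Nontrivial (Coh.HH X (CohB1.tensorPow L n) 0) := by
  obtain ⟨N, hN⟩ := exists_sections k hdim hH hL hLL hLH 0
  exact ⟨N, fun n hn => Module.nontrivial_of_finrank_pos (R := k) (by exact_mod_cast hN n hn)⟩

include hdim hH in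
/-- If some positive power of `L` with `(L·L) > 0` has a section, then `(L·H) > 0`. -/
theorem intNum_pos_of_section {L : X.Modules} (hL : PicF.IsInvertible L)
    (hLL : 0 < FGA.intNum k X 2 ![L, L] (Coh.structureModule X)) (n : ℕ) (hn : 0 < n)
    (h : Nontrivial (Coh.HH X (CohB1.tensorPow L n) 0)) :
    0 < FGA.intNum k X 2 ![L, H] (Coh.structureModule X) := by
  obtain ⟨s, hs⟩ := K456.SecTriv.exists_ne_zero_of_nontrivial h
  have hLn := Fdesc.LocGen.isInvertible_tensorPow hL n
  obtain ⟨h1, h2⟩ := Pos.intNum_nonneg_of_section k hdim hH hLn s hs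
  rw [intNum_pow_left k hdim.le hL hH.1] at h1 h2
  have hn' : (0 : ℤ) < n := by exact_mod_cast hn
  rcases lt_trichotomy (FGA.intNum k X 2 ![L, H] (Coh.structureModule X)) 0 with h3 | h3 | h3
  · nlinarith
  · exfalso
    have h4 := h2 (by rw [h3, mul_zero])
    have h5 := intNum_pow_left k hdim.le hL hL n
    rw [RR.intNum_one_left k h4] at h5
    have h6 : 0 < (n : ℤ) * FGA.intNum k X 2 ![L, L] (Coh.structureModule X) := mul_pos hn' hLL
    linarith
  · exact h3

end Integral

end K455.Growth
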