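import Groth.Agent.Dix.Cast5
import Groth.Agent.Ega2.AmpleGlobGen
import Groth.Agent.Models.H38.SecDiv
import Groth.Agent.Models.H38.TrivGen
import Groth.Agent.S1659
import Groth.Agent.Fga.PicMon
import Groth.Agent.Ega3B.PullTensor

/-!
# Invertible modules which are trivial off an effective divisor

`exists_divisor_off`: on a Noetherian integral scheme `X`, let `D` be an effective Cartier ideal and `N` an invertible
module with a generator off the support of `D`. Then `N ⊗ I_{D'} ≅ I_D^m` for some `m` and some effective Cartier ideal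
`D'` supported in the support of `D`.

`exists_pow`: for `D` integral: `N ⊗ I_D^a ≅ I_D^b`.
-/

set_option autoImplicit false
universe u

open CategoryTheory CategoryTheory.Limits AlgebraicGeometry Opposite TopologicalSpace

namespace K455.PicLoc

open Groth.Agent Groth.Agent.Fdesc.LocGen Groth.Agent.Dix.IdealModCartier Groth.Agent.Dix.Cast5
open Groth.Agent.Grpsch.PicGrp Groth.Agent.Fga.PicMon

variable {X : Scheme.{u}}

/-- The non-vanishing locus of the canonical section of `O(D)` is the complement of `D`. -/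
theorem genLocus_canSec (D : X.IdealSheafData) (hD : BlowUp.IsEffCartierIdeal D) :
    (CohB1.genLocus _ (canSec D) : Set X) = (D.support : Set X)ᶜ := by
  ext x
  obtain ⟨U, a, hxU, ha⟩ := exists_genOn hD x
  have ha' := ha U le_rfl
  rw [ores_refl] at ha'
  obtain ⟨e, he⟩ := exists_val_eq D U (ha'.2 ▸ Ideal.mem_span_singleton_self a)
  have hg : IsGen e := isGen_of_genOn (he.symm ▸ ha)
  have h1 := genLocus_inf_eq (canSec D) (isGen_dgen hg) (sec_canSec_eq D hg)
  have h2 : x ∈ CohB1.genLocus _ (canSec D) ↔ x ∈ X.basicOpen a := by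
    rw [← he, ← h1]
    exact ⟨fun h => ⟨h, hxU⟩, fun h => h.1⟩
  rw [SetLike.mem_coe, h2, Set.mem_compl_iff, SetLike.mem_coe,
    Scheme.IdealSheafData.mem_support_iff_of_mem hxU, ha'.2,
    Scheme.zeroLocus_span, Scheme.zeroLocus_singleton, Set.mem_compl_iff, not_not]
  rfl

/-- Invertible modules with a generator off an effective Cartier divisor. -/
theorem exists_divisor_off [IsIntegral X] [IsNoetherian X] (D : X.IdealSheafData)
    (hD : BlowUp.IsEffCartierIdeal D) {N : X.Modules} (hN : PicF.IsInvertible N) {U : X.Opens}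
    (hU : (U : Set X) = (D.support : Set X)ᶜ) (hne : (U : Set X).Nonempty) (s : Γ(N, U)) (hs : IsGen s) :
    ∃ (m : ℕ) (D' : X.IdealSheafData), BlowUp.IsEffCartierIdeal D' ∧ (D'.support : Set X) ⊆ D.support ∧
      mc N * mc (ClSub.idealMod D') = mc (ClSub.idealMod D) ^ m := by
  let L := dual (ClSub.idealMod D)
  have hI : PicF.IsInvertible (ClSub.idealMod D) := isInvertible_idealMod hD
  have hL : PicF.IsInvertible L := isInvertible_dual hI
  have hLI : mc (ClSub.idealMod D) * mc L = 1 := by
    rw [← mc_tensor, ← mc_one, mc_eq_iff]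
    exact ⟨@asIso _ _ _ _ (ev (ClSub.idealMod D)) (isIso_ev hI)⟩
  obtain rfl : U = CohB1.genLocus L (canSec D) := by
    apply TopologicalSpace.Opens.ext
    rw [hU, genLocus_canSec D hD]
  obtain ⟨n, hn⟩ := Ega2.AmpleGlobGen.exists_extend_top (Ega2.QCohLocal.isQCoh_of_isInvertible hN) hL (canSec D) s
  obtain ⟨t, ht⟩ := hn n le_rfl
  have hgen : IsGen (tmul s (pow (sec (canSec D) (CohB1.genLocus L (canSec D))) n)) :=
    hs.tmul ((isGen_sec_genLocus (canSec D)).pow n)
  have hM : PicF.IsInvertible (CohB1.tensorMod N (CohB1.tensorPow L n)) :=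
    Fdesc.LocGen.isInvertible_tensorMod hN (Fdesc.LocGen.isInvertible_tensorPow hL n)
  obtain ⟨D', hD', hinv, hDt⟩ := Models.H38.SecDiv.exists_divisor hM t (by
    intro V e a he hae
    by_cases hV : (V.1 : Set X).Nonempty
    · have hnz : a ≠ 0 := by
        rintro rfl
        rw [zero_smul] at hae
        obtain ⟨z, hz1, hz2⟩ := nonempty_preirreducible_inter (X := X) V.1.2
          (CohB1.genLocus L (canSec D)).2 hV hne
        have h1 := congrArg (res _ (inf_le_left : V.1 ⊓ CohB1.genLocus L (canSec D) ≤ V.1)) hae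
        rw [map_zero, res_res] at h1
        have h2 := congrArg (res _ (inf_le_right : V.1 ⊓ CohB1.genLocus L (canSec D) ≤ _)) ht
        rw [res_res, h1] at h2
        have h3 := hgen.res (inf_le_right : V.1 ⊓ CohB1.genLocus L (canSec D) ≤ _)
        rw [← h2] at h3
        have h4 : (1 : Γ(X, V.1 ⊓ CohB1.genLocus L (canSec D))) = 0 := h3.ext (by rw [smul_zero, smul_zero])
        have : Nonempty (V.1 ⊓ CohB1.genLocus L (canSec D) : X.Opens) := ⟨⟨z, hz1, hz2⟩⟩
        exact one_ne_zero h4
      have : Nonempty V.1 := hV.to_subtype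
      exact mem_nonZeroDivisors_of_ne_zero hnz
    · have h0 : V.1 = ⊥ := by
        ext x
        simp only [TopologicalSpace.Opens.coe_bot, Set.mem_empty_iff_false, iff_false]
        exact fun hx => hV ⟨x, hx⟩
      have : Subsingleton Γ(X, V.1) := by
        rw [h0]
        exact inferInstance
      rw [mem_nonZeroDivisors_iff_right]
      exact fun b _ => Subsingleton.elim _ _)
  refine ⟨n, D', hD', ?_, ?_⟩
  · intro x hx
    by_contra hxD
    have hx' : x ∈ CohB1.genLocus L (canSec D) := by
      rw [← SetLike.mem_coe, genLocus_canSec D hD]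
      exact hxD
    obtain ⟨V, hxV, hV⟩ := exists_affine_mem_le (CohB1.genLocus L (canSec D)) x hx'
    have h1 : res _ (le_top : V.1 ≤ ⊤) t =
        (1 : Γ(X, V.1)) • res _ hV (tmul s (pow (sec (canSec D) (CohB1.genLocus L (canSec D))) n)) := by
      rw [one_smul, ← ht, res_res]
    have h2 := hDt V _ _ (hgen.res hV) h1
    have h3 : x ∉ D'.support := by
      rw [Scheme.IdealSheafData.mem_support_iff_of_mem (U := V) hxV, h2,
        Ideal.span_singleton_one]
      simpa using hxV
    exact h3 hx
  · have h1 : mc (CohB1.tensorMod N (CohB1.tensorPow L n)) * mc (ClSub.idealMod D') = 1 := by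
      rw [← mc_tensor, ← mc_one, mc_eq_iff]
      exact hinv
    rw [mc_tensor, mc_tensorPow] at h1
    calc mc N * mc (ClSub.idealMod D') = mc N * mc (ClSub.idealMod D') *
          (mc (ClSub.idealMod D) * mc L) ^ n := by rw [hLI, one_pow, mul_one]
      _ = mc (ClSub.idealMod D) ^ n * (mc N * mc L ^ n * mc (ClSub.idealMod D')) := by
        rw [mul_pow]; ac_rfl
      _ = mc (ClSub.idealMod D) ^ n := by rw [h1, mul_one]

/-- Invertible modules with a generator off an integral effective Cartier divisor `D` are powers of `I_D`. -/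
theorem exists_pow [IsIntegral X] [IsNoetherian X] (D : X.IdealSheafData)
    (hD : BlowUp.IsEffCartierIdeal D) [IsIntegral D.subscheme] {N : X.Modules} (hN : PicF.IsInvertible N)
    {U : X.Opens} (hU : (U : Set X) = (D.support : Set X)ᶜ) (hne : (U : Set X).Nonempty) (s : Γ(N, U))
    (hs : IsGen s) :
    ∃ a b : ℕ, mc N * mc (ClSub.idealMod D) ^ a = mc (ClSub.idealMod D) ^ b := by
  obtain ⟨m, D', hD', hsupp, h⟩ := exists_divisor_off D hD hN hU hne s hs
  obtain ⟨c, hc⟩ := S1659.result X D' hD' 1 (fun _ => D) (fun _ => hD) (fun _ => inferInstance) (by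
    intro x hx
    exact Set.mem_iUnion.2 ⟨0, hsupp hx⟩)
  rw [Fin.prod_univ_one] at hc
  refine ⟨c 0, m, ?_⟩
  rw [← Models.H38.TrivGen.mc_idealMod_pow hD, ← hc]
  exact h

/-- Two invertible modules which are isomorphic off an integral effective Cartier divisor `D` differ by a power of
`I_D`. -/
theorem exists_pow_iso [IsIntegral X] [IsNoetherian X] (D : X.IdealSheafData)
    (hD : BlowUp.IsEffCartierIdeal D) [IsIntegral D.subscheme] {A B : X.Modules} (hA : PicF.IsInvertible A)
    (hB : PicF.IsInvertible B) {Y : Scheme.{u}} (j : Y ⟶ X) [IsOpenImmersion j]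
    (hj : Set.range j = (D.support : Set X)ᶜ) [Nonempty Y]
    (h : Nonempty ((Scheme.Modules.pullback j).obj A ≅ (Scheme.Modules.pullback j).obj B)) :
    ∃ a b : ℕ, mc A * mc (ClSub.idealMod D) ^ a = mc B * mc (ClSub.idealMod D) ^ b := by
  obtain ⟨e⟩ := h
  have hB' := isInvertible_dual hB
  have hBB : mc B * mc (dual B) = 1 := by
    rw [← mc_tensor, ← mc_one, mc_eq_iff]
    exact ⟨@asIso _ _ _ _ (ev B) (isIso_ev hB)⟩
  -- the module `A ⊗ B^∨` is trivial on `Y`
  have htriv : Nonempty ((Scheme.Modules.pullback j).obj (CohB1.tensorMod A (dual B)) ≅ Coh.structureModule Y) := by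
    obtain ⟨u⟩ := Ega3B.PullTensor.nonempty_pullUnitIso j
    exact ⟨Ega3B.PullTensor.pullTensorIso j hA hB' ≪≫ Ega2.Tens.mapTIso e (Iso.refl _) ≪≫
      (Ega3B.PullTensor.pullTensorIso j hB hB').symm ≪≫
      (Scheme.Modules.pullback j).mapIso (@asIso _ _ _ _ (ev B) (isIso_ev hB)) ≪≫ u⟩
  obtain ⟨s, hs⟩ := Models.H38.TrivGen.exists_isGen_opensRange j htriv
  obtain ⟨a, b, hab⟩ := exists_pow D hD (Fdesc.LocGen.isInvertible_tensorMod hA hB') (U := j.opensRange) hj
    (Set.range_nonempty j) s hs
  refine ⟨a, b, ?_⟩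
  rw [mc_tensor] at hab
  calc mc A * mc (ClSub.idealMod D) ^ a = mc A * mc (ClSub.idealMod D) ^ a * (mc B * mc (dual B)) := by
        rw [hBB, mul_one]
    _ = mc B * (mc A * mc (dual B) * mc (ClSub.idealMod D) ^ a) := by ac_rfl
    _ = mc B * mc (ClSub.idealMod D) ^ b := by rw [hab]

end K455.PicLoc
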