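import Groth.Agent.VarietyB.ProjSpaceProper
import Groth.Prelude.Def_CohB1
import Mathlib.Topology.KrullDimension
import Mathlib.Topology.Irreducible

/-!
# Elementary facts on projective schemes over a field
-/

set_option autoImplicit false
universe u
open CategoryTheory CategoryTheory.Limits AlgebraicGeometry TopologicalSpace

namespace K455.Proj

theorem isProper_of_proj {k : Type u} [Field k] {X : Scheme.{u}} {f : X ⟶ Spec (CommRingCat.of k)}
    (hproj : ∃ (n : ℕ) (ι : X ⟶ CohB1.ProjSpace n k), IsClosedImmersion ι ∧ ι ≫ CohB1.ProjSpace.toSpec n k = f) :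
    IsProper f := by
  obtain ⟨n, ι, hι, rfl⟩ := hproj
  have := Groth.Agent.VarietyB.ProjSpaceProper.isProper_toSpec n k
  infer_instance

theorem dim_components {T : Type u} [TopologicalSpace T] [IrreducibleSpace T] {n : WithBot ℕ∞}
    (hdim : topologicalKrullDim T = n) : ∀ Z ∈ irreducibleComponents T, topologicalKrullDim Z = n := by
  intro Z hZ
  have h1 : Z = Set.univ := by
    have h2 : irreducibleComponents T = {Set.univ} := irreducibleComponents_eq_singleton
    rw [h2] at hZ
    exact hZ
  subst h1
  rw [← hdim]
  exact (Homeomorph.Set.univ T).isHomeomorph.topologicalKrullDim_eq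

end K455.Proj
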