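import Groth.Agent.Surf.K455.CanonOpen
import Groth.Agent.Surf.K455.BlowDim
import Groth.Agent.Surf.K455.SmoothRR
import Groth.Agent.Surf.K455.PicLoc
import Groth.Agent.Surf.K455.Proj
import Groth.Agent.Surf.K455.Growth
import Groth.Agent.VarietyB.DegFin

/-!
# The canonical module of a point blow-up

`X`, `X'` proper and smooth of relative dimension two over a field `k`, `X'` integral, `π : X' ⟶ X` the blow-up of a
closed point, `I` the ideal of the exceptional curve, `W`, `W'` the canonical modules.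
* `intNum_exc_canonical`: `(I · W') = [κ(x) : k]`;
* `mc_eq`: `W' ⊗ I ≅ π^* W`;
* `self_eq`: `(W'·W') = (W·W) - [κ(x) : k]`.
-/

set_option autoImplicit false
universe u
open CategoryTheory CategoryTheory.Limits AlgebraicGeometry TopologicalSpace IsLocalRing

namespace K455.BlowCanon

open Groth.Agent Groth.Agent.Ega2 Groth.Agent.Dix.PointIdeal Groth.Agent.Fga.PicMon Groth.Agent.Grpsch.PicGrp

theorem euler_P1 (K : Type u) [Field K] :
    FGA.eulerCharLE K (CohB1.ProjSpace 1 K) (Coh.structureModule _) 2 = 1 := by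
  rw [ExcInt.euler_two_eq_one]
  obtain ⟨e⟩ := Groth.Agent.Ega2.TwistInv.nonempty_unit_iso (CohB1.polyGrading 1 K)
  have h1 : FGA.eulerCharLE K (CohB1.ProjSpace 1 K) (Coh.structureModule (CohB1.ProjSpace 1 K)) 1 =
      FGA.eulerCharLE K (CohB1.ProjSpace 1 K) (Twist.twistProjSpace 1 K 0) 1 :=
    Groth.Agent.Fga.EulerIso.eulerCharLE_congr (X := CohB1.ProjSpace 1 K) K e 1
  rw [h1, Dix.Cast2.eulerCharLE_twist]
  norm_num

variable (k : Type u) [Field k] {X X' : Scheme.{u}} [X.Over (Spec (CommRingCat.of k))]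
  [X'.Over (Spec (CommRingCat.of k))] [IsProper (X ↘ Spec (CommRingCat.of k))]
  [IsProper (X' ↘ Spec (CommRingCat.of k))]
  [SmoothOfRelativeDimension 2 (X' ↘ Spec (CommRingCat.of k))]
  (π : X' ⟶ X) (hover : π ≫ (X ↘ Spec (CommRingCat.of k)) = X' ↘ Spec (CommRingCat.of k))
  (x : X) (hx : IsClosed ({x} : Set X)) [IsRegularLocalRing (X.presheaf.stalk x)]
  (hdim : ringKrullDim (X.presheaf.stalk x) = 2) (hπ : BlowUp.IsBlowUp π (pt x hx))
  (hdim' : topologicalKrullDim X' ≤ (2 : ℕ)) {W' : X'.Modules}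
  (hW' : ExtPow.IsExtPow 2 (Omega.sheaf (X' ↘ Spec (CommRingCat.of k))) W')

include hdim' hdim hover hπ hW' in
omit [IsProper (X ↘ Spec (CommRingCat.of k))] in
/-- `(E · K') = - [κ(x) : k]`. -/
theorem intNum_exc_canonical :
    letI : Algebra k (X.residueField x) := Curv2.resAlgebra k X x
    FGA.intNum k X' 2 ![ClSub.idealMod ((pt x hx).comap π), W'] (Coh.structureModule X') =
      Module.finrank k (X.residueField x) := by
  letI : Algebra k (X.residueField x) := Curv2.resAlgebra k X x
  have hWi := Canon.isInvertible (X' ↘ Spec (CommRingCat.of k)) 2 hW'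
  obtain ⟨i, hi, hker, hcomp, -⟩ := ExcCurve.exists_curve π x hx hdim hπ
  let K := IsLocalRing.ResidueField (X.presheaf.stalk x)
  let iAlg : Algebra k K := Curv2.resAlgebra k X x
  let j : CohB1.ProjSpace 1 K ⟶ X' := i
  have hj : IsClosedImmersion j := hi
  have hjker : j.ker = (pt x hx).comap π := hker
  have hcomp : j ≫ π = CohB1.ProjSpace.toSpec 1 K ≫ X.fromSpecResidueField x := hcomp
  let iO : (CohB1.ProjSpace 1 K).Over (Spec (CommRingCat.of k)) := ⟨j ≫ (X' ↘ Spec (CommRingCat.of k))⟩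
  have hconst : ((CohB1.ProjSpace 1 K) ↘ Spec (CommRingCat.of k)) =
      ((CohB1.ProjSpace 1 K) ↘ Spec (CommRingCat.of K)) ≫ Spec.map (CommRingCat.ofHom (algebraMap k K)) := by
    change j ≫ (X' ↘ Spec (CommRingCat.of k)) = CohB1.ProjSpace.toSpec 1 K ≫
      Spec.map (CommRingCat.ofHom (Curv2.resMap k X x))
    rw [← hover, reassoc_of% hcomp]
    exact congrArg (CohB1.ProjSpace.toSpec 1 K ≫ ·) (VarietyB.ResMap.specMap_resMap (k := k) X x).symm
  have h1 := SmoothRR.adjunction k hW' hdim' j rfl (by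
    rw [hjker]
    exact Dix.IdealModCartier.isInvertible_idealMod hπ.1)
  rw [Dix.Cast0.eulerCharLE_const k K _ hconst, euler_P1, hjker, mul_one] at h1
  have h2 := ExcInt.intNum_exc_self k π hover x hx hdim hπ hdim'
  have h3 : (Module.finrank k K : ℤ) = Module.finrank k (X.residueField x) := rfl
  rw [h3] at h1
  linarith

include hdim hπ in
omit [IsProper (X' ↘ Spec (CommRingCat.of k))] [SmoothOfRelativeDimension 2 (X' ↘ Spec (CommRingCat.of k))] in
theorem isIntegral_exc : IsIntegral ((pt x hx).comap π).subscheme := by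
  obtain ⟨i, hi, hker, -⟩ := ExcCurve.exists_curve π x hx hdim hπ
  letI : Field (X.presheaf.stalk x ⧸ maximalIdeal (X.presheaf.stalk x)) := Ideal.Quotient.field _
  have : IsIntegral (CohB1.ProjSpace 1 (X.presheaf.stalk x ⧸ maximalIdeal (X.presheaf.stalk x))) :=
    inferInstance
  rw [← hker]
  exact Models.H38.TrivGen.isIntegral_ker_subscheme i

/-- Cancellation of a power of an invertible class. -/
theorem mc_cancel {Y : Scheme.{u}} {A B I : Y.Modules} (hI : PicF.IsInvertible I) (b : ℕ)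
    (h : mc A * mc I ^ b = mc B * mc I ^ b) : mc A = mc B := by
  obtain ⟨J, hJ, e⟩ := exists_inverse hI
  have hmc : mc I * mc J = 1 := by
    rw [← mc_tensor, ← mc_one, mc_eq_iff]
    exact e
  calc mc A = mc A * (mc I * mc J) ^ b := by rw [hmc, one_pow, mul_one]
    _ = mc A * mc I ^ b * mc J ^ b := by rw [mul_pow, mul_assoc]
    _ = mc B * mc I ^ b * mc J ^ b := by rw [h]
    _ = mc B * (mc I * mc J) ^ b := by rw [mul_pow, mul_assoc]
    _ = mc B := by rw [hmc, one_pow, mul_one]

variable [SmoothOfRelativeDimension 2 (X ↘ Spec (CommRingCat.of k))] {W : X.Modules}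
  (hW : ExtPow.IsExtPow 2 (Omega.sheaf (X ↘ Spec (CommRingCat.of k))) W)

include hdim' hdim hover hπ hW hW' in
omit [IsProper (X ↘ Spec (CommRingCat.of k))] in
/-- **The canonical module of a point blow-up**: `W' ⊗ I_E ≅ π^* W`. -/
theorem mc_eq [IsLocallyNoetherian X] [QuasiSeparated (X ↘ Spec (CommRingCat.of k))] [IsIntegral X']
    (hδ : letI : Algebra k (X.residueField x) := Curv2.resAlgebra k X x
      0 < Module.finrank k (X.residueField x)) :
    mc W' * mc (ClSub.idealMod ((pt x hx).comap π)) = mc ((Scheme.Modules.pullback π).obj W) := by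
  have hWi := Canon.isInvertible (X ↘ Spec (CommRingCat.of k)) 2 hW
  have hWi' := Canon.isInvertible (X' ↘ Spec (CommRingCat.of k)) 2 hW'
  have hI : PicF.IsInvertible (ClSub.idealMod ((pt x hx).comap π)) :=
    Dix.IdealModCartier.isInvertible_idealMod hπ.1
  have hπW := Fdesc.LocGen.isInvertible_pullback π hWi
  have : IsNoetherian X' := Fga.IntAdd.isNoetherian k X'
  have := isIntegral_exc π x hx hdim hπ
  have hiso := BlowDim.isIso_restrict π x hx hπ
  let U := BlowDim.compl x hx
  let j' : (π ⁻¹ᵁ U).toScheme ⟶ X' := (π ⁻¹ᵁ U).ι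
  have hj : IsOpenImmersion (j' ≫ π) := by
    have h1 : j' ≫ π = (π ∣_ U) ≫ U.ι := (morphismRestrict_ι π U).symm
    rw [h1]
    infer_instance
  obtain ⟨e⟩ := CanonOpen.nonempty_iso (X ↘ Spec (CommRingCat.of k)) (X' ↘ Spec (CommRingCat.of k)) 2 (j' ≫ π) j'
    (by rw [Category.assoc, hover]) hW hW'
  have hrange : Set.range j' = (((pt x hx).comap π).support : Set X')ᶜ := by
    rw [Scheme.IdealSheafData.support_comap]
    have h1 : ((pt x hx).support : Set X) = {x} := Scheme.IdealSheafData.coe_support_vanishingIdeal _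
    have h2 : Set.range j' = π ⁻¹' ({x}ᶜ) := by
      rw [Scheme.Opens.range_ι]
      rfl
    rw [h2]
    change _ = (π ⁻¹' ((pt x hx).support : Set X))ᶜ
    rw [h1]
    rfl
  have hne : Nonempty (π ⁻¹ᵁ U).toScheme := by
    have h1 : (Set.range j').Nonempty := by
      rw [hrange]
      exact (VarietyB.DegFin.dense_compl_support X' _ hπ.1).nonempty
    obtain ⟨y, z, rfl⟩ := h1
    exact ⟨z⟩
  obtain ⟨a, b, hab⟩ := PicLoc.exists_pow_iso ((pt x hx).comap π) hπ.1 hWi' hπW j' hrange
    ⟨e ≪≫ ((Scheme.Modules.pullbackComp j' π).app W).symm⟩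
  have h1 := intNum_exc_canonical k π hover x hx hdim hπ hdim' hW'
  have h2 := ExcInt.intNum_exc_self k π hover x hx hdim hπ hdim'
  have h3 := ExcInt.intNum_exc_pull k π hover x hx hdim hπ hdim' hWi
  set I := ClSub.idealMod ((pt x hx).comap π) with hIdef
  have hIa := Fdesc.LocGen.isInvertible_tensorPow hI a
  have hIb := Fdesc.LocGen.isInvertible_tensorPow hI b
  have h4 := RR.intNum_congr_cl k (B := I) (B' := I) (A := CohB1.tensorMod W' (CohB1.tensorPow I a))
    (A' := CohB1.tensorMod ((Scheme.Modules.pullback π).obj W) (CohB1.tensorPow I b)) (by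
        rw [mc_tensor, mc_tensor, mc_tensorPow, mc_tensorPow, hab]) rfl
  rw [RR.intNum_mul_left k hdim' _ _ _ hWi' hIa hI, RR.intNum_mul_left k hdim' _ _ _ hπW hIb hI,
    Growth.intNum_pow_left k hdim' hI hI, Growth.intNum_pow_left k hdim' hI hI, RR.intNum_comm k W' I,
    RR.intNum_comm k ((Scheme.Modules.pullback π).obj W) I, h1, h2, h3] at h4
  have hδ' : (0 : ℤ) < (@Module.finrank k (X.residueField x) _ _ (Curv2.resAlgebra k X x).toModule : ℤ) := by
    exact_mod_cast hδ
  have h5 : (a : ℤ) = b + 1 := by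
    have h6 : ((a : ℤ) - (b + 1)) * (@Module.finrank k (X.residueField x) _ _ (Curv2.resAlgebra k X x).toModule : ℤ) = 0 := by
      linarith
    rcases mul_eq_zero.1 h6 with h7 | h7
    · linarith
    · exact absurd h7 hδ'.ne'
  obtain rfl : a = b + 1 := by exact_mod_cast h5
  rw [← mc_tensor]
  apply mc_cancel hI b
  rw [mc_tensor, mul_assoc, ← pow_succ', hab]

include hdim' hdim hover hπ hW hW' in
/-- `(W'·W') = (W·W) - [κ(x) : k]`. -/
theorem self_eq [IsLocallyNoetherian X] [IsIntegral X'] (h2 : topologicalKrullDim X ≤ (2 : ℕ))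
    (hδ : letI : Algebra k (X.residueField x) := Curv2.resAlgebra k X x
      0 < Module.finrank k (X.residueField x)) :
    letI : Algebra k (X.residueField x) := Curv2.resAlgebra k X x
    FGA.intNum k X' 2 ![W', W'] (Coh.structureModule X') = FGA.intNum k X 2 ![W, W] (Coh.structureModule X) -
      Module.finrank k (X.residueField x) := by
  have hmc := mc_eq k π hover x hx hdim hπ hdim' hW' hW hδ
  have hWi := Canon.isInvertible (X ↘ Spec (CommRingCat.of k)) 2 hW
  have hWi' := Canon.isInvertible (X' ↘ Spec (CommRingCat.of k)) 2 hW'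
  have hI : PicF.IsInvertible (ClSub.idealMod ((pt x hx).comap π)) :=
    Dix.IdealModCartier.isInvertible_idealMod hπ.1
  obtain ⟨h3, h4, h5⟩ := BlowDim.main π x hx hdim hπ k hover h2 W W hWi hWi
  have h1 := intNum_exc_canonical k π hover x hx hdim hπ hdim' hW'
  set I := ClSub.idealMod ((pt x hx).comap π) with hIdef
  rw [← mc_tensor] at hmc
  have h6 := RR.intNum_congr_cl k hmc hmc
  rw [h3, RR.intNum_mul_left k hdim' _ _ _ hWi' hI (Fdesc.LocGen.isInvertible_tensorMod hWi' hI),
    RR.intNum_mul_right k hdim' _ _ _ hWi' hI hWi', RR.intNum_mul_right k hdim' _ _ _ hWi' hI hI, h5,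
    RR.intNum_comm k W' I, h1] at h6
  linarith

end K455.BlowCanon
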