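import Groth.Agent.VarietyA.RegPoint

/-!
# Residue fields of closed points over an algebraically closed field
-/

set_option autoImplicit false
universe u
open CategoryTheory CategoryTheory.Limits AlgebraicGeometry TopologicalSpace

namespace K455.ResOne

theorem finrank_residueField (k : Type u) [Field k] [IsAlgClosed k] (X : Scheme.{u})
    [X.Over (Spec (CommRingCat.of k))] [LocallyOfFiniteType (X ↘ (Spec (CommRingCat.of k)))] {x : X}
    (hx : IsClosed ({x} : Set X)) :
    letI : Algebra k (X.residueField x) := Curv2.resAlgebra k X x
    Module.finrank k (X.residueField x) = 1 := by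
  letI : Algebra k (X.residueField x) := Curv2.resAlgebra k X x
  have h1 : Function.Surjective (algebraMap k (X.residueField x)) :=
    Groth.Agent.VarietyA.RegPoint.resMap_surjective k X hx
  have h2 : Function.Bijective (Algebra.linearMap k (X.residueField x)) :=
    ⟨(algebraMap k (X.residueField x)).injective, h1⟩
  rw [← (LinearEquiv.ofBijective _ h2).finrank_eq, Module.finrank_self]

end K455.ResOne
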