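import Groth.Agent.Surf.K455.CutKer
import Groth.Agent.Surf.K455.ExcCurve
import Groth.Agent.Dix.Cast0
import Groth.Agent.Dix.Cast2
import Groth.Agent.VarietyB.ResMap
import Groth.Agent.CohqA.ProjDim
import Groth.Agent.Dix.ProjProper

/-!
# Intersection numbers with the exceptional curve

For `X` over a field `k`, `x` a closed point of `X` with regular local ring of dimension two, and `π : X' ⟶ X` the
blow-up of `X` in `x`, with `X'` proper over `k` of dimension at most two, and `I` the ideal of the exceptional curve: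
`(π^* L · I) = 0` and `(I · I) = - [κ(x) : k]`.
-/

set_option autoImplicit false
universe u
open CategoryTheory CategoryTheory.Limits AlgebraicGeometry TopologicalSpace

namespace K455.ExcInt

open Groth.Agent Groth.Agent.Ega2 Groth.Agent.Fga.PicMon Groth.Agent.Dix.PointIdeal

open Groth.Agent.Fdesc.LocGen in
/-- Invertible modules on a one-point scheme are trivial. -/
theorem pic_trivial {X : Scheme.{u}} [Subsingleton X] [Nonempty X] (L : X.Modules)
    (hL : PicF.IsInvertible L) : Nonempty (L ≅ Coh.structureModule X) := by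
  obtain ⟨x⟩ := ‹Nonempty X›
  obtain ⟨U, e, hxU, he⟩ := (isInvertible_iff L).1 hL x
  obtain rfl : U = ⊤ := by
    ext y
    simpa [Subsingleton.elim y x] using hxU
  have h1 : IsIso (homOf e) := by
    rw [isIso_iff_isGen]
    simpa using he
  exact ⟨(asIso (homOf e)).symm⟩

/-- Invertible modules pulled back along a morphism which factors through a one-point scheme are trivial. -/
theorem pull_trivial {E T X : Scheme.{u}} (f : E ⟶ X) (g : E ⟶ T) (h : T ⟶ X) (hf : f = g ≫ h) [Subsingleton T]
    [Nonempty T] (L : X.Modules) (hL : PicF.IsInvertible L) :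
    Nonempty ((Scheme.Modules.pullback f).obj L ≅ Coh.structureModule E) := by
  subst hf
  obtain ⟨e⟩ := pic_trivial _ (Fdesc.LocGen.isInvertible_pullback h hL)
  obtain ⟨e'⟩ := Ega3B.PullTensor.nonempty_pullUnitIso g
  exact ⟨(Scheme.Modules.pullbackComp g h).symm.app L ≪≫ (Scheme.Modules.pullback g).mapIso e ≪≫ e'⟩

section line

variable (k K : Type u) [Field k] [Field K] [Algebra k K] (E : Scheme.{u}) [E.Over (Spec (CommRingCat.of k))]
  (e : CohB1.ProjSpace 1 K ≅ E) (he : e.hom ≫ (E ↘ Spec (CommRingCat.of k)) =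
    CohB1.ProjSpace.toSpec 1 K ≫ Spec.map (CommRingCat.ofHom (algebraMap k K)))

theorem euler_two_eq_one (M : (CohB1.ProjSpace 1 K).Modules) :
    FGA.eulerCharLE K (CohB1.ProjSpace 1 K) M 2 = FGA.eulerCharLE K (CohB1.ProjSpace 1 K) M 1 := by
  have h1 : topologicalKrullDim (CohB1.ProjSpace 1 K) ≤ (1 : ℕ) := CohqA.ProjDim.topologicalKrullDim_le K 1
  have : IsProper (CohB1.ProjSpace 1 K ↘ Spec (CommRingCat.of K)) :=
    inferInstanceAs (IsProper (CohB1.ProjSpace.toSpec 1 K))
  rw [Fga.IntAdd.eulerCharLE_eq K _ 2 (h1.trans (by norm_num)), Fga.IntAdd.eulerCharLE_eq K _ 1 h1]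

/-- The degree of `O(1)`. -/
theorem euler_twist_one : FGA.eulerCharLE K (CohB1.ProjSpace 1 K) (Coh.structureModule _) 2 -
    FGA.eulerCharLE K (CohB1.ProjSpace 1 K) (Twist.twistProjSpace 1 K 1) 2 = -1 := by
  have h := Dix.Cast2.wp2_deg (k := K) 1
  unfold ArSurf.curveDeg at h
  rw [euler_two_eq_one, euler_two_eq_one]
  linarith

end line

variable (k : Type u) [Field k] {X X' : Scheme.{u}} [X.Over (Spec (CommRingCat.of k))]
  [X'.Over (Spec (CommRingCat.of k))] [IsProper (X' ↘ Spec (CommRingCat.of k))]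
  (π : X' ⟶ X) (hover : π ≫ (X ↘ Spec (CommRingCat.of k)) = X' ↘ Spec (CommRingCat.of k))
  (x : X) (hx : IsClosed ({x} : Set X)) [IsRegularLocalRing (X.presheaf.stalk x)]
  (hdim : ringKrullDim (X.presheaf.stalk x) = 2) (hπ : BlowUp.IsBlowUp π (pt x hx))
  (hdim' : topologicalKrullDim X' ≤ (2 : ℕ))

include hover hdim hπ hdim' in
/-- The intersection numbers with the exceptional curve. -/
theorem intNum_exc {M : X'.Modules} (hM : PicF.IsInvertible M) :
    letI : Algebra k (IsLocalRing.ResidueField (X.presheaf.stalk x)) := Curv2.resAlgebra k X x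
    ∃ (i : CohB1.ProjSpace 1 (IsLocalRing.ResidueField (X.presheaf.stalk x)) ⟶ X'), IsClosedImmersion i ∧
      i.ker = (pt x hx).comap π ∧
      i ≫ π = CohB1.ProjSpace.toSpec 1 (IsLocalRing.ResidueField (X.presheaf.stalk x)) ≫ X.fromSpecResidueField x ∧
      Nonempty ((Scheme.Modules.pullback i).obj (ClSub.idealMod ((pt x hx).comap π)) ≅
        Twist.twistProjSpace 1 (IsLocalRing.ResidueField (X.presheaf.stalk x)) 1) ∧
      FGA.intNum k X' 2 ![ClSub.idealMod ((pt x hx).comap π), M] (Coh.structureModule X') =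
        Module.finrank k (IsLocalRing.ResidueField (X.presheaf.stalk x)) *
          (FGA.eulerCharLE (IsLocalRing.ResidueField (X.presheaf.stalk x))
            (CohB1.ProjSpace 1 (IsLocalRing.ResidueField (X.presheaf.stalk x))) (Coh.structureModule _) 2 -
          FGA.eulerCharLE (IsLocalRing.ResidueField (X.presheaf.stalk x))
            (CohB1.ProjSpace 1 (IsLocalRing.ResidueField (X.presheaf.stalk x)))
            ((Scheme.Modules.pullback i).obj M) 2) := by
  letI : Algebra k (IsLocalRing.ResidueField (X.presheaf.stalk x)) := Curv2.resAlgebra k X x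
  obtain ⟨i, hi, hker, hcomp, hN⟩ := ExcCurve.exists_curve π x hx hdim hπ
  rw [hker] at hN
  refine ⟨i, hi, hker, hcomp, hN, ?_⟩
  let K := IsLocalRing.ResidueField (X.presheaf.stalk x)
  let j : CohB1.ProjSpace 1 K ⟶ X' := i
  have hj : IsClosedImmersion j := hi
  have hcomp : j ≫ π = CohB1.ProjSpace.toSpec 1 K ≫ X.fromSpecResidueField x := hcomp
  let iO : (CohB1.ProjSpace 1 K).Over (Spec (CommRingCat.of k)) := ⟨j ≫ (X' ↘ Spec (CommRingCat.of k))⟩
  have hconst : ((CohB1.ProjSpace 1 K) ↘ Spec (CommRingCat.of k)) =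
      ((CohB1.ProjSpace 1 K) ↘ Spec (CommRingCat.of K)) ≫ Spec.map (CommRingCat.ofHom (algebraMap k K)) := by
    change j ≫ (X' ↘ Spec (CommRingCat.of k)) = CohB1.ProjSpace.toSpec 1 K ≫
      Spec.map (CommRingCat.ofHom (Curv2.resMap k X x))
    rw [← hover, reassoc_of% hcomp]
    exact congrArg (CohB1.ProjSpace.toSpec 1 K ≫ ·) (VarietyB.ResMap.specMap_resMap (k := k) X x).symm
  have h1 := CutKer.intNum_ideal k j rfl hdim' _ hker hM
  rw [h1, Dix.Cast0.eulerCharLE_const k K _ hconst, Dix.Cast0.eulerCharLE_const k K _ hconst]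
  ring

include hover hdim hπ hdim' in
/-- The exceptional curve is orthogonal to pulled back modules. -/
theorem intNum_exc_pull {L : X.Modules} (hL : PicF.IsInvertible L) :
    FGA.intNum k X' 2 ![ClSub.idealMod ((pt x hx).comap π), (Scheme.Modules.pullback π).obj L]
      (Coh.structureModule X') = 0 := by
  obtain ⟨i, hi, hker, hcomp, hN, h⟩ := intNum_exc k π hover x hx hdim hπ hdim'
    (Fdesc.LocGen.isInvertible_pullback π hL)
  rw [h]
  have h1 : Nonempty ((Scheme.Modules.pullback i).obj ((Scheme.Modules.pullback π).obj L) ≅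
      Coh.structureModule _) := by
    have : Subsingleton (Spec (X.residueField x)) := inferInstanceAs (Subsingleton (PrimeSpectrum (X.residueField x)))
    obtain ⟨e⟩ := pull_trivial (i ≫ π) _ _ hcomp L hL
    exact ⟨(Scheme.Modules.pullbackComp i π).app L ≪≫ e⟩
  obtain ⟨e⟩ := h1
  rw [euler_iso _ _ e 2, sub_self, mul_zero]

include hover hdim hπ hdim' in
/-- The self-intersection of the exceptional curve. -/
theorem intNum_exc_self :
    letI : Algebra k (X.residueField x) := Curv2.resAlgebra k X x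
    FGA.intNum k X' 2 ![ClSub.idealMod ((pt x hx).comap π), ClSub.idealMod ((pt x hx).comap π)]
      (Coh.structureModule X') = - (Module.finrank k (X.residueField x) : ℤ) := by
  obtain ⟨i, hi, hker, hcomp, ⟨e⟩, h⟩ := intNum_exc k π hover x hx hdim hπ hdim'
    (Dix.IdealModCartier.isInvertible_idealMod hπ.1)
  rw [h, euler_iso _ _ e 2, euler_twist_one, mul_neg_one]
  rfl

end K455.ExcInt
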