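import Groth.Agent.Surf.K455.BlowDim
import Groth.Agent.Surf.K455.PicLoc
import Groth.Agent.Surf.K455.Proj
import Groth.Agent.CohqB.AmpGeneric
import Groth.Agent.S3233
import Groth.Agent.S3231
import Groth.Agent.Surf.K456.SecTriv

/-!
# Positivity of effective divisors against ample modules

`X` proper over a field `k`, all irreducible components of dimension two, `H` ample with inverse `H'`.
* `topologicalKrullDim_eq_one`: a nonempty effective Cartier divisor has dimension one.
* `intNum_pos`: `0 < (I_D · H')` for a nonempty effective Cartier divisor `D`.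
* `intNum_nonneg_of_section`, `mc_eq_one_of_section`: for `X` integral and `M` invertible with a nonzero section
  `(M · H) ≥ 0`, with equality only if `M ≅ O`.
-/

set_option autoImplicit false
universe u
open CategoryTheory CategoryTheory.Limits AlgebraicGeometry TopologicalSpace IsLocalRing

namespace K455.Pos

open Groth.Agent Groth.Agent.Ega2 Groth.Agent.Fga.PicMon Groth.Agent.Divis.CartierStalk
  Groth.Agent.Divis.CartierBasic Groth.Agent.Fdesc.LocGen Groth.Agent.Grpsch.PicGrp

theorem le_of_add_one_le {a b : WithBot ℕ∞} (h : a + 1 ≤ b + 1) : a ≤ b := by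
  induction a using WithBot.recBotCoe with
  | bot => exact bot_le
  | coe a =>
    induction b using WithBot.recBotCoe with
    | bot => exact absurd h (by rw [WithBot.bot_add, le_bot_iff]; exact WithBot.coe_ne_bot)
    | coe b =>
      have h1 : ((a + 1 : ℕ∞) : WithBot ℕ∞) ≤ ((b + 1 : ℕ∞) : WithBot ℕ∞) := by exact_mod_cast h
      exact_mod_cast (ENat.add_le_add_iff_right (by simp)).1 (WithBot.coe_le_coe.1 h1)

theorem mem_support_unit {X : Scheme.{u}} (x : X) : x ∈ CohB1.support (Coh.structureModule X) := by
  intro hsub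
  have h1 : (Coh.structureModule X).presheaf.germ ⊤ x (Opens.mem_top _) (one ⊤) = 0 := Subsingleton.elim _ _
  obtain ⟨V, hVU, hxV, hV⟩ := VarietyB.ExactLoc.exists_res_eq_zero (Coh.structureModule X) (Opens.mem_top _) _ h1
  have h2 : one (X := X) V = 0 := by
    rw [← res_one hVU]
    exact hV
  have h5 : (1 : Γ(X, V)) = 0 := by
    apply (isGen_one V).ext
    rw [h2, smul_zero, smul_zero]
  have : Nonempty V := ⟨⟨x, hxV⟩⟩
  exact one_ne_zero h5

theorem support_unit (X : Scheme.{u}) : CohB1.support (Coh.structureModule X) = Set.univ :=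
  Set.eq_univ_of_forall mem_support_unit

theorem dim_support_unit (X : Scheme.{u}) :
    topologicalKrullDim (CohB1.support (Coh.structureModule X)) = topologicalKrullDim X := by
  rw [support_unit]
  exact (Homeomorph.Set.univ X).isHomeomorph.topologicalKrullDim_eq

section dim

variable {X : Scheme.{u}} [IsLocallyNoetherian X]

/-- The dimension of an effective Cartier divisor on a scheme of dimension at most `n + 1`. -/
theorem dim_le_of_isEff (D : X.IdealSheafData) (hD : BlowUp.IsEffCartierIdeal D) (n : ℕ)
    (hX : topologicalKrullDim X ≤ ((n + 1 : ℕ) : WithBot ℕ∞)) : topologicalKrullDim D.subscheme ≤ n := by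
  rw [Dix.ContractSurf.topologicalKrullDim_eq D.subscheme]
  refine iSup_le fun z => ?_
  obtain ⟨f, hf, hIf⟩ := exists_stalkIdeal_eq_span hD (D.subschemeι z)
  have h2 : ringKrullDim (X.presheaf.stalk (D.subschemeι z) ⧸ Ideal.span {f}) =
      ringKrullDim (D.subscheme.presheaf.stalk z) := by
    rw [← hIf]
    exact ringKrullDim_eq_of_ringEquiv (stalkQuotEquiv D z)
  have h1 := ringKrullDim_quotient_succ_le_of_nonZeroDivisor hf
  rw [h2] at h1
  have h3 : ringKrullDim (X.presheaf.stalk (D.subschemeι z)) ≤ ((n + 1 : ℕ) : WithBot ℕ∞) := by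
    refine le_trans ?_ hX
    rw [Dix.ContractSurf.topologicalKrullDim_eq X]
    exact le_iSup (fun z : X => ringKrullDim (X.presheaf.stalk z)) _
  have h4 := h1.trans h3
  push_cast at h4
  exact le_of_add_one_le h4

end dim

variable (k : Type u) [Field k] {X : Scheme.{u}} [X.Over (Spec (CommRingCat.of k))]
  [IsProper (X ↘ Spec (CommRingCat.of k))]

include k in
/-- A nonempty effective Cartier divisor on a surface is one-dimensional. -/
theorem topologicalKrullDim_eq_one (hdim : ∀ Z ∈ irreducibleComponents (X : Type u), topologicalKrullDim Z = 2)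
    (D : X.IdealSheafData) (hD : BlowUp.IsEffCartierIdeal D) (hne : (D.support : Set X).Nonempty) :
    topologicalKrullDim D.subscheme = 1 := by
  have := Fga.IntAdd.isNoetherian k X
  have hd : topologicalKrullDim X ≤ (2 : ℕ) := by
    rw [VarietyB.DimTop.topologicalKrullDim_eq_iSup_irreducibleComponents]
    exact iSup_le fun Z => (hdim Z.1 Z.2).le
  apply le_antisymm
  · exact_mod_cast dim_le_of_isEff D hD 1 hd
  · -- a closed point of `D`
    obtain ⟨x, hx, hxc⟩ := IsClosed.exists_closed_singleton D.support.isClosed hne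
    have h2 := CMCut.le_ringKrullDim_stalk k X 2 hdim x hxc
    obtain ⟨z, rfl⟩ := exists_subscheme_apply_eq D hx
    obtain ⟨f, hf, hIf⟩ := exists_stalkIdeal_eq_span hD (D.subschemeι z)
    have hfm : f ∈ maximalIdeal (X.presheaf.stalk (D.subschemeι z)) := by
      have h1 := (mem_support_iff_stalkIdeal_le D _).1 hx
      rw [hIf] at h1
      exact h1 (Ideal.mem_span_singleton_self f)
    have h1 := Ideal.height_le_ringKrullDim_quotient_add_one hfm
    rw [IsLocalRing.maximalIdeal_height_eq_ringKrullDim] at h1
    have h3 : ringKrullDim (X.presheaf.stalk (D.subschemeι z) ⧸ Ideal.span {f}) =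
        ringKrullDim (D.subscheme.presheaf.stalk z) := by
      rw [← hIf]
      exact ringKrullDim_eq_of_ringEquiv (stalkQuotEquiv D z)
    rw [h3] at h1
    have h4 : ringKrullDim (D.subscheme.presheaf.stalk z) ≤ topologicalKrullDim D.subscheme := by
      rw [Dix.ContractSurf.topologicalKrullDim_eq D.subscheme]
      exact le_iSup (fun z : D.subscheme => ringKrullDim (D.subscheme.presheaf.stalk z)) z
    refine le_trans ?_ h4
    have h5 := h2.trans h1
    have h6 : (1 : WithBot ℕ∞) + 1 ≤ ringKrullDim (D.subscheme.presheaf.stalk z) + 1 := by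
      have h7 : (1 : WithBot ℕ∞) + 1 = ((2 : ℕ) : WithBot ℕ∞) := by norm_num
      rw [h7]
      exact h5
    exact le_of_add_one_le h6

/-- `FGA.intNum` for one module. -/
theorem intNum_one_eq (A F : X.Modules) (d : ℕ) : FGA.intNum k X d ![A] F =
    FGA.eulerCharLE k X F d - FGA.eulerCharLE k X (CohB1.tensorMod A F) d := by
  have h1 : (![A] : Fin 1 → X.Modules) = (Fin.cons A (Fin.elim0 : Fin 0 → X.Modules) : Fin (0 + 1) → X.Modules) := by
    funext i
    fin_cases i
    rfl
  have h2 := intNum_cons k X d A (Fin.elim0 : Fin 0 → X.Modules) F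
  rw [intNum_zero, intNum_zero] at h2
  rw [h1]
  exact h2

/-- The intersection number with an effective Cartier divisor, as an intersection number on the divisor. -/
theorem intNum_eq_on (hdim : topologicalKrullDim X ≤ (2 : ℕ)) {C : Scheme.{u}} [C.Over (Spec (CommRingCat.of k))]
    (i : C ⟶ X) [IsClosedImmersion i] (hi : i ≫ (X ↘ Spec (CommRingCat.of k)) = C ↘ Spec (CommRingCat.of k))
    {M : X.Modules} (hM : PicF.IsInvertible M) :
    FGA.intNum k X 2 ![ClSub.idealMod i.ker, M] (Coh.structureModule X) =
      FGA.intNum k C 2 ![(Scheme.Modules.pullback i).obj M] (Coh.structureModule C) := by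
  have : IsProper (C ↘ Spec (CommRingCat.of k)) := by
    rw [← hi]
    infer_instance
  rw [CutKer.intNum_ideal k i hi hdim i.ker rfl hM, intNum_one_eq,
    euler_iso k C (Tens.runit ((Scheme.Modules.pullback i).obj M)) 2]

/-- An ample module has positive degree on a nonempty effective Cartier divisor. -/
theorem intNum_pos (hdim : ∀ Z ∈ irreducibleComponents (X : Type u), topologicalKrullDim Z = 2)
    {H H' : X.Modules} (hH : CohB1.IsAmple H) (e : Nonempty (CohB1.tensorMod H H' ≅ Coh.structureModule X))
    (D : X.IdealSheafData) (hD : BlowUp.IsEffCartierIdeal D) (hne : (D.support : Set X).Nonempty) :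
    0 < FGA.intNum k X 2 ![ClSub.idealMod D, H'] (Coh.structureModule X) := by
  have := Fga.IntAdd.isNoetherian k X
  have hd : topologicalKrullDim X ≤ (2 : ℕ) := by
    rw [VarietyB.DimTop.topologicalKrullDim_eq_iSup_irreducibleComponents]
    exact iSup_le fun Z => (hdim Z.1 Z.2).le
  let : D.subscheme.Over (Spec (CommRingCat.of k)) := ⟨D.subschemeι ≫ (X ↘ (Spec (CommRingCat.of k)))⟩
  have : IsProper (D.subscheme ↘ (Spec (CommRingCat.of k))) :=
    inferInstanceAs (IsProper (D.subschemeι ≫ (X ↘ (Spec (CommRingCat.of k)))))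
  have hH' : PicF.IsInvertible H' := by
    obtain ⟨e⟩ := e
    exact Fga.IntAdd.isInvertible_of_tensor e
  have h1 := intNum_eq_on k hd D.subschemeι rfl hH'
  rw [Scheme.IdealSheafData.ker_subschemeι] at h1
  rw [h1]
  have hC1 := topologicalKrullDim_eq_one k hdim D hD hne
  refine S3233.result k D.subscheme 2 (hC1.le.trans (by norm_num))
    (fun _ => (Scheme.Modules.pullback D.subschemeι).obj H) _ (fun _ => ?_) (fun i => ?_) _
    (CurvesC.UnitCoh.isCoh_unit _) ?_
  · exact CohqB.AmpCocycle.isAmple_pullback D.subschemeι hH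
  · fin_cases i
    obtain ⟨e⟩ := e
    obtain ⟨u⟩ := Ega3B.PullTensor.nonempty_pullUnitIso D.subschemeι
    exact ⟨(Ega3B.PullTensor.pullTensorIso D.subschemeι hH.1 hH').symm ≪≫
      (Scheme.Modules.pullback D.subschemeι).mapIso e ≪≫ u⟩
  · rw [dim_support_unit, hC1]
    rfl

section Integral

variable [IsIntegral X]

/-- The divisor of a nonzero section. -/
theorem exists_divisor {M : X.Modules} (hM : PicF.IsInvertible M) (s : Γ(M, ⊤)) (hs : s ≠ 0) :
    ∃ D : X.IdealSheafData, BlowUp.IsEffCartierIdeal D ∧ mc M * mc (ClSub.idealMod D) = 1 := by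
  obtain ⟨D, hD, hinv, -⟩ := Models.H38.SecDiv.exists_divisor hM s (by
    intro V e a he hae
    by_cases hV : (V.1 : Set X).Nonempty
    · have hnz : a ≠ 0 := by
        rintro rfl
        rw [zero_smul] at hae
        obtain ⟨x, hx⟩ := hV
        exact hs (K456.SecTriv.eq_zero_of_res hM _ hx s hae)
      have : Nonempty V.1 := hV.to_subtype
      exact mem_nonZeroDivisors_of_ne_zero hnz
    · have h0 : V.1 = ⊥ := by
        ext x
        simp only [TopologicalSpace.Opens.coe_bot, Set.mem_empty_iff_false, iff_false]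
        exact fun hx => hV ⟨x, hx⟩
      have : Subsingleton Γ(X, V.1) := by
        rw [h0]
        exact inferInstance
      rw [mem_nonZeroDivisors_iff_right]
      exact fun b _ => Subsingleton.elim _ _)
  refine ⟨D, hD, ?_⟩
  rw [← mc_tensor, ← mc_one, mc_eq_iff]
  exact hinv

/-- `(M · H) ≥ 0` for a module with a nonzero section. -/
theorem intNum_nonneg_of_section (hdim : topologicalKrullDim X = 2) {H : X.Modules} (hH : CohB1.IsAmple H)
    {M : X.Modules} (hM : PicF.IsInvertible M) (s : Γ(M, ⊤)) (hs : s ≠ 0) :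
    0 ≤ FGA.intNum k X 2 ![M, H] (Coh.structureModule X) ∧
      (FGA.intNum k X 2 ![M, H] (Coh.structureModule X) = 0 → mc M = 1) := by
  have := Fga.IntAdd.isNoetherian k X
  obtain ⟨D, hD, hMD⟩ := exists_divisor hM s hs
  obtain ⟨H', hH', e⟩ := exists_inverse hH.1
  have hHH : mc H * mc H' = 1 := by
    rw [← mc_tensor, ← mc_one, mc_eq_iff]
    exact e
  have hI : PicF.IsInvertible (ClSub.idealMod D) := Dix.IdealModCartier.isInvertible_idealMod hD
  have h1 : FGA.intNum k X 2 ![M, H] (Coh.structureModule X) =
      FGA.intNum k X 2 ![ClSub.idealMod D, H'] (Coh.structureModule X) := by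
    rw [RR.intNum_inv_left k hdim.le (ClSub.idealMod D) M H hI hM (by rw [mul_comm]; exact hMD) hH.1,
      RR.intNum_inv_right k hdim.le H H' (ClSub.idealMod D) hH.1 hH' hHH hI]
  by_cases hne : (D.support : Set X).Nonempty
  · have h2 := intNum_pos k (Proj.dim_components hdim) hH e D hD hne
    rw [h1]
    exact ⟨h2.le, fun h => absurd h h2.ne'⟩
  · have h2 : D = ⊤ := by
      rw [← Scheme.IdealSheafData.support_eq_bot_iff]
      apply TopologicalSpace.Closeds.ext
      rw [Set.not_nonempty_iff_eq_empty.1 hne]
      rfl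
    have h3 : mc M = 1 := by
      rw [h2] at hMD
      have h4 : mc (ClSub.idealMod (⊤ : X.IdealSheafData)) = 1 := Models.H38.TrivGen.mc_idealMod_one
      rw [h4, mul_one] at hMD
      exact hMD
    rw [RR.intNum_one_left k h3]
    exact ⟨le_rfl, fun _ => h3⟩

end Integral

end K455.Pos
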