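import Groth.Agent.Surf.K455.RR
import Groth.Agent.Fga.IntAdd
import Groth.Agent.Fga.MultInt
import Groth.Agent.VarietyB.DegCartier
import Groth.Agent.Sga2.LefPow644
import Groth.Agent.Dix.IdealModCartier

/-!
# Cutting with a closed subscheme

For `X` proper over `k` of dimension at most two, `I` an ideal sheaf with closed subscheme `i : C ⟶ X`, and `M`
invertible:
* `euler_cut`: `χ(M) = χ(I ⊗ M) + χ(C, i^* M)`;
* `intNum_ideal`: `(I·M) = χ(C, O_C) - χ(C, i^* M)`.
-/

set_option autoImplicit false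
universe u
open CategoryTheory CategoryTheory.Limits AlgebraicGeometry TopologicalSpace

namespace K455.Cut

open Groth.Agent Groth.Agent.Ega2 Groth.Agent.Fga.AltSum Groth.Agent.Fga.PicMon Groth.Agent.Fga.ChiBasic

variable (k : Type u) [Field k] {X Z : Scheme.{u}} [X.Over (Spec (CommRingCat.of k))]
  [Z.Over (Spec (CommRingCat.of k))]

/-- `χ(X, M ⊗ i_* G) = χ(Z, i^* M ⊗ G)`. -/
theorem euler_tensor_push (i : Z ⟶ X) [IsClosedImmersion i]
    (hi : i ≫ (X ↘ Spec (CommRingCat.of k)) = Z ↘ Spec (CommRingCat.of k)) {M : X.Modules} (hM : PicF.IsInvertible M)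
    (G : Z.Modules) (d : ℕ) :
    FGA.eulerCharLE k X (CohB1.tensorMod M ((Coh.push i).obj G)) d =
      FGA.eulerCharLE k Z (CohB1.tensorMod ((Scheme.Modules.pullback i).obj M) G) d := by
  rw [euler_iso k X (VarietyB.ProjForm.projIso i (Fga.MultInt.hasBases hM) G) d]
  exact Fga.MultInt.euler_push k i hi _ d

variable [IsProper (X ↘ Spec (CommRingCat.of k))]

/-- Additivity of the Euler characteristic along `0 ⟶ I ⟶ O ⟶ O/I ⟶ 0`, twisted by an invertible module. -/
theorem euler_cut_quot (hdim : topologicalKrullDim X ≤ (2 : ℕ)) (I : X.IdealSheafData) {M : X.Modules}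
    (hM : PicF.IsInvertible M) :
    FGA.eulerCharLE k X M 2 = FGA.eulerCharLE k X (CohB1.tensorMod M (ClSub.idealMod I)) 2 +
      FGA.eulerCharLE k X (CohB1.tensorMod M (ClSub.quotMod I)) 2 := by
  have := Fga.IntAdd.isNoetherian k X
  have h := Fga.IntAdd.isAdd_tensor X (Fga.IntAdd.isAdd_euler k X 2 hdim) hM _
    (Sga2.LefPow644.shortExact_idealMod I) (VarietyB.DegCartier.isCoh_idealMod I) (CurvesC.UnitCoh.isCoh_unit X)
    (CycB.ClosSheaf.isCoh_push_structureModule I.subschemeι)
  rw [← euler_iso k X (Tens.runit M) 2]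
  exact h

theorem euler_cut (hdim : topologicalKrullDim X ≤ (2 : ℕ)) (I : X.IdealSheafData)
    [I.subscheme.Over (Spec (CommRingCat.of k))]
    (hi : I.subschemeι ≫ (X ↘ Spec (CommRingCat.of k)) = I.subscheme ↘ Spec (CommRingCat.of k)) {M : X.Modules}
    (hM : PicF.IsInvertible M) :
    FGA.eulerCharLE k X M 2 = FGA.eulerCharLE k X (CohB1.tensorMod M (ClSub.idealMod I)) 2 +
      FGA.eulerCharLE k I.subscheme ((Scheme.Modules.pullback I.subschemeι).obj M) 2 := by
  rw [euler_cut_quot k hdim I hM]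
  congr 1
  rw [← euler_iso k I.subscheme (Tens.runit ((Scheme.Modules.pullback I.subschemeι).obj M)) 2]
  exact euler_tensor_push k I.subschemeι hi hM (Coh.structureModule I.subscheme) 2

theorem euler_cut_one (hdim : topologicalKrullDim X ≤ (2 : ℕ)) (I : X.IdealSheafData)
    [I.subscheme.Over (Spec (CommRingCat.of k))]
    (hi : I.subschemeι ≫ (X ↘ Spec (CommRingCat.of k)) = I.subscheme ↘ Spec (CommRingCat.of k)) :
    FGA.eulerCharLE k X (Coh.structureModule X) 2 = FGA.eulerCharLE k X (ClSub.idealMod I) 2 +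
      FGA.eulerCharLE k I.subscheme (Coh.structureModule I.subscheme) 2 := by
  have h := Fga.IntAdd.isAdd_euler k X 2 hdim _
    (Sga2.LefPow644.shortExact_idealMod I)
  have := Fga.IntAdd.isNoetherian k X
  have h2 := h (VarietyB.DegCartier.isCoh_idealMod I) (CurvesC.UnitCoh.isCoh_unit X)
    (CycB.ClosSheaf.isCoh_push_structureModule I.subschemeι)
  refine h2.trans ?_
  congr 1
  exact Fga.MultInt.euler_push k I.subschemeι hi _ 2

/-- `(I·M) = χ(C, O_C) - χ(C, M|_C)` for the closed subscheme `C` of `I`. -/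
theorem intNum_ideal (hdim : topologicalKrullDim X ≤ (2 : ℕ)) (I : X.IdealSheafData)
    [I.subscheme.Over (Spec (CommRingCat.of k))]
    (hi : I.subschemeι ≫ (X ↘ Spec (CommRingCat.of k)) = I.subscheme ↘ Spec (CommRingCat.of k)) {M : X.Modules}
    (hM : PicF.IsInvertible M) :
    FGA.intNum k X 2 ![ClSub.idealMod I, M] (Coh.structureModule X) =
      FGA.eulerCharLE k I.subscheme (Coh.structureModule I.subscheme) 2 -
        FGA.eulerCharLE k I.subscheme ((Scheme.Modules.pullback I.subschemeι).obj M) 2 := by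
  have h1 := euler_cut k hdim I hi hM
  have h2 := euler_cut_one k hdim I hi
  rw [RR.intNum_two, h2, h1, euler_iso k X (Tens.swap (ClSub.idealMod I) M) 2]
  ring

end K455.Cut
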