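import Groth.Agent.S3231
import Groth.Agent.Fga.PicMon
import Groth.Agent.CurvesC.UnitCoh
import Groth.Agent.S2122
import Groth.Prelude.Def_CurvBase

/-!
# Numerical Riemann–Roch on a proper scheme of dimension at most two

* `intNum_two`: `(A·B) = χ(O) - χ(A) - χ(B) + χ(A ⊗ B)` for arbitrary modules `A`, `B`.
* `rr_of_duality`: if `L ⊗ L' ≅ O`, `χ(W) = χ(O)` and `χ(L ⊗ W) = χ(L')` then
  `2 χ(L) = (L·L) - (L·W) + 2 χ(O)`.
* `euler_eq_LE`: `Curv2.euler = FGA.eulerCharLE · d` for `X` proper of dimension `≤ d`.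
-/

set_option autoImplicit false
universe u
open CategoryTheory CategoryTheory.Limits AlgebraicGeometry TopologicalSpace

namespace K455.RR

open Groth.Agent Groth.Agent.Ega2 Groth.Agent.Fga.AltSum Groth.Agent.Fga.PicMon

variable (k : Type u) [Field k] (X : Scheme.{u}) [X.Over (Spec (CommRingCat.of k))]

/-- The Euler characteristic (truncated at `2`) on classes of modules. -/
noncomputable def χ : MC X → ℤ := chiCl k X 2 (Coh.structureModule X)

variable {X}

theorem χ_mc (L : X.Modules) : χ k X (mc L) = FGA.eulerCharLE k X L 2 := by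
  unfold χ
  rw [chiCl_mc]
  exact euler_iso k X (Tens.runit L) 2

theorem χ_one : χ k X 1 = FGA.eulerCharLE k X (Coh.structureModule X) 2 := by
  rw [← mc_one, χ_mc]

theorem dSum_two (ψ : MC X → ℤ) (x y : MC X) : dSum ψ ![x, y] = ψ 1 - ψ x - ψ y + ψ (x * y) := by
  have h1 : (![x, y] : Fin 2 → MC X) = Fin.cons x (Fin.cons y Fin.elim0 : Fin 1 → MC X) := by
    funext i
    fin_cases i <;> rfl
  rw [h1, dSum_cons, dSum_cons, dSum_cons]
  simp only [dSum_zero, mul_one]
  ring

theorem dSum_three (ψ : MC X → ℤ) (x y z : MC X) : dSum ψ ![x, y, z] =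
    ψ 1 - ψ x - ψ y - ψ z + ψ (x * y) + ψ (x * z) + ψ (y * z) - ψ (x * y * z) := by
  have h1 : (![x, y, z] : Fin 3 → MC X) = Fin.cons x (Fin.cons y (Fin.cons z Fin.elim0 : Fin 1 → MC X) : Fin 2 → MC X) := by
    funext i
    fin_cases i <;> rfl
  rw [h1, dSum_cons, dSum_cons, dSum_cons, dSum_cons, dSum_cons, dSum_cons, dSum_cons]
  simp only [dSum_zero, mul_one, mul_assoc]
  ring

/-- The intersection number on classes. -/
theorem intNum_eq_χ (A B : X.Modules) : FGA.intNum k X 2 ![A, B] (Coh.structureModule X) =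
    χ k X 1 - χ k X (mc A) - χ k X (mc B) + χ k X (mc A * mc B) := by
  rw [intNum_eq_dSum]
  have h : (fun i => mc ((![A, B] : Fin 2 → X.Modules) i)) = ![mc A, mc B] := by
    funext i
    fin_cases i <;> rfl
  rw [h, dSum_two]
  rfl

/-- The intersection number in terms of Euler characteristics. -/
theorem intNum_two (A B : X.Modules) : FGA.intNum k X 2 ![A, B] (Coh.structureModule X) =
    FGA.eulerCharLE k X (Coh.structureModule X) 2 - FGA.eulerCharLE k X A 2 - FGA.eulerCharLE k X B 2 +
      FGA.eulerCharLE k X (CohB1.tensorMod A B) 2 := by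
  rw [intNum_eq_χ, χ_one, χ_mc, χ_mc, ← mc_tensor, χ_mc]

theorem intNum_comm (A B : X.Modules) : FGA.intNum k X 2 ![A, B] (Coh.structureModule X) =
    FGA.intNum k X 2 ![B, A] (Coh.structureModule X) := by
  rw [intNum_eq_χ, intNum_eq_χ, mul_comm (mc A)]
  ring

theorem intNum_congr_cl {A B A' B' : X.Modules} (hA : mc A = mc A') (hB : mc B = mc B') :
    FGA.intNum k X 2 ![A, B] (Coh.structureModule X) = FGA.intNum k X 2 ![A', B'] (Coh.structureModule X) := by
  rw [intNum_eq_χ, intNum_eq_χ, hA, hB]

theorem intNum_one_left {A B : X.Modules} (hA : mc A = 1) :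
    FGA.intNum k X 2 ![A, B] (Coh.structureModule X) = 0 := by
  rw [intNum_eq_χ, hA, one_mul]
  ring

theorem intNum_one_right {A B : X.Modules} (hB : mc B = 1) :
    FGA.intNum k X 2 ![A, B] (Coh.structureModule X) = 0 := by
  rw [intNum_comm, intNum_one_left k hB]

section Proper

variable [IsProper (X ↘ Spec (CommRingCat.of k))]

/-- Third differences vanish on a proper scheme of dimension at most two. -/
theorem third_difference (hdim : topologicalKrullDim X ≤ (2 : ℕ)) (A B C : X.Modules)
    (hA : PicF.IsInvertible A) (hB : PicF.IsInvertible B) (hC : PicF.IsInvertible C) :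
    χ k X 1 - χ k X (mc A) - χ k X (mc B) - χ k X (mc C) + χ k X (mc A * mc B) + χ k X (mc A * mc C) +
      χ k X (mc B * mc C) - χ k X (mc A * mc B * mc C) = 0 := by
  have h0 : FGA.intNum k X 2 ![A, B, C] (Coh.structureModule X) = 0 := by
    refine Groth.Agent.S3231.result k X 2 hdim _ ?_ _ (CurvesC.UnitCoh.isCoh_unit X) ?_
    · intro i
      fin_cases i
      · exact hA
      · exact hB
      · exact hC
    · have h3 : topologicalKrullDim (CohB1.support (Coh.structureModule X)) ≤ (2 : ℕ) :=
        (Topology.IsInducing.subtypeVal.topologicalKrullDim_le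
          (Y := CohB1.support (Coh.structureModule X))).trans hdim
      exact lt_of_le_of_lt h3 (by exact_mod_cast Nat.lt_succ_self 2)
  rw [intNum_eq_dSum] at h0
  have h : (fun i => mc ((![A, B, C] : Fin 3 → X.Modules) i)) = ![mc A, mc B, mc C] := by
    funext i
    fin_cases i <;> rfl
  rw [h, dSum_three] at h0
  exact h0

/-- The intersection number is additive in the first variable. -/
theorem intNum_mul_left (hdim : topologicalKrullDim X ≤ (2 : ℕ)) (A B C : X.Modules)
    (hA : PicF.IsInvertible A) (hB : PicF.IsInvertible B) (hC : PicF.IsInvertible C) :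
    FGA.intNum k X 2 ![CohB1.tensorMod A B, C] (Coh.structureModule X) =
      FGA.intNum k X 2 ![A, C] (Coh.structureModule X) + FGA.intNum k X 2 ![B, C] (Coh.structureModule X) := by
  have h := third_difference k hdim A B C hA hB hC
  rw [intNum_eq_χ, intNum_eq_χ, intNum_eq_χ, mc_tensor]
  linarith

theorem intNum_mul_right (hdim : topologicalKrullDim X ≤ (2 : ℕ)) (A B C : X.Modules)
    (hA : PicF.IsInvertible A) (hB : PicF.IsInvertible B) (hC : PicF.IsInvertible C) :
    FGA.intNum k X 2 ![C, CohB1.tensorMod A B] (Coh.structureModule X) =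
      FGA.intNum k X 2 ![C, A] (Coh.structureModule X) + FGA.intNum k X 2 ![C, B] (Coh.structureModule X) := by
  rw [intNum_comm, intNum_mul_left k hdim A B C hA hB hC, intNum_comm k A C, intNum_comm k B C]

/-- The intersection number of an inverse. -/
theorem intNum_inv_left (hdim : topologicalKrullDim X ≤ (2 : ℕ)) (A A' C : X.Modules)
    (hA : PicF.IsInvertible A) (hA' : PicF.IsInvertible A') (h1 : mc A * mc A' = 1) (hC : PicF.IsInvertible C) :
    FGA.intNum k X 2 ![A', C] (Coh.structureModule X) = - FGA.intNum k X 2 ![A, C] (Coh.structureModule X) := by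
  have h := intNum_mul_left k hdim A A' C hA hA' hC
  rw [intNum_one_left k (A := CohB1.tensorMod A A') h1] at h
  linarith

theorem intNum_inv_right (hdim : topologicalKrullDim X ≤ (2 : ℕ)) (A A' C : X.Modules)
    (hA : PicF.IsInvertible A) (hA' : PicF.IsInvertible A') (h1 : mc A * mc A' = 1) (hC : PicF.IsInvertible C) :
    FGA.intNum k X 2 ![C, A'] (Coh.structureModule X) = - FGA.intNum k X 2 ![C, A] (Coh.structureModule X) := by
  rw [intNum_comm, intNum_inv_left k hdim A A' C hA hA' h1 hC, intNum_comm k A C]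

/-- **Numerical Riemann–Roch.** On a proper scheme of dimension at most two, for `L` invertible with inverse `L'`
and any module `W` with `χ(W) = χ(O)` and `χ(L ⊗ W) = χ(L')`: `2 χ(L) = (L·L) - (L·W) + 2 χ(O)`. -/
theorem rr_of_duality (hdim : topologicalKrullDim X ≤ (2 : ℕ)) (L L' W : X.Modules)
    (hL : PicF.IsInvertible L) (hL' : PicF.IsInvertible L') (h1 : mc L * mc L' = 1)
    (hW0 : FGA.eulerCharLE k X W 2 = FGA.eulerCharLE k X (Coh.structureModule X) 2)
    (hW1 : FGA.eulerCharLE k X (CohB1.tensorMod L W) 2 = FGA.eulerCharLE k X L' 2) :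
    2 * FGA.eulerCharLE k X L 2 = FGA.intNum k X 2 ![L, L] (Coh.structureModule X) -
      FGA.intNum k X 2 ![L, W] (Coh.structureModule X) + 2 * FGA.eulerCharLE k X (Coh.structureModule X) 2 := by
  have h := third_difference k hdim L L L' hL hL hL'
  rw [h1, mul_assoc, h1, mul_one] at h
  rw [← χ_mc, ← χ_one] at hW0
  rw [← χ_mc, ← χ_mc, mc_tensor] at hW1
  rw [intNum_eq_χ, intNum_eq_χ, hW0, hW1, ← χ_mc, ← χ_one]
  linarith

end Proper

end K455.RR
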