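import Groth.Agent.Grpsch.PicGrp
import Groth.Agent.Dix.IdealModSec

/-!
# The direct image of the structure sheaf for a morphism with a section
-/

set_option autoImplicit false
universe u
open CategoryTheory CategoryTheory.Limits AlgebraicGeometry Opposite TopologicalSpace

namespace K455.PushUnit

open Groth.Agent Groth.Agent.Fdesc.LocGen Groth.Agent.Grpsch.PicGrp

/-- If `π` has a section and `π_* O_X` is invertible, then `O_C ≅ π_* O_X`. -/
theorem isIso_unitToPush {X C : Scheme.{u}} (π : X ⟶ C) (σ : C ⟶ X) (hσ : σ ≫ π = 𝟙 C)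
    (h1 : PicF.IsInvertible ((Coh.push π).obj (Coh.structureModule X))) : IsIso (ClSub.unitToPush π) := by
  rw [isIso_iff_isGen, isGen_iff_forall_exists]
  intro y _
  obtain ⟨V, e, hyV, he⟩ := (isInvertible_iff _).1 h1 y
  refine ⟨V, le_top, hyV, ?_⟩
  rw [res_sec]
  obtain ⟨a, ha⟩ := he.exists_eq (sec (ClSub.unitToPush π) V)
  rw [ha]
  refine he.unit_smul ?_
  have hle : V ≤ σ ⁻¹ᵁ π ⁻¹ᵁ V := by
    rw [← Scheme.Hom.comp_preimage, hσ]
    exact le_rfl
  let r : Γ(X, π ⁻¹ᵁ V) ⟶ Γ(C, V) := σ.appLE (π ⁻¹ᵁ V) V hle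
  have hid : ∀ (g : C ⟶ C) (_ : g = 𝟙 C) (h : V ≤ g ⁻¹ᵁ V), g.appLE V V h = 𝟙 _ := by
    rintro _ rfl h
    rw [Scheme.Hom.appLE, Scheme.Hom.id_app]
    erw [Category.id_comp]
    exact C.presheaf.map_id _
  have hr : ∀ b : Γ(C, V), r.hom ((π.app V).hom b) = b := by
    intro b
    have h2 : π.app V ≫ r = 𝟙 _ := by
      rw [Scheme.Hom.app_eq_appLE, Scheme.Hom.appLE_comp_appLE]
      exact hid _ hσ _
    exact congr($h2 b)
  let e' : Γ(X, π ⁻¹ᵁ V) := e
  have h3 : (show Γ(X, π ⁻¹ᵁ V) from sec (ClSub.unitToPush π) V) = 1 := map_one (π.app V).hom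
  have h4 : (show Γ(X, π ⁻¹ᵁ V) from a • e) = (π.app V).hom a * e' := rfl
  have h5 : (π.app V).hom a * e' = 1 := h4.symm.trans (Eq.trans (by rw [ha]) h3)
  have h6 := congrArg r.hom h5
  rw [map_mul, hr, map_one] at h6
  exact IsUnit.of_mul_eq_one _ h6

end K455.PushUnit
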