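import Groth.Agent.Surf.K455.PicLoc
import Groth.Agent.Surf.K456.SecTriv

/-!
# The divisor of a function defined off an effective Cartier divisor

`exists_divisor_fun`: on a Noetherian integral scheme, let `D` be an effective Cartier ideal and `f ≠ 0` a function on
the complement of `D`, vanishing at `x`. There is an effective Cartier ideal `D'` with `x ∈ D'` and `I_{D'} ≅ I_D^m`.

`eq_top_of_trivial`: on an integral scheme whose global functions form a field, an effective Cartier ideal `F` with
`I_F ≅ O_X` is the unit ideal.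
-/

set_option autoImplicit false
universe u

open CategoryTheory CategoryTheory.Limits AlgebraicGeometry Opposite TopologicalSpace

namespace K455.FunDiv

open Groth.Agent Groth.Agent.Fdesc.LocGen Groth.Agent.Dix.IdealModCartier Groth.Agent.Dix.Cast5
open Groth.Agent.Grpsch.PicGrp Groth.Agent.Fga.PicMon K455.PicLoc

variable {X : Scheme.{u}}

theorem exists_divisor_fun [IsIntegral X] [IsNoetherian X] (D : X.IdealSheafData)
    (hD : BlowUp.IsEffCartierIdeal D) {U : X.Opens}
    (hU : (U : Set X) = (D.support : Set X)ᶜ) (hne : (U : Set X).Nonempty) (f : Γ(X, U)) (hf : f ≠ 0)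
    {x : X} (hxU : x ∈ U) (hx : x ∉ X.basicOpen f) :
    ∃ (m : ℕ) (D' : X.IdealSheafData), BlowUp.IsEffCartierIdeal D' ∧ x ∈ D'.support ∧
      mc (ClSub.idealMod D') = mc (ClSub.idealMod D) ^ m := by
  let L := dual (ClSub.idealMod D)
  have hI : PicF.IsInvertible (ClSub.idealMod D) := isInvertible_idealMod hD
  have hL : PicF.IsInvertible L := isInvertible_dual hI
  have hLI : mc (ClSub.idealMod D) * mc L = 1 := by
    rw [← mc_tensor, ← mc_one, mc_eq_iff]
    exact ⟨@asIso _ _ _ _ (ev (ClSub.idealMod D)) (isIso_ev hI)⟩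
  obtain rfl : U = CohB1.genLocus L (canSec D) := by
    apply TopologicalSpace.Opens.ext
    rw [hU, genLocus_canSec D hD]
  have hN : PicF.IsInvertible (Coh.structureModule X) := isInvertible_structureModule
  obtain ⟨n, hn⟩ := Ega2.AmpleGlobGen.exists_extend_top (Ega2.QCohLocal.isQCoh_of_isInvertible hN) hL (canSec D)
    (f • (one (CohB1.genLocus L (canSec D)) : Γ(Coh.structureModule X, CohB1.genLocus L (canSec D))))
  obtain ⟨t, ht⟩ := hn n le_rfl
  set g := tmul (one (X := X) (CohB1.genLocus L (canSec D)))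
    (pow (sec (canSec D) (CohB1.genLocus L (canSec D))) n) with hg
  have hgen : IsGen g := (isGen_one _).tmul ((isGen_sec_genLocus (canSec D)).pow n)
  have ht' : res _ le_top t = f • g := by
    rw [ht, smul_tmul]
  have hM : PicF.IsInvertible (CohB1.tensorMod (Coh.structureModule X) (CohB1.tensorPow L n)) :=
    Fdesc.LocGen.isInvertible_tensorMod hN (Fdesc.LocGen.isInvertible_tensorPow hL n)
  obtain ⟨D', hD', hinv, hDt⟩ := Models.H38.SecDiv.exists_divisor hM t (by
    intro V e a he hae
    by_cases hV : (V.1 : Set X).Nonempty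
    · have hnz : a ≠ 0 := by
        rintro rfl
        rw [zero_smul] at hae
        obtain ⟨z, hz1, hz2⟩ := nonempty_preirreducible_inter (X := X) V.1.2
          (CohB1.genLocus L (canSec D)).2 hV hne
        have h1 := congrArg (res _ (inf_le_left : V.1 ⊓ CohB1.genLocus L (canSec D) ≤ V.1)) hae
        rw [map_zero, res_res] at h1
        have h2 := congrArg (res _ (inf_le_right : V.1 ⊓ CohB1.genLocus L (canSec D) ≤ _)) ht'
        rw [res_res, h1, res_smul] at h2
        have h3 := hgen.res (inf_le_right : V.1 ⊓ CohB1.genLocus L (canSec D) ≤ _)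
        have h4 : ores (inf_le_right : V.1 ⊓ CohB1.genLocus L (canSec D) ≤ _) f = 0 :=
          h3.ext (by rw [← h2, zero_smul])
        apply hf
        apply K456.SecTriv.ores_injective (inf_le_right : V.1 ⊓ CohB1.genLocus L (canSec D) ≤ _) (x := z) ⟨hz1, hz2⟩
        rw [h4, map_zero]
      have : Nonempty V.1 := hV.to_subtype
      exact mem_nonZeroDivisors_of_ne_zero hnz
    · have h0 : V.1 = ⊥ := by
        ext x
        simp only [TopologicalSpace.Opens.coe_bot, Set.mem_empty_iff_false, iff_false]
        exact fun hx => hV ⟨x, hx⟩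
      have : Subsingleton Γ(X, V.1) := by
        rw [h0]
        exact inferInstance
      rw [mem_nonZeroDivisors_iff_right]
      exact fun b _ => Subsingleton.elim _ _)
  refine ⟨n, D', hD', ?_, ?_⟩
  · obtain ⟨V, hxV, hV⟩ := exists_affine_mem_le (CohB1.genLocus L (canSec D)) x hxU
    have h1 : res _ (le_top : V.1 ≤ ⊤) t = ores hV f • res _ hV g := by
      rw [← res_smul, ← ht', res_res]
    have h2 := hDt V _ _ (hgen.res hV) h1
    rw [Scheme.IdealSheafData.mem_support_iff_of_mem (U := V) hxV, h2,
      Scheme.zeroLocus_span, Scheme.zeroLocus_singleton, Set.mem_compl_iff]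
    intro h3
    apply hx
    have h4 : X.basicOpen (ores hV f) = V.1 ⊓ X.basicOpen f := Scheme.basicOpen_res X f (homOfLE hV).op
    have h5 : x ∈ V.1 ⊓ X.basicOpen f := h4 ▸ h3
    exact h5.2
  · have h1 : mc (CohB1.tensorMod (Coh.structureModule X) (CohB1.tensorPow L n)) * mc (ClSub.idealMod D') = 1 := by
      rw [← mc_tensor, ← mc_one, mc_eq_iff]
      exact hinv
    rw [mc_tensor, mc_tensorPow, mc_one, one_mul] at h1
    calc mc (ClSub.idealMod D') = (mc (ClSub.idealMod D) * mc L) ^ n * mc (ClSub.idealMod D') := by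
          rw [hLI, one_pow, one_mul]
      _ = mc (ClSub.idealMod D) ^ n * (mc L ^ n * mc (ClSub.idealMod D')) := by
        rw [mul_pow, mul_assoc]
      _ = mc (ClSub.idealMod D) ^ n := by rw [h1, mul_one]

theorem eq_top_of_trivial [IsIntegral X] (hF : IsField Γ(X, ⊤)) {F : X.IdealSheafData}
    (h : Nonempty (ClSub.idealMod F ≅ Coh.structureModule X)) : F = ⊤ := by
  obtain ⟨e⟩ := h
  have hs : IsGen (e.inv.app ⊤ (one ⊤)) := IsGen.app e.inv (isGen_one ⊤)
  have hg := genOn_of_isGen hs
  set a := val F (e.inv.app ⊤ (one ⊤)) with ha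
  have hne : a ≠ 0 := by
    intro h0
    obtain ⟨x⟩ : Nonempty X := inferInstance
    obtain ⟨V, hxV, -⟩ := exists_affine_mem_le (⊤ : X.Opens) x (Opens.mem_top _)
    have : Nonempty V.1 := ⟨⟨x, hxV⟩⟩
    have h1 := (hg V le_top).1
    rw [h0, map_zero] at h1
    exact zero_notMem_nonZeroDivisors h1
  have hu : IsUnit a := by
    obtain ⟨b, hb⟩ := hF.mul_inv_cancel hne
    exact IsUnit.of_mul_eq_one _ hb
  ext V
  rw [(hg V le_top).2, Ideal.span_singleton_eq_top.2 (hu.map (ores (le_top : V.1 ≤ ⊤)))]
  rfl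

end K455.FunDiv
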