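import Groth.Agent.Surf.K464.NegDef

/-!
# Positive vectors for connected configurations

`exists_pos_vector`: `G` a symmetric integral matrix with nonnegative off-diagonal entries, connected; if a
nonnegative vector `z` has `Z.C_j ≥ 0` for all `j` and `> 0` for some `j`, then there is a positive vector `d` with
`D.C_j > 0` for all `j`.
-/

set_option autoImplicit false

namespace K455.PosVec

open K464.NegDef

variable {ι : Type*} [Fintype ι] [DecidableEq ι]

omit [DecidableEq ι] in
theorem row_add (G : ι → ι → ℤ) (N : ℕ) (z w : ι → ℕ) (j : ι) :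
    ∑ i, ((N * z i + w i : ℕ) : ℤ) * G i j = N * ∑ i, (z i : ℤ) * G i j + ∑ i, (w i : ℤ) * G i j := by
  rw [Finset.mul_sum, ← Finset.sum_add_distrib]
  refine Finset.sum_congr rfl fun i _ => ?_
  push_cast
  ring

/-- One step: enlarge the set of curves of positive degree. -/
theorem exists_step {G : ι → ι → ℤ} (hoff : ∀ i j, i ≠ j → 0 ≤ G i j) (z : ι → ℕ)
    (hz : ∀ j, 0 ≤ ∑ i, (z i : ℤ) * G i j) (a b : ι) (ha : 0 < ∑ i, (z i : ℤ) * G i a)
    (hb : ∑ i, (z i : ℤ) * G i b = 0) (hab : G a b ≠ 0) :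
    ∃ z' : ι → ℕ, (∀ j, 0 ≤ ∑ i, (z' i : ℤ) * G i j) ∧ (∀ j, 0 < ∑ i, (z i : ℤ) * G i j → 0 < ∑ i, (z' i : ℤ) * G i j) ∧
      0 < ∑ i, (z' i : ℤ) * G i b := by
  have hne : a ≠ b := by rintro rfl; omega
  have hpos : 0 < G a b := lt_of_le_of_ne (hoff a b hne) hab.symm
  set N : ℕ := (G a a).natAbs + 1 with hN
  have hw : ∀ j, ∑ i, ((Pi.single a 1 : ι → ℕ) i : ℤ) * G i j = G a j := by
    intro j
    rw [Finset.sum_eq_single a]
    · simp
    · intro i _ hi
      simp [hi]
    · intro h; exact absurd (Finset.mem_univ a) h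
  refine ⟨fun i => N * z i + (Pi.single a 1 : ι → ℕ) i, ?_, ?_, ?_⟩
  · intro j
    rw [row_add, hw]
    by_cases hj : a = j
    · subst hj
      have h1 := neg_abs_le (G a a)
      have h2 : (N : ℤ) ≤ N * ∑ i, (z i : ℤ) * G i a := by
        have : (0 : ℤ) ≤ N := by positivity
        nlinarith
      rw [hN] at h2 ⊢
      push_cast at h2 ⊢
      linarith
    · have h1 := hoff a j hj
      have h2 := mul_nonneg (by positivity : (0 : ℤ) ≤ N) (hz j)
      linarith
  · intro j hj
    rw [row_add, hw]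
    by_cases hj' : a = j
    · subst hj'
      have h1 := neg_abs_le (G a a)
      have h2 : (N : ℤ) ≤ N * ∑ i, (z i : ℤ) * G i a := by
        have : (0 : ℤ) ≤ N := by positivity
        nlinarith
      rw [hN] at h2 ⊢
      push_cast at h2 ⊢
      linarith
    · have h1 := hoff a j hj'
      have h3 : (0 : ℤ) < N := by positivity
      have h2 := mul_pos h3 hj
      linarith
  · rw [row_add, hw, hb, mul_zero, zero_add]
    exact hpos

theorem exists_pos_vector {G : ι → ι → ℤ} (hoff : ∀ i j, i ≠ j → 0 ≤ G i j) (hconn : IsConn G) (z : ι → ℕ)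
    (hz : ∀ j, 0 ≤ ∑ i, (z i : ℤ) * G i j) (hpos : ∃ j, 0 < ∑ i, (z i : ℤ) * G i j) :
    ∃ d : ι → ℕ, (∀ i, 0 < d i) ∧ ∀ j, 0 < ∑ i, (d i : ℤ) * G i j := by
  -- the set of curves of positive degree
  have key : ∀ n : ℕ, ∀ z : ι → ℕ, (∀ j, 0 ≤ ∑ i, (z i : ℤ) * G i j) → (∃ j, 0 < ∑ i, (z i : ℤ) * G i j) →
      (Finset.univ.filter fun j => ¬ 0 < ∑ i, (z i : ℤ) * G i j).card ≤ n →
      ∃ d : ι → ℕ, ∀ j, 0 < ∑ i, (d i : ℤ) * G i j := by
    intro n
    induction n with
    | zero =>
      intro z _ _ h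
      refine ⟨z, fun j => ?_⟩
      by_contra hj
      rw [Nat.le_zero, Finset.card_eq_zero] at h
      have : j ∈ Finset.univ.filter fun j => ¬ 0 < ∑ i, (z i : ℤ) * G i j := by
        rw [Finset.mem_filter]
        exact ⟨Finset.mem_univ j, hj⟩
      rw [h] at this
      exact absurd this (Finset.notMem_empty j)
    | succ n ih =>
      intro z hz hpos h
      by_cases hall : ∀ j, 0 < ∑ i, (z i : ℤ) * G i j
      · exact ⟨z, hall⟩
      · push Not at hall
        set S : Finset ι := Finset.univ.filter fun j => 0 < ∑ i, (z i : ℤ) * G i j with hS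
        have hSn : S.Nonempty := by
          obtain ⟨j, hj⟩ := hpos
          exact ⟨j, by simp [hS, hj]⟩
        have hSc : Sᶜ.Nonempty := by
          obtain ⟨j, hj⟩ := hall
          exact ⟨j, by simp [hS]; omega⟩
        obtain ⟨a, ha, b, hb, hab⟩ := hconn S hSn hSc
        have ha' : 0 < ∑ i, (z i : ℤ) * G i a := by simpa [hS] using ha
        have hb' : ∑ i, (z i : ℤ) * G i b = 0 := by
          have h1 : ¬ 0 < ∑ i, (z i : ℤ) * G i b := by simpa [hS] using hb
          exact le_antisymm (not_lt.1 h1) (hz b)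
        obtain ⟨z', h1, h2, h3⟩ := exists_step hoff z hz a b ha' hb' hab
        refine ih z' h1 ⟨b, h3⟩ ?_
        have h4 : (Finset.univ.filter fun j => ¬ 0 < ∑ i, (z' i : ℤ) * G i j) ⊂
            (Finset.univ.filter fun j => ¬ 0 < ∑ i, (z i : ℤ) * G i j) := by
          rw [Finset.ssubset_iff_of_subset]
          · refine ⟨b, ?_, ?_⟩
            · simp [hb']
            · simp [h3]
          · intro j hj
            simp only [Finset.mem_filter, Finset.mem_univ, true_and] at hj ⊢
            exact fun h5 => hj (h2 j h5)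
        have h5 := Finset.card_lt_card h4
        omega
  obtain ⟨d, hd⟩ := key _ z hz hpos le_rfl
  -- make all coefficients positive
  set B : ℕ := ∑ j, (∑ i, G i j).natAbs + 1 with hB
  have hBj : ∀ j, -((B : ℤ)) < ∑ i, G i j := by
    intro j
    have h1 : (∑ i, G i j).natAbs ≤ ∑ j, (∑ i, G i j).natAbs :=
      Finset.single_le_sum (f := fun j => (∑ i, G i j).natAbs) (fun _ _ => Nat.zero_le _) (Finset.mem_univ j)
    have h2 := neg_abs_le (∑ i, G i j)
    have h3 : ((∑ i, G i j).natAbs : ℤ) ≤ ((∑ j, (∑ i, G i j).natAbs : ℕ) : ℤ) := by exact_mod_cast h1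
    rw [hB]
    push_cast at h3 ⊢
    linarith
  refine ⟨fun i => B * d i + 1, fun i => Nat.succ_pos _, fun j => ?_⟩
  have h1 := row_add G B d (fun _ => 1) j
  simp only [Nat.cast_one, one_mul] at h1
  rw [h1]
  have h2 := hd j
  have h3 := hBj j
  have h4 : (B : ℤ) ≤ B * ∑ i, (d i : ℤ) * G i j := by
    have : (0 : ℤ) ≤ B := by positivity
    nlinarith
  linarith

end K455.PosVec
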