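import Groth.Agent.Surf.K464.Comp
import Groth.Agent.Surf.K455.PosVec
import Groth.Agent.Surf.K455.FunDiv
import Groth.Agent.Variety.K432.DivGG
import Groth.Agent.Variety.K432.AmpCurve
import Groth.Agent.S7642
import Groth.Agent.S1572
import Groth.Agent.S1618
import Groth.Agent.Surf.K455.RelDim

/-!
# The complement of an affine open of a regular proper surface is the support of an ample divisor
-/

set_option autoImplicit false
universe u
open CategoryTheory CategoryTheory.Limits AlgebraicGeometry Opposite TopologicalSpace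

namespace K455.CompAmple

open Groth.Agent Groth.Agent.Fdesc.LocGen Groth.Agent.Grpsch.PicGrp Groth.Agent.Fga.PicMon
  Groth.Agent.Dix.IdealModCartier K464.Base K464.Curves K464.DivLat K464.Comp

variable (k : Type u) [Field k] {X : Scheme.{u}} [X.Over (Spec (CommRingCat.of k))]
  [IsProper (X ↘ Spec (CommRingCat.of k))]

include k in
/-- A curve is not contained in an affine open. -/
theorem not_subset_affine {C : X.IdealSheafData} (hC : IsCurve C) {U : X.Opens} (hU : IsAffineOpen U) :
    ¬ (C.support : Set X) ⊆ U := by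
  intro h
  have := hC.integral
  letI := overC k X C
  have := isProper_sub k X C
  refine S1530.not_isAffine k C.subscheme ((dim_sub X C).trans hC.dim) ?_
  have hr : Set.range C.subschemeι ⊆ Set.range U.ι := by
    rw [Scheme.IdealSheafData.range_subschemeι, Scheme.Opens.range_ι]
    exact h
  let l : C.subscheme ⟶ U := IsOpenImmersion.lift U.ι C.subschemeι hr
  have hl : l ≫ U.ι = C.subschemeι := IsOpenImmersion.lift_fac _ _ _
  have : IsClosedImmersion (l ≫ U.ι) := hl ▸ inferInstance
  have : IsClosedImmersion l := IsClosedImmersion.of_comp l U.ι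
  have : IsAffine U := hU
  exact isAffine_of_isAffineHom l

include k in
/-- A nonzero function on an affine open which is not invertible. -/
theorem exists_fun [IsIntegral X] (hdim : topologicalKrullDim X = 2) {U : X.Opens} (hU : IsAffineOpen U)
    (hne : (U : Set X).Nonempty) : ∃ (f : Γ(X, U)) (x : X), f ≠ 0 ∧ x ∈ U ∧ x ∉ X.basicOpen f := by
  have h1 := S1618.result k X U hne
  have : Nonempty U := hne.to_subtype
  have hnf : ¬ IsField Γ(X, U) := by
    intro hF
    letI := hF.toField
    have h2 : Subsingleton (Spec Γ(X, U)) := inferInstanceAs (Subsingleton (PrimeSpectrum Γ(X, U)))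
    have h3 : Subsingleton U.toScheme := hU.isoSpec.hom.homeomorph.injective.subsingleton
    have h4 : topologicalKrullDim U.toScheme ≤ 0 :=
      @topologicalKrullDim_zero_of_discreteTopology _ _ inferInstance
    have h5 : topologicalKrullDim U.toScheme = 2 := h1.trans hdim
    rw [h5] at h4
    exact absurd h4 (by norm_num)
  obtain ⟨f, hf0, hfu⟩ := Ring.exists_not_isUnit_of_not_isField hnf
  refine ⟨f, ?_⟩
  by_contra hcon
  push Not at hcon
  apply hfu
  refine X.toRingedSpace.isUnit_of_isUnit_germ U f fun x hx => ?_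
  exact (X.mem_basicOpen f x hx).1 (hcon x hf0 hx)

section ample

variable {r : ℕ} {C : Fin r → X.IdealSheafData} (hC : ∀ i, IsCurve (C i)) (hE : ∀ i, BlowUp.IsEffCartierIdeal (C i))
  (hinj : Function.Injective C)

include hC hinj in
omit [X.Over (Spec (CommRingCat.of k))] [IsProper (X ↘ Spec (CommRingCat.of k))] in
theorem support_cyc {d : Fin r → ℕ} (hd : ∀ i, 0 < d i) :
    ((cyc C d).support : Set X) = ⋃ i, ((C i).support : Set X) := by
  refine le_antisymm (support_cyc_subset d) (Set.iUnion_subset fun i => ?_)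
  rw [support_subset_iff (hC i)]
  exact (gp_mem_support_cyc_iff hC hinj d i).2 (hd i).ne'

include hC hinj in
/-- If `d > 0` and `D = ∑ d_i C_i` has positive degree on all `C_i`, and every curve meets `D`, then `O(D)` is
ample. -/
theorem isAmple_cyc (hdim : topologicalKrullDim X ≤ (2 : ℕ)) {d : Fin r → ℕ} (hd : ∀ i, 0 < d i)
    (hpos : ∀ j, 0 < ∑ i, (d i : ℤ) * gram k hE i j)
    (hmeet : ∀ C' : X.IdealSheafData, IsCurve C' → ¬ Disjoint (C'.support : Set X) (cyc C d).support)
    {L : X.Modules} (hL : PicF.IsInvertible L) (hinv : ClSub.IsInverseOf L (ClSub.idealMod (cyc C d))) :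
    CohB1.IsAmple L := by
  have hDe := isEff_cyc hE d
  have hmk := mk_eq_ic_inv hinv hL hDe
  have hdeg : ∀ j, 0 < degOn k X (C j) (mk L hL) := by
    intro j
    rw [hmk, degOn_inv k (hC j), degOn_cyc k hE hdim, neg_neg]
    exact hpos j
  have hle : ∀ i, cyc C d ≤ C i := by
    intro i
    rw [le_iff_gp_mem (hC i)]
    exact (gp_mem_support_cyc_iff hC hinj d i).2 (hd i).ne'
  -- `L` is ample on `D`
  let D := cyc C d
  letI : D.subscheme.Over (Spec (CommRingCat.of k)) := ⟨D.subschemeι ≫ (X ↘ Spec (CommRingCat.of k))⟩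
  have hpD : IsProper (D.subscheme ↘ Spec (CommRingCat.of k)) :=
    inferInstanceAs (IsProper (D.subschemeι ≫ (X ↘ Spec (CommRingCat.of k))))
  have hampD : CohB1.IsAmple ((Scheme.Modules.pullback D.subschemeι).obj L) := by
    let g : ∀ i, (C i).subscheme ⟶ D.subscheme := fun i => Scheme.IdealSheafData.inclusion (hle i)
    have hg : ∀ i, g i ≫ D.subschemeι = (C i).subschemeι := fun i =>
      Scheme.IdealSheafData.inclusion_subschemeι (hle i)
    have hgc : ∀ i, IsClosedImmersion (g i) := fun i => by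
      have : IsClosedImmersion (g i ≫ D.subschemeι) := (hg i) ▸ inferInstance
      exact IsClosedImmersion.of_comp (g i) D.subschemeι
    refine K49.AmpleClosedCover.isAmple_of_closed_cover (ι := ULift.{u} (Fin r)) k D.subscheme _
      (isInvertible_pullback D.subschemeι hL) (fun i => (g i.down).ker) (fun x => ?_) (fun i => ?_)
    · have h1 : D.subschemeι x ∈ (D.support : Set X) := by
        rw [← Scheme.IdealSheafData.range_subschemeι]
        exact ⟨x, rfl⟩
      rw [support_cyc hC hinj hd] at h1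
      obtain ⟨i, hi⟩ := Set.mem_iUnion.1 h1
      rw [← Scheme.IdealSheafData.range_subschemeι] at hi
      obtain ⟨y, hy⟩ := hi
      refine ⟨⟨i⟩, ?_⟩
      have h2 : g i y = x := by
        apply D.subschemeι.isClosedEmbedding.injective
        rw [← Scheme.Hom.comp_apply, hg, hy]
      have h3 : ((g i).ker.support : Set D.subscheme) = closure (Set.range (g i)) := Scheme.Hom.support_ker _
      change x ∈ ((g i).ker.support : Set D.subscheme)
      rw [h3]
      exact subset_closure ⟨y, h2⟩
    · letI := overC k X (C i.down)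
      have := isProper_sub k X (C i.down)
      have := (hC i.down).integral
      have hdi : topologicalKrullDim (C i.down).subscheme = 1 := (dim_sub X _).trans (hC i.down).dim
      have h1 : CohB1.IsAmple ((Scheme.Modules.pullback (C i.down).subschemeι).obj L) := by
        rw [S1530.result k (C i.down).subscheme hdi _ (isInvertible_pullback _ hL), ← degOn_eq_deg k X _ hL]
        exact hdeg i.down
      -- transport to the kernel of `g i`
      have hi := hgc i.down
      let e : (C i.down).subscheme ≅ (g i.down).ker.subscheme := asIso (g i.down).toImage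
      have he : e.inv ≫ (C i.down).subschemeι = (g i.down).ker.subschemeι ≫ D.subschemeι := by
        rw [Iso.inv_comp_eq, ← hg]
        have h2 : e.hom ≫ (g i.down).ker.subschemeι = g i.down := Scheme.Hom.toImage_imageι _
        rw [← Category.assoc, h2]
      rw [CohqB.AmpCocycle.isAmple_pullback_comp_iff _ _ _ rfl, ← he,
        ← CohqB.AmpCocycle.isAmple_pullback_comp_iff _ _ _ rfl]
      exact CohqB.AmpCocycle.isAmple_pullback e.inv h1
  have hker : D.subschemeι.ker = D := Scheme.IdealSheafData.ker_subschemeι D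
  obtain ⟨m₀, hm₀⟩ := K432.DivGG.eventually_gg_of_isAmple k D.subschemeι (by rw [hker]; exact hDe) L
    (by rw [hker]; exact hinv) hampD
  refine K432.AmpCurve.isAmple_of_semiample (X ↘ Spec (CommRingCat.of k)) hL (Nat.succ_pos m₀)
    (hm₀ (m₀ + 1) (Nat.le_succ _)) fun C' hC'i hC'd => ?_
  have hC' : IsCurve C' := ⟨hC'i, hC'd⟩
  rw [← K432.CurveDeg.euler_quotMod_sub C' L hL]
  change 0 < degOn k X C' (mk L hL)
  by_cases hmem : gp hC' ∈ (cyc C d).support
  · have h1 : gp hC' ∈ ((cyc C d).support : Set X) := hmem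
    rw [support_cyc hC hinj hd] at h1
    obtain ⟨i, hi⟩ := Set.mem_iUnion.1 h1
    rw [eq_of_gp_mem hC' (hC i) hi]
    exact hdeg i
  · rw [hmk, degOn_inv k hC']
    have := degOn_ic_neg k hC' hDe hmem (hmeet C' hC')
    linarith

end ample

/-- Sums with nonnegative off-diagonal entries and no diagonal contribution. -/
theorem sum_nonneg_of {r : ℕ} {G : Fin r → Fin r → ℤ} (hoff : ∀ i j, i ≠ j → 0 ≤ G i j) (p : Fin r → ℕ) (j : Fin r)
    (hj : p j = 0) : 0 ≤ ∑ i, (p i : ℤ) * G i j := by
  refine Finset.sum_nonneg fun i _ => ?_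
  by_cases hij : i = j
  · rw [hij, hj]; simp
  · exact mul_nonneg (by positivity) (hoff i j hij)

theorem sum_pos_of {r : ℕ} {G : Fin r → Fin r → ℤ} (hoff : ∀ i j, i ≠ j → 0 ≤ G i j) (p : Fin r → ℕ) (i j : Fin r)
    (hj : p j = 0) (hi : p i ≠ 0) (hij : G i j ≠ 0) : 0 < ∑ i, (p i : ℤ) * G i j := by
  have hne : i ≠ j := fun h => hi (h ▸ hj)
  refine Finset.sum_pos' (fun l _ => ?_) ⟨i, Finset.mem_univ i, ?_⟩
  · by_cases hlj : l = j
    · rw [hlj, hj]; simp
    · exact mul_nonneg (by positivity) (hoff l j hlj)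
  · exact mul_pos (by positivity) (lt_of_le_of_ne (hoff i j hne) hij.symm)

theorem isConn_gram {r : ℕ} {C : Fin r → X.IdealSheafData} (hC : ∀ i, IsCurve (C i))
    (hE : ∀ i, BlowUp.IsEffCartierIdeal (C i)) (hinj : Function.Injective C)
    (hconn : _root_.IsPreconnected (⋃ i, ((C i).support : Set X))) : K464.NegDef.IsConn (gram k hE) := by
  intro S hS hSc
  obtain ⟨a, ha⟩ := hS
  obtain ⟨b, hb⟩ := hSc
  have h1 := isPreconnected_closed_iff.1 hconn (⋃ i ∈ S, ((C i).support : Set X)) (⋃ i ∈ Sᶜ, ((C i).support : Set X))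
    (S.finite_toSet.isClosed_biUnion fun i _ => (C i).support.isClosed)
    (Sᶜ.finite_toSet.isClosed_biUnion fun i _ => (C i).support.isClosed) (by
      intro x hx
      obtain ⟨i, hi⟩ := Set.mem_iUnion.1 hx
      by_cases hiS : i ∈ S
      · exact Or.inl (Set.mem_biUnion (Finset.mem_coe.2 hiS) hi)
      · exact Or.inr (Set.mem_biUnion (Finset.mem_coe.2 (Finset.mem_compl.2 hiS)) hi))
    ⟨gp (hC a), Set.mem_iUnion.2 ⟨a, gp_mem (hC a)⟩, Set.mem_biUnion (Finset.mem_coe.2 ha) (gp_mem (hC a))⟩
    ⟨gp (hC b), Set.mem_iUnion.2 ⟨b, gp_mem (hC b)⟩, Set.mem_biUnion (Finset.mem_coe.2 hb) (gp_mem (hC b))⟩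
  obtain ⟨x, -, hx1, hx2⟩ := h1
  simp only [Set.mem_iUnion] at hx1 hx2
  obtain ⟨i, hi, hxi⟩ := hx1
  obtain ⟨j, hj, hxj⟩ := hx2
  refine ⟨i, hi, j, hj, fun h0 => ?_⟩
  have hij : i ≠ j := fun h => (Finset.mem_compl.1 hj) (h ▸ hi)
  exact Set.disjoint_left.1 ((gram_eq_zero_iff k hE hC hinj i j hij).1 h0) hxi hxj

include k in
theorem main [IsIntegral X] (hdim : topologicalKrullDim X = 2)
    (hreg : ∀ x : X, IsRegularLocalRing (X.presheaf.stalk x)) (U : X.Opens) (hU : IsAffineOpen U)
    (hne : (U : Set X).Nonempty) (hconn : _root_.IsPreconnected ((U : Set X)ᶜ)) :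
    ∃ I : X.IdealSheafData, BlowUp.IsEffCartierIdeal I ∧ (I.support : Set X) = (U : Set X)ᶜ ∧
      ∀ L : X.Modules, PicF.IsInvertible L → ClSub.IsInverseOf L (ClSub.idealMod I) → CohB1.IsAmple L := by
  have hN : IsNoetherian X := Fga.IntAdd.isNoetherian k X
  have hsX : X.IsSeparated := by
    rw [Scheme.isSeparated_iff, ← terminal.comp_from (X ↘ (Spec (CommRingCat.of k))), IsSeparated.comp_iff]
    infer_instance
  have hdom : ∀ x : X, IsDomain (X.presheaf.stalk x) := fun x => inferInstance
  obtain ⟨D₀, hD₀, hD₀s⟩ := S1572.result X U hU (U.2.dense hne) fun x _ => by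
    have := hreg x
    exact ⟨hdom x, Dix.RegTwoDim.ufd (ringKrullDim_stalk_le hdim.le x)⟩
  obtain ⟨r, C, n₀, hC, hinj, hn₀, rfl⟩ := exists_eq_cyc k (X ↘ Spec (CommRingCat.of k)) hdim hreg D₀ hD₀
  have hE : ∀ i, BlowUp.IsEffCartierIdeal (C i) := fun i =>
    isEff_of_isCurve k (X ↘ Spec (CommRingCat.of k)) hdim hreg (hC i)
  have hZ : (⋃ i, ((C i).support : Set X)) = (U : Set X)ᶜ := by
    rw [← support_cyc hC hinj hn₀, hD₀s]
  have hoff := gram_nonneg k hE hC hinj
  have hconnG := isConn_gram k hC hE hinj (by rw [hZ]; exact hconn)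
  obtain ⟨f, x, hf0, hxU, hxf⟩ := exists_fun k hdim hU hne
  obtain ⟨m, T', hT', hxT', hmc⟩ := FunDiv.exists_divisor_fun (cyc C n₀) hD₀ (U := U) (by rw [hD₀s, compl_compl]) hne f
    hf0 hxU hxf
  obtain ⟨a, T, hT, rfl, hTgp⟩ := exists_split hC hE hT'
  have hxC : ∀ n : Fin r → ℕ, x ∉ (cyc C n).support := by
    intro n hx
    have h1 := support_cyc_subset n hx
    rw [hZ] at h1
    exact h1 hxU
  have hxT : x ∈ T.support := by
    rcases (show x ∈ (cyc C a).support ∨ x ∈ T.support from hxT') with h | h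
    · exact (hxC a h).elim
    · exact h
  -- the relation in the Picard group
  have hTc : ic (cyc C a * T) hT' = ic (cyc C a) (isEff_cyc hE a) * ic T hT := ic_mul (isEff_cyc hE a) hT
  have hpic : ic (cyc C a) (isEff_cyc hE a) * ic T hT = ic (cyc C n₀) hD₀ ^ m := by
    rw [← hTc]
    unfold ic
    rw [← mk_tensorPow, mk_eq_iff, ← mc_eq_iff, mc_tensorPow]
    exact hmc
  have hdeg : ∀ j, - ∑ i, (a i : ℤ) * gram k hE i j + degOn k X (C j) (ic T hT) =
      m * - ∑ i, (n₀ i : ℤ) * gram k hE i j := by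
    intro j
    have h1 := congrArg (degOn k X (C j)) hpic
    rw [degOn_mul k (hC j), degOn_pow k (hC j), degOn_cyc k hE hdim.le,
      ic_congr hD₀ (isEff_cyc hE n₀) rfl, degOn_cyc k hE hdim.le] at h1
    exact h1
  have hτ : ∀ j, degOn k X (C j) (ic T hT) ≤ 0 := fun j => degOn_ic_nonpos k (hC j) hT (hTgp j)
  let p : Fin r → ℕ := fun i => m * n₀ i - a i
  let q : Fin r → ℕ := fun i => a i - m * n₀ i
  have hpq : ∀ i, (p i : ℤ) - q i = m * n₀ i - a i := by
    intro i
    simp only [p, q]
    have : ((m * n₀ i : ℕ) : ℤ) = m * n₀ i := by push_cast; rfl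
    omega
  have hpq0 : ∀ i, p i = 0 ∨ q i = 0 := by
    intro i
    simp only [p, q]
    omega
  have hsum : ∀ j, ∑ i, (p i : ℤ) * gram k hE i j =
      ∑ i, (q i : ℤ) * gram k hE i j - degOn k X (C j) (ic T hT) := by
    intro j
    have h1 : ∑ i, (p i : ℤ) * gram k hE i j - ∑ i, (q i : ℤ) * gram k hE i j =
        m * ∑ i, (n₀ i : ℤ) * gram k hE i j - ∑ i, (a i : ℤ) * gram k hE i j := by
      rw [Finset.mul_sum, ← Finset.sum_sub_distrib, ← Finset.sum_sub_distrib]
      refine Finset.sum_congr rfl fun i _ => ?_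
      rw [← sub_mul, hpq i]
      ring
    have h2 := hdeg j
    linarith
  have hnonneg : ∀ j, 0 ≤ ∑ i, (p i : ℤ) * gram k hE i j := by
    intro j
    rcases hpq0 j with h | h
    · exact sum_nonneg_of hoff p j h
    · rw [hsum j]
      have := sum_nonneg_of hoff q j h
      linarith [hτ j]
  have hmeet : ∀ C' : X.IdealSheafData, IsCurve C' → ¬ Disjoint (C'.support : Set X) ((U : Set X)ᶜ) := by
    intro C' hC' hd
    exact not_subset_affine k hC' hU (Set.disjoint_compl_right_iff_subset.1 hd)
  by_cases hex : ∃ j, 0 < ∑ i, (p i : ℤ) * gram k hE i j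
  · obtain ⟨d, hd, hdpos⟩ := PosVec.exists_pos_vector hoff hconnG p hnonneg hex
    have hsupp : ((cyc C d).support : Set X) = (U : Set X)ᶜ := by rw [support_cyc hC hinj hd, hZ]
    refine ⟨cyc C d, isEff_cyc hE d, hsupp, fun L hL hinv => ?_⟩
    exact isAmple_cyc k hC hE hinj hdim.le hd hdpos (fun C' hC' => by rw [hsupp]; exact hmeet C' hC') hL hinv
  · exfalso
    push Not at hex
    have hzero : ∀ j, ∑ i, (p i : ℤ) * gram k hE i j = 0 := fun j => le_antisymm (hex j) (hnonneg j)
    by_cases hp0 : ∀ i, p i = 0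
    · -- `T + Q ~ 0`
      have ha : a = m • n₀ + q := by
        funext i
        have h1 := hp0 i
        simp only [p, q, Pi.add_apply, Pi.smul_apply, smul_eq_mul] at h1 ⊢
        omega
      have h1 : ic (cyc C a) (isEff_cyc hE a) = ic (cyc C n₀) hD₀ ^ m * ic (cyc C q) (isEff_cyc hE q) := by
        rw [← ic_pow hD₀, ← ic_mul (Divis.EffCartier.isEff_pow hD₀ m) (isEff_cyc hE q)]
        refine ic_congr _ _ ?_
        rw [ha, cyc_add, cyc_nsmul]
      rw [h1, mul_assoc, mul_eq_left, ← ic_mul (isEff_cyc hE q) hT] at hpic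
      unfold ic at hpic
      rw [mk_eq_one_iff] at hpic
      have hF : IsField Γ(X, ⊤) := isField_of_universallyClosed (K := k) (f := X ↘ Spec (CommRingCat.of k))
      have h2 := FunDiv.eq_top_of_trivial hF hpic
      have h3 : x ∈ (cyc C q * T).support := Or.inr hxT
      rw [h2, Scheme.IdealSheafData.support_top] at h3
      exact h3
    · by_cases hall : ∀ i, p i ≠ 0
      · have hq : ∀ i, q i = 0 := fun i => (hpq0 i).resolve_left (hall i)
        have hτ0 : ∀ j, degOn k X (C j) (ic T hT) = 0 := by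
          intro j
          have h1 := hsum j
          rw [hzero j] at h1
          have h2 : ∑ i, (q i : ℤ) * gram k hE i j = 0 := Finset.sum_eq_zero fun i _ => by rw [hq i]; simp
          linarith
        have hdis : ∀ j, Disjoint ((C j).support : Set X) (T.support : Set X) := by
          intro j
          by_contra h
          have := degOn_ic_neg k (hC j) hT (hTgp j) h
          rw [hτ0 j] at this
          exact lt_irrefl _ this
        obtain ⟨C', hC', hTC', hxC'⟩ := exists_curve_le (X ↘ Spec (CommRingCat.of k)) hdim hT x hxT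
        refine hmeet C' hC' ?_
        rw [← hZ, Set.disjoint_iUnion_right]
        intro j
        refine Disjoint.symm (Disjoint.mono_right ?_ (hdis j))
        rw [support_subset_iff hC', ← le_iff_gp_mem hC']
        exact hTC'
      · push Not at hp0 hall
        obtain ⟨i₀, hi₀⟩ := hp0
        obtain ⟨j₀, hj₀⟩ := hall
        obtain ⟨i, hi, j, hj, hij⟩ := hconnG (Finset.univ.filter fun i => p i ≠ 0) ⟨i₀, by simp [hi₀]⟩
          ⟨j₀, by simp [hj₀]⟩
        have hi' : p i ≠ 0 := by simpa using hi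
        have hj' : p j = 0 := by simpa using hj
        have := sum_pos_of hoff p i j hj' hi' hij
        rw [hzero j] at this
        exact lt_irrefl _ this

end K455.CompAmple
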