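import Groth.Agent.Surf.K455.SelfNeg
import Groth.Agent.Surf.K464.RatConf
import Groth.Agent.Models.H55.ExcCrit

/-!
# Curves with `C² < 0` and `K·C < 0` are (-1)-curves
-/

set_option autoImplicit false
universe u
open CategoryTheory CategoryTheory.Limits AlgebraicGeometry TopologicalSpace

namespace K455.Srf

open Groth.Agent Groth.Agent.Dix Groth.Agent.Grpsch.PicGrp Groth.Agent.Dix.IdealModCartier
  K464.Base K464.Curves K464.Cohom K464.RatConf

variable (k : Type u) [Field k] [IsAlgClosed k] {S : Scheme.{u}} [S.Over (Spec (CommRingCat.of k))]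
  (h : Good (S ↘ Spec (CommRingCat.of k)))

include h in
/-- **Adjunction**: `C² + K·C = 2 h¹(O_C) - 2`. -/
theorem adj {K : S.Modules} (hK : ExtPow.IsExtPow 2 (Omega.sheaf (S ↘ Spec (CommRingCat.of k))) K)
    (hKi : PicF.IsInvertible K) {C : S.IdealSheafData} (hC : IsCurve C) (hE : BlowUp.IsEffCartierIdeal C) :
    dot k S (ic C hE) (ic C hE) + degOn k S C (mk K hKi) =
      2 * (Module.finrank k (Coh.HH S (ClSub.quotMod C) 1) : ℤ) - 2 := by
  have := h.proper
  have := h.relDim
  have hd : topologicalKrullDim S ≤ (2 : ℕ) := by rw [h.dim]; rfl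
  letI := overC k S C
  have := isProper_sub k S C
  have hker := ker_subschemeι C
  have hd' : topologicalKrullDim C.subscheme ≤ (2 : ℕ) := by
    rw [dim_sub, hC.dim]; norm_num
  have h1 := SmoothRR.adjunction k hK hd C.subschemeι rfl (by
    rw [hker]; exact isInvertible_idealMod hE)
  rw [hker, intNum_eq_dot k S hd (isInvertible_idealMod hE) (isInvertible_idealMod hE),
    intNum_idealMod_mk k S hd C hKi, Fga.IntAdd.eulerCharLE_eq k C.subscheme 2 hd', ← euler_quotMod_sub k S C,
    euler_curve k hC] at h1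
  change dot k S (ic C hE) (ic C hE) - -degOn k S C (mk K hKi) = _ at h1
  linarith

include h in
/-- `C² < 0` and `K·C < 0` imply `C² = -1` and `h¹(O_C) = 0`. -/
theorem eq_neg_one {K : S.Modules} (hK : ExtPow.IsExtPow 2 (Omega.sheaf (S ↘ Spec (CommRingCat.of k))) K)
    (hKi : PicF.IsInvertible K) {C : S.IdealSheafData} (hC : IsCurve C) (hE : BlowUp.IsEffCartierIdeal C)
    (h1 : dot k S (ic C hE) (ic C hE) < 0) (h2 : degOn k S C (mk K hKi) < 0) :
    dot k S (ic C hE) (ic C hE) = -1 ∧ degOn k S C (mk K hKi) = -1 ∧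
      Subsingleton (Coh.HH C.subscheme (Coh.structureModule C.subscheme) 1) := by
  have := h.proper
  have h3 := adj k h hK hKi hC hE
  have h4 : (Module.finrank k (Coh.HH S (ClSub.quotMod C) 1) : ℤ) = 0 := by
    have : (0 : ℤ) ≤ Module.finrank k (Coh.HH S (ClSub.quotMod C) 1) := by positivity
    omega
  rw [h4] at h3
  refine ⟨by omega, by omega, ?_⟩
  have : IsNoetherian S := h.noeth
  have hf := finite_HH k (X := S) (isCoh_quotMod S C) 1
  have h5 : Subsingleton (Coh.HH S (ClSub.quotMod C) 1) :=
    Module.finrank_zero_iff.1 (by exact_mod_cast h4)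
  exact (hhSub0 k C 1).symm.toEquiv.subsingleton

include h in
/-- Recognition of exceptional curves of the first kind. -/
theorem isExcCurve {C : S.IdealSheafData} (hC : IsCurve C) (hE : BlowUp.IsEffCartierIdeal C)
    (h1 : dot k S (ic C hE) (ic C hE) = -1)
    (h2 : Subsingleton (Coh.HH C.subscheme (Coh.structureModule C.subscheme) 1)) :
    Models.IsExcCurve C.subschemeι := by
  have := h.proper
  letI := overC k S C
  have := isProper_sub k S C
  have := hC.integral
  have hker := ker_subschemeι C
  have hd : topologicalKrullDim C.subscheme = 1 := (dim_sub S C).trans hC.dim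
  have hI := isInvertible_idealMod hE
  obtain ⟨e, -, ⟨φ⟩⟩ := Groth.Agent.Models.H55.ExcCrit.exists_iso_twist k C.subscheme hd
    (VarietyA.CurveFin.finrank_h0_structure k C.subscheme) Module.finrank_zero_of_subsingleton
    ((Scheme.Modules.pullback C.subschemeι).obj (ClSub.idealMod C)) (Fdesc.LocGen.isInvertible_pullback _ hI) (by
      rw [← degOn_eq_deg k S C hI]
      change degOn k S C (ic C hE) = 1
      rw [degOn_eq_neg_dot k S hE, h1]
      norm_num)
  refine ⟨by rw [hker]; exact hE, k, inferInstance, e, ?_⟩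
  rw [hker]
  exact ⟨(Scheme.Modules.pullbackComp e.hom C.subschemeι).symm.app _ ≪≫ φ⟩

end K455.Srf
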