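import Groth.Agent.Surf.K455.Down
import Groth.Agent.Surf.K455.Minus
import Groth.Agent.Resolve.K376.GraphClos
import Groth.Agent.Flat2C.DomLift2
import Groth.Agent.S7322
import Groth.Agent.ArSurf.K480.Rigid
import Groth.Agent.CalgA.SerreLocal
import Groth.Prelude.Def_Pi1

/-!
# Minimal resolutions of normal surfaces
-/

set_option autoImplicit false
universe u
open CategoryTheory CategoryTheory.Limits AlgebraicGeometry TopologicalSpace

namespace K455.MinRes

open Groth.Agent Groth.Agent.Dix Groth.Agent.Dix.ExcPts Groth.Agent.Dix.PointIdeal Groth.Agent.Grpsch.PicGrp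
  Groth.Agent.Dix.IdealModCartier K464.Base K464.Curves K455.Srf

section

variable (k : Type u) [Field k] {X : Scheme.{u}} [X.Over (Spec (CommRingCat.of k))]

/-- Resolutions. -/
def IsRes (U : X.Opens) {S : Scheme.{u}} (π : S ⟶ X) : Prop :=
  IsProper π ∧ IsIntegral S ∧ topologicalKrullDim S = 2 ∧ Smooth (π ≫ (X ↘ (Spec (CommRingCat.of k)))) ∧
    IsIso (ClSub.unitToPush π) ∧ IsIso (π ∣_ U)

end

section

variable {k : Type u} [Field k] {X : Scheme.{u}} [X.Over (Spec (CommRingCat.of k))]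
  [IsProper (X ↘ (Spec (CommRingCat.of k)))] [IsIntegral X]

omit [IsIntegral X] in
theorem IsRes.good {U : X.Opens} {S : Scheme.{u}} {π : S ⟶ X} (h : IsRes k U π) :
    Good (π ≫ (X ↘ (Spec (CommRingCat.of k)))) := by
  obtain ⟨h1, h2, h3, h4, -, -⟩ := h
  exact ⟨inferInstance, h4, h2, h3⟩

variable (k) in
include k in
/-- The regular locus is not empty. -/
theorem nonempty_reg (hnorm : Pi1.IsNormalScheme X)
    (U : X.Opens) (hU : ∀ x : X, x ∈ U ↔ IsRegularLocalRing (X.presheaf.stalk x)) : (U : Set X).Nonempty := by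
  have : IsLocallyNoetherian X := LocallyOfFiniteType.isLocallyNoetherian (X ↘ (Spec (CommRingCat.of k)))
  refine ⟨genericPoint X, (hU _).2 ?_⟩
  obtain ⟨h1, h2⟩ := hnorm (genericPoint X)
  refine CalgA.SerreLocal.isRegularLocalRing_of_isIntegrallyClosed ?_
  have h3 : IsField (X.presheaf.stalk (genericPoint X)) := Field.toIsField X.functionField
  rw [ringKrullDim_eq_zero_of_isField h3]
  norm_num

/-- **Two resolutions are dominated by a third surface.** -/
theorem exists_dom [PerfectField k] {U : X.Opens} (hU : (U : Set X).Nonempty) {S S' : Scheme.{u}} {π : S ⟶ X}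
    {π' : S' ⟶ X} (h : IsRes k U π) (h' : IsRes k U π') :
    ∃ (Y : Scheme.{u}) (f : Y ⟶ S') (g : Y ⟶ S), Models.IsContractionSeq f ∧ Models.IsContractionSeq g ∧
      g ≫ π = f ≫ π' := by
  have hg := h.good
  have hg' := h'.good
  obtain ⟨h1, h2, h3, h4, -, h5⟩ := id h
  obtain ⟨h1', h2', h3', h4', -, h5'⟩ := id h'
  have hN := hg'.noeth
  have hUg : genericPoint X ∈ U := by
    obtain ⟨y, hy⟩ := hU
    exact (genericPoint_specializes y).mem_open U.2 hy
  have hU'ne : ((π' ⁻¹ᵁ U : S'.Opens) : Set S').Nonempty :=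
    ⟨genericPoint S', by
      change π' (genericPoint S') ∈ U
      rw [BirIso.map_genericPoint π' U h5' hUg]; exact hUg⟩
  have hU'd : Dense ((π' ⁻¹ᵁ U : S'.Opens) : Set S') := (π' ⁻¹ᵁ U).2.dense hU'ne
  obtain ⟨Z, g₀, k₀, hZi, hg₀p, -, hk₀, hg₀i, -⟩ := K376.GraphClos.exists_graph π' π (π' ⁻¹ᵁ U) hU'd
    ((π' ∣_ U) ≫ inv (π ∣_ U) ≫ (π ⁻¹ᵁ U).ι) (by
      rw [Category.assoc, Category.assoc, ← morphismRestrict_ι, IsIso.inv_hom_id_assoc, morphismRestrict_ι])
  obtain ⟨I, -, hIc, hlift⟩ := Groth.Agent.Flat2C.DomLift2.exists_admissible_lift g₀ (π' ⁻¹ᵁ U)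
    (TopologicalSpace.NoetherianSpace.isCompact _)
  have hI : I ≠ ⊥ := by
    rintro rfl
    obtain ⟨y, hy⟩ := hU'ne
    rw [← hIc] at hy
    exact hy (by simp)
  obtain ⟨Y, f, hf, hIf⟩ := S7322.result S' hg'.regular h3' I hI
  obtain ⟨l, hl, -⟩ := hlift Y f hIf
  have hl : l ≫ g₀ = f := hl
  have hπ : (l ≫ k₀) ≫ π = f ≫ π' := by rw [Category.assoc, hk₀, ← Category.assoc, hl]
  obtain ⟨hY, hSi', hYi, hfb⟩ := Good.of_seq hf hg'
  have hb : IsBir π := K373.BirSeq.isBir_of_open π ⟨U, hU, h5⟩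
  have hb' : IsBir π' := K373.BirSeq.isBir_of_open π' ⟨U, hU, h5'⟩
  have hc : IsBir ((l ≫ k₀) ≫ π) := by
    rw [hπ]; exact isBir_comp f π' hfb hb'
  refine ⟨Y, f, l ≫ k₀, hf, isContractionSeq_of_good (l ≫ k₀) hg ?_ (isBir_of_comp (l ≫ k₀) π hc hb), hπ⟩
  rw [← Category.assoc, hπ, Category.assoc]
  exact hY

/-- Isomorphism over a smaller open. -/
theorem isIso_restrict_of_le {X Y : Scheme.{u}} (f : X ⟶ Y) {V U : Y.Opens} (h : V ≤ U) [IsIso (f ∣_ U)] :
    IsIso (f ∣_ V) := by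
  have e : U.ι ''ᵁ U.ι ⁻¹ᵁ V = V := by
    simpa [Scheme.Hom.image_preimage_eq_opensRange_inf] using h
  have h1 : IsIso (f ∣_ U ∣_ (U.ι ⁻¹ᵁ V)) := inferInstance
  have h2 := (MorphismProperty.arrow_mk_iso_iff (MorphismProperty.isomorphisms Scheme.{u})
    (morphismRestrictRestrict f U (U.ι ⁻¹ᵁ V))).1 h1
  rw [e] at h2
  exact h2

/-- Two morphisms to `S` which agree after `π : S ⟶ X` are equal if `π` is an isomorphism over an open containing the
image. -/
theorem hom_ext_over {T S X : Scheme.{u}} (π : S ⟶ X) (U : X.Opens) [IsIso (π ∣_ U)] (a b : T ⟶ S)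
    (h : a ≫ π = b ≫ π) (hr : ∀ t, π (a t) ∈ U) : a = b := by
  have hra : Set.range a ⊆ Set.range (π ⁻¹ᵁ U).ι := by
    rw [Scheme.Opens.range_ι]
    rintro _ ⟨t, rfl⟩
    exact hr t
  have hrb : Set.range b ⊆ Set.range (π ⁻¹ᵁ U).ι := by
    rw [Scheme.Opens.range_ι]
    rintro _ ⟨t, rfl⟩
    change π (b t) ∈ U
    rw [← Scheme.Hom.comp_apply, ← h, Scheme.Hom.comp_apply]
    exact hr t
  have ha := IsOpenImmersion.lift_fac (π ⁻¹ᵁ U).ι a hra
  have hb := IsOpenImmersion.lift_fac (π ⁻¹ᵁ U).ι b hrb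
  have h1 : IsOpenImmersion.lift (π ⁻¹ᵁ U).ι a hra = IsOpenImmersion.lift (π ⁻¹ᵁ U).ι b hrb := by
    rw [← cancel_mono (π ∣_ U), ← cancel_mono U.ι, Category.assoc, Category.assoc, morphismRestrict_ι,
      ← Category.assoc, ← Category.assoc, ha, hb, h]
  rw [← ha, ← hb, h1]

/-- `K·C ≥ 0` for contracted curves if there is no contracted (-1)-curve. -/
theorem nef_of_no_minus [IsAlgClosed k] {U : X.Opens} (hU : (U : Set X).Nonempty) {S : Scheme.{u}} {π : S ⟶ X}
    (h : IsRes k U π) {K : S.Modules}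
    (hK : ExtPow.IsExtPow 2 (Omega.sheaf (π ≫ (X ↘ (Spec (CommRingCat.of k))))) K) (hKi : PicF.IsInvertible K)
    (hno : letI : S.Over (Spec (CommRingCat.of k)) := ⟨π ≫ (X ↘ (Spec (CommRingCat.of k)))⟩
      ∀ (E : S.IdealSheafData) (N : S.Modules), IsIntegral E.subscheme →
        topologicalKrullDim (E.support : Set S) = 1 → ClSub.IsInverseOf N (ClSub.idealMod E) →
        Subsingleton (Coh.HH E.subscheme (Coh.structureModule E.subscheme) 1) →
        Curv2.euler k S (CohB1.tensorMod (ClSub.quotMod E) N) - Curv2.euler k S (ClSub.quotMod E) = -1 →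
        ¬ ∃ x : X, π.base '' (E.support : Set S) = {x}) :
    letI : S.Over (Spec (CommRingCat.of k)) := ⟨π ≫ (X ↘ (Spec (CommRingCat.of k)))⟩
    ∀ D : S.IdealSheafData, IsCurve D → (π '' (D.support : Set S)).Subsingleton → 0 ≤ degOn k S D (mk K hKi) := by
  letI : S.Over (Spec (CommRingCat.of k)) := ⟨π ≫ (X ↘ (Spec (CommRingCat.of k)))⟩
  intro D hD hcon
  have hg := h.good
  have hg' : Good (S ↘ Spec (CommRingCat.of k)) := hg
  have := hg.integral
  have := hg.noeth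
  have := hg'.proper
  have := hg'.smooth
  by_contra hneg
  push Not at hneg
  have hE := isEff_of_smooth k hg.dim hD
  have h1 := SelfNeg.self_neg k π hU h.2.2.2.2.2 hD hE hcon
  obtain ⟨h2, -, h3⟩ := eq_neg_one k hg' hK hKi hD hE h1 hneg
  obtain ⟨N, hN, ⟨e⟩⟩ := exists_inverse (isInvertible_idealMod hE)
  have hinv : ClSub.IsInverseOf N (ClSub.idealMod D) := ⟨Ega2.Tens.swap _ _ ≪≫ e⟩
  refine hno D N hD.integral hD.dim hinv h3 ?_ ?_
  · rw [← degOn_mk k S D hN, mk_eq_ic_inv hinv hN hE, degOn_inv k hD, degOn_eq_neg_dot k S hE, h2]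
    norm_num
  · obtain ⟨x, hx⟩ := (⟨_, gp hD, gp_mem hD, rfl⟩ : (π '' (D.support : Set S)).Nonempty)
    exact ⟨x, hcon.eq_singleton_of_mem hx⟩

/-- **A resolution without contracted (-1)-curves is minimal.** -/
theorem minimal_of_no_minus [IsAlgClosed k] {U : X.Opens} (hU : (U : Set X).Nonempty) {S : Scheme.{u}} {π : S ⟶ X}
    (h : IsRes k U π)
    (hno : letI : S.Over (Spec (CommRingCat.of k)) := ⟨π ≫ (X ↘ (Spec (CommRingCat.of k)))⟩
      ∀ (E : S.IdealSheafData) (N : S.Modules), IsIntegral E.subscheme →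
        topologicalKrullDim (E.support : Set S) = 1 → ClSub.IsInverseOf N (ClSub.idealMod E) →
        Subsingleton (Coh.HH E.subscheme (Coh.structureModule E.subscheme) 1) →
        Curv2.euler k S (CohB1.tensorMod (ClSub.quotMod E) N) - Curv2.euler k S (ClSub.quotMod E) = -1 →
        ¬ ∃ x : X, π.base '' (E.support : Set S) = {x})
    {S' : Scheme.{u}} (π' : S' ⟶ X) (h' : IsRes k U π') : ∃! u : S' ⟶ S, u ≫ π = π' := by
  have hg := h.good
  have hg' := h'.good
  have := hg.relDim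
  have := hg.proper
  have hπp : IsProper π := h.1
  obtain ⟨K, hK, hKi⟩ := Canon.exists_canonical (π ≫ (X ↘ (Spec (CommRingCat.of k)))) 2
  obtain ⟨Y, f, g, hf, hgs, hfg⟩ := exists_dom hU h h'
  obtain ⟨u, hu⟩ := exists_factor (X ↘ (Spec (CommRingCat.of k))) π hg hK hKi (nef_of_no_minus hU h hK hKi hno) hf
    π' hg' g hgs hfg
  obtain ⟨hY, hSi', hYi, hfb⟩ := Good.of_seq hf hg'
  have hYn := hY.noeth
  have hSn := hg'.noeth
  have hnor : ∀ q : S', IsIntegrallyClosed (S'.presheaf.stalk q) := fun q => hg'.isSurf.normal q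
  have huπ : u ≫ π = π' := by
    apply K480.Rigid.eq_of_comp_eq hnor f hfb
    rw [← Category.assoc, hu, hfg]
  refine ⟨u, huπ, fun v hv => ?_⟩
  have hv : v ≫ π = π' := hv
  have hUg : genericPoint X ∈ U := by
    obtain ⟨y, hy⟩ := hU
    exact (genericPoint_specializes y).mem_open U.2 hy
  have hmono : IsIso (π ∣_ U) := h.2.2.2.2.2
  have hne : (π' ⁻¹ᵁ U : Set S').Nonempty := ⟨genericPoint S', by
    change π' (genericPoint S') ∈ U
    rw [BirIso.map_genericPoint π' U h'.2.2.2.2.2 hUg]; exact hUg⟩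
  have hdom : IsDominant (π' ⁻¹ᵁ U).ι := by
    refine ⟨?_⟩
    have h1 : Dense (Set.range (π' ⁻¹ᵁ U).ι) := by
      rw [Scheme.Opens.range_ι]
      exact (π' ⁻¹ᵁ U).2.dense hne
    exact h1
  refine ext_of_isDominant_of_isSeparated π (by rw [hv, huπ]) (π' ⁻¹ᵁ U).ι ?_
  refine hom_ext_over π U _ _ (by rw [Category.assoc, Category.assoc, hv, huπ]) fun t => ?_
  rw [← Scheme.Hom.comp_apply, Category.assoc, hv]
  exact t.2

/-- Exceptional curves have two points. -/
theorem exists_ne_exc {E S : Scheme.{u}} {ι : E ⟶ S} (hE : Models.IsExcCurve ι) : ∃ e e' : E, e ≠ e' := by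
  obtain ⟨-, k', _, e, -⟩ := hE
  by_contra hcon
  push Not at hcon
  have h1 : Subsingleton E := ⟨hcon⟩
  have h2 : topologicalKrullDim E ≤ 0 := @topologicalKrullDim_zero_of_discreteTopology _ _ inferInstance
  have h3 : topologicalKrullDim (CohB1.ProjSpace 1 k') = topologicalKrullDim E :=
    e.hom.homeomorph.isHomeomorph.topologicalKrullDim_eq
  rw [← h3, Dix.EtMinF.topologicalKrullDim_P1] at h2
  exact absurd h2 (by norm_num)

/-- Contraction of an exceptional curve on a resolution. -/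
theorem IsRes.contract [PerfectField k] {U : X.Opens} {S : Scheme.{u}} {π : S ⟶ X} (h : IsRes k U π) {E : Scheme.{u}}
    (ι : E ⟶ S) [IsClosedImmersion ι] (hE : Models.IsExcCurve ι) (hcon : ∀ e e' : E, π (ι e) = π (ι e')) :
    ∃ (S₁ : Scheme.{u}) (c : S ⟶ S₁) (π₁ : S₁ ⟶ X), Models.IsContractionOf ι c ∧ c ≫ π₁ = π ∧ IsRes k U π₁ := by
  have hg := h.good
  obtain ⟨S₁, c, g, hc, hcg, hg₁⟩ := hg.exists_contraction ι hE
  obtain ⟨π₁, hπ₁, -⟩ := K372.Contr.existsUnique_desc ι hE c hc π hcon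
  have hπ₁ : c ≫ π₁ = π := hπ₁
  have hπg : π₁ ≫ (X ↘ (Spec (CommRingCat.of k))) = g := by
    obtain ⟨r, -, hr⟩ := K372.Contr.existsUnique_desc ι hE c hc (π ≫ (X ↘ (Spec (CommRingCat.of k)))) (fun e e' => by
      rw [Scheme.Hom.comp_apply, Scheme.Hom.comp_apply, hcon e e'])
    rw [hr (π₁ ≫ (X ↘ (Spec (CommRingCat.of k)))) (by rw [← hπ₁, Category.assoc]), hr g hcg]
  have hp₁ : IsProper π₁ := by
    have : IsProper (π₁ ≫ (X ↘ (Spec (CommRingCat.of k)))) := by rw [hπg]; exact hg₁.proper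
    exact IsProper.of_comp π₁ (X ↘ (Spec (CommRingCat.of k)))
  obtain ⟨hN, hp, y, hy, hrange, hreg, hdim, hbl⟩ := id hc
  have hcy : ∀ e, c (ι e) = y := fun e => by
    have h1 : (ι ≫ c) e ∈ Set.range ((ι ≫ c).base) := ⟨e, rfl⟩
    rw [hrange] at h1
    exact h1
  have hyU : y ∉ π₁ ⁻¹ᵁ U := by
    intro hyU
    obtain ⟨e, e', hne⟩ := exists_ne_exc hE
    apply hne
    apply ι.isClosedEmbedding.injective
    refine Dix.BirIso.inj π U h.2.2.2.2.2 (ι e) (ι e') ?_ (hcon e e')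
    rw [← hπ₁, Scheme.Hom.comp_apply, hcy]
    exact hyU
  refine ⟨S₁, c, π₁, hc, hπ₁, hp₁, hg₁.integral, hg₁.dim, by rw [hπg]; exact hg₁.smooth, ?_, ?_⟩
  · rw [isIso_unitToPush_iff]
    intro V
    have h1 := (isIso_unitToPush_iff π).1 h.2.2.2.2.1 V
    have h2 : π = c ≫ π₁ := hπ₁.symm
    subst h2
    have h3 := K372.Contr.bijective_app (hy := hy) hbl (Groth.Agent.Dix.Descend515.two_le_depth hdim) (π₁ ⁻¹ᵁ V)
    have h4 : Function.Bijective ((c.app (π₁ ⁻¹ᵁ V)).hom ∘ (π₁.app V).hom) := by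
      rw [Scheme.Hom.comp_app] at h1
      exact h1
    exact (Function.Bijective.of_comp_iff' h3 _).1 h4
  · have hiso : IsIso (c ∣_ (⟨{y}ᶜ, hy.isOpen_compl⟩ : S₁.Opens)) := Groth.Agent.Models.H69.Contr.isIso_compl y hy hbl
    have h5 : π₁ ⁻¹ᵁ U ≤ (⟨{y}ᶜ, hy.isOpen_compl⟩ : S₁.Opens) := by
      rintro x hx (rfl : x = y)
      exact hyU hx
    have h6 : IsIso (c ∣_ (π₁ ⁻¹ᵁ U)) := isIso_restrict_of_le c h5
    have h7 : IsIso ((c ≫ π₁) ∣_ U) := by
      rw [hπ₁]; exact h.2.2.2.2.2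
    rw [morphismRestrict_comp] at h7
    exact @IsIso.of_isIso_comp_left _ _ _ _ _ (c ∣_ (π₁ ⁻¹ᵁ U)) (π₁ ∣_ U) h6 h7

/-- A contracted (-1)-curve is an exceptional curve of the first kind. -/
theorem isExcCurve_of_num [IsAlgClosed k] {S : Scheme.{u}} {t : S ⟶ Spec (CommRingCat.of k)} (h : Good t)
    {E : S.IdealSheafData} {N : S.Modules} (hi : IsIntegral E.subscheme)
    (hd : topologicalKrullDim (E.support : Set S) = 1) (hN : ClSub.IsInverseOf N (ClSub.idealMod E))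
    (h1 : Subsingleton (Coh.HH E.subscheme (Coh.structureModule E.subscheme) 1))
    (h2 : letI : S.Over (Spec (CommRingCat.of k)) := ⟨t⟩
      Curv2.euler k S (CohB1.tensorMod (ClSub.quotMod E) N) - Curv2.euler k S (ClSub.quotMod E) = -1) :
    Models.IsExcCurve E.subschemeι := by
  letI : S.Over (Spec (CommRingCat.of k)) := ⟨t⟩
  have hg : Good (S ↘ Spec (CommRingCat.of k)) := h
  have := hg.proper
  have := hg.smooth
  have := hg.integral
  have hE : IsCurve E := ⟨hi, hd⟩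
  have hEe := isEff_of_smooth k hg.dim hE
  have hNi : PicF.IsInvertible N := (isInvertible_of_isInverseOf hN).1
  refine Srf.isExcCurve k hg hE hEe ?_ h1
  rw [← degOn_mk k S E hNi, mk_eq_ic_inv hN hNi hEe, degOn_inv k hE, degOn_eq_neg_dot k S hEe, neg_neg] at h2
  exact h2

omit [X.Over (Spec (CommRingCat.of k))] [IsProper (X ↘ (Spec (CommRingCat.of k)))] [IsIntegral X] in
theorem con_of_image {S : Scheme.{u}} (E : S.IdealSheafData) (π : S ⟶ X) (x : X)
    (hx : π.base '' (E.support : Set S) = {x}) (e e' : E.subscheme) :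
    π (E.subschemeι e) = π (E.subschemeι e') := by
  have h : ∀ e : E.subscheme, π (E.subschemeι e) = x := fun e => by
    have h1 : π (E.subschemeι e) ∈ π.base '' (E.support : Set S) :=
      ⟨E.subschemeι e, by rw [← E.range_subschemeι]; exact ⟨e, rfl⟩, rfl⟩
    rw [hx] at h1
    exact h1
  rw [h e, h e']

/-- **A minimal resolution has no contracted (-1)-curve.** -/
theorem no_minus_of_minimal [IsAlgClosed k] {U : X.Opens} {S : Scheme.{u}} {π : S ⟶ X} (h : IsRes k U π)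
    (hmin : ∀ (S' : Scheme.{u}) (π' : S' ⟶ X), IsRes k U π' → ∃! u : S' ⟶ S, u ≫ π = π')
    {E : Scheme.{u}} (ι : E ⟶ S) [IsClosedImmersion ι] (hE : Models.IsExcCurve ι)
    (hcon : ∀ e e' : E, π (ι e) = π (ι e')) : False := by
  obtain ⟨S₁, c, π₁, hc, hπ₁, h₁⟩ := h.contract ι hE hcon
  obtain ⟨u, hu, -⟩ := hmin S₁ π₁ h₁
  have hu : u ≫ π = π₁ := hu
  obtain ⟨w, -, hw⟩ := hmin S π h
  have h1 : c ≫ u = 𝟙 S := by
    rw [hw (c ≫ u) (by change (c ≫ u) ≫ π = π; rw [Category.assoc, hu, hπ₁]),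
      hw (𝟙 S) (by change 𝟙 S ≫ π = π; rw [Category.id_comp])]
  obtain ⟨hN, hp, y, hy, hrange, hreg, hdim, hbl⟩ := id hc
  have hcy : ∀ e, c (ι e) = y := fun e => by
    have h1 : (ι ≫ c) e ∈ Set.range ((ι ≫ c).base) := ⟨e, rfl⟩
    rw [hrange] at h1
    exact h1
  obtain ⟨e, e', hne⟩ := exists_ne_exc hE
  apply hne
  apply ι.isClosedEmbedding.injective
  have h2 : ∀ z : S, u (c z) = z := fun z => by
    rw [← Scheme.Hom.comp_apply, h1]; rfl
  rw [← h2 (ι e), ← h2 (ι e'), hcy, hcy]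

end

end K455.MinRes
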