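import Groth.Agent.Surf.K455.MinRes
import Groth.Agent.Resolve.K375.Geo

/-!
# Existence of minimal resolutions of normal surfaces
-/

set_option autoImplicit false
universe u
open CategoryTheory CategoryTheory.Limits AlgebraicGeometry TopologicalSpace

namespace K455.MinRes

open Groth.Agent Groth.Agent.Dix Groth.Agent.Dix.ExcPts Groth.Agent.Dix.PointIdeal Groth.Agent.Grpsch.PicGrp
  Groth.Agent.Dix.IdealModCartier K464.Base K464.Curves K455.Srf Groth.Agent.Resolve.K375

/-- The generic points of the curves over the complement of `U`. -/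
def cp {S X : Scheme.{u}} (U : X.Opens) (π : S ⟶ X) : Set S :=
  {z | π z ∉ U ∧ ringKrullDim (S.presheaf.stalk z) = 1}

theorem cp_finite {S X : Scheme.{u}} [IsNoetherian S] [IsIntegral S] (U : X.Opens) (π : S ⟶ X)
    (hgen : π (genericPoint S) ∈ U) : (cp U π).Finite := by
  let F : Set S := ((π ⁻¹ᵁ U : S.Opens) : Set S)ᶜ
  have hF : IsClosed F := (π ⁻¹ᵁ U).2.isClosed_compl
  obtain ⟨T, hTf, hTc, hTi, hT⟩ := TopologicalSpace.NoetherianSpace.exists_finite_set_isClosed_irreducible hF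
  have hg : ∀ t ∈ T, ∃ ζ, IsGenericPoint ζ t := fun t ht => QuasiSober.sober (hTi t ht) (hTc t ht)
  have : Nonempty S := ⟨genericPoint S⟩
  choose! g hg using hg
  refine (hTf.image g).subset ?_
  rintro z ⟨hz1, hz2⟩
  have hzF : z ∈ F := hz1
  rw [hT] at hzF
  obtain ⟨t, ht, hzt⟩ := hzF
  refine ⟨t, ht, ?_⟩
  have h1 : g t ⤳ z := (hg t ht).specializes hzt
  by_contra hne
  have h2 := Geo.ringKrullDim_add_one_le h1 hne
  rw [hz2] at h2
  have h3 : g t ≠ genericPoint S := by
    intro h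
    have h4 : g t ∈ F := by
      rw [hT]
      exact ⟨t, ht, (hg t ht).mem⟩
    rw [h] at h4
    exact h4 hgen
  have h4 := Geo.one_le_ringKrullDim h3
  have h5 : (1 : WithBot ℕ∞) + 1 ≤ 1 := (add_le_add_left h4 1).trans h2
  exact absurd h5 (by decide)

section

variable {k : Type u} [Field k] {X : Scheme.{u}} [X.Over (Spec (CommRingCat.of k))]
  [IsProper (X ↘ (Spec (CommRingCat.of k)))] [IsIntegral X]

/-- Contractions lower the number of exceptional curves. -/
theorem ncard_lt [PerfectField k] {U : X.Opens} (hU : (U : Set X).Nonempty) {S S₁ : Scheme.{u}} {π : S ⟶ X}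
    (h : IsRes k U π) {E : Scheme.{u}} (ι : E ⟶ S) [IsClosedImmersion ι] (hE : Models.IsExcCurve ι)
    (hcon : ∀ e e' : E, π (ι e) = π (ι e')) {c : S ⟶ S₁} {π₁ : S₁ ⟶ X} (hc : Models.IsContractionOf ι c)
    (hπ : c ≫ π₁ = π) (h₁ : IsRes k U π₁) : (cp U π₁).ncard < (cp U π).ncard := by
  have hg := h.good
  have hg₁ := h₁.good
  have := hg.integral
  have := hg.noeth
  have := hg₁.integral
  have := hg₁.noeth
  have hUg : genericPoint X ∈ U := by
    obtain ⟨y, hy⟩ := hU
    exact (genericPoint_specializes y).mem_open U.2 hy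
  have hgen : π (genericPoint S) ∈ U := by
    rw [BirIso.map_genericPoint π U h.2.2.2.2.2 hUg]; exact hUg
  have hfin := cp_finite U π hgen
  obtain ⟨hN, hp, y, hy, hrange, hreg, hdim, hbl⟩ := id hc
  have hcy : ∀ e, c (ι e) = y := fun e => by
    have h1 : (ι ≫ c) e ∈ Set.range ((ι ≫ c).base) := ⟨e, rfl⟩
    rw [hrange] at h1
    exact h1
  have hiso : IsIso (c ∣_ (⟨{y}ᶜ, hy.isOpen_compl⟩ : S₁.Opens)) := Groth.Agent.Models.H69.Contr.isIso_compl y hy hbl
  have hEi : IsIntegral E := (K372.Contr.isIntegral_of_isExcCurve hE).1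
  let η : S := ι (genericPoint E)
  have hηU : π η ∉ U := by
    intro hηU
    obtain ⟨e, e', hne⟩ := exists_ne_exc hE
    apply hne
    apply ι.isClosedEmbedding.injective
    exact Dix.BirIso.inj π U h.2.2.2.2.2 (ι e) (ι e') (by rw [hcon e (genericPoint E)]; exact hηU) (hcon e e')
  have hη : η ∈ cp U π := by
    refine ⟨hηU, ?_⟩
    apply le_antisymm
    · obtain ⟨e, he⟩ : ∃ e : E, e ≠ genericPoint E := by
        obtain ⟨e, e', hne⟩ := exists_ne_exc hE
        by_cases h1 : e = genericPoint E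
        · exact ⟨e', fun h2 => hne (h1.trans h2.symm)⟩
        · exact ⟨e, h1⟩
      have h1 : η ⤳ ι e := (genericPoint_specializes e).map ι.continuous
      have h2 := Geo.ringKrullDim_add_one_le h1 (fun h3 => he (ι.isClosedEmbedding.injective h3).symm)
      have h3 := ringKrullDim_stalk_le hg.dim.le (ι e)
      exact Pos.le_of_add_one_le (h2.trans (h3.trans (by norm_num)))
    · exact Geo.one_le_ringKrullDim (fun h1 => hηU (h1 ▸ hgen))
  have hsub : cp U π₁ ⊆ c '' (cp U π \ {η}) := by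
    rintro z ⟨hz1, hz2⟩
    have hzy : z ≠ y := by
      rintro rfl
      rw [hdim] at hz2
      exact absurd hz2 (by decide)
    obtain ⟨w, hw⟩ := (c ∣_ (⟨{y}ᶜ, hy.isOpen_compl⟩ : S₁.Opens)).surjective ⟨z, hzy⟩
    have hwz : c w.1 = z := by
      have h5 := congrArg Subtype.val hw
      rwa [morphismRestrict_base_coe] at h5
    refine ⟨w.1, ⟨⟨?_, ?_⟩, ?_⟩, hwz⟩
    · rw [← hπ, Scheme.Hom.comp_apply, hwz]; exact hz1
    · rw [← Dix.ContractSurf.ringKrullDim_stalk_eq c (⟨{y}ᶜ, hy.isOpen_compl⟩ : S₁.Opens) w.1 (by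
        rw [hwz]; exact hzy), hwz, hz2]
    · rintro (h6 : w.1 = η)
      apply hzy
      rw [← hwz, h6, hcy]
  calc (cp U π₁).ncard ≤ (c '' (cp U π \ {η})).ncard := Set.ncard_le_ncard hsub ((hfin.subset Set.diff_subset).image _)
    _ ≤ (cp U π \ {η}).ncard := Set.ncard_image_le (hfin.subset Set.diff_subset)
    _ < (cp U π).ncard := Set.ncard_lt_ncard (by
      rw [Set.ssubset_iff_of_subset Set.diff_subset]
      exact ⟨η, hη, fun h7 => h7.2 rfl⟩) hfin

/-- **Minimal resolutions exist** if resolutions do. -/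
theorem exists_minimal [IsAlgClosed k] {U : X.Opens} (hU : (U : Set X).Nonempty) (n : ℕ) :
    ∀ {S : Scheme.{u}} {π : S ⟶ X} (_ : IsRes k U π) (_ : (cp U π).ncard = n),
      ∃ (S : Scheme.{u}) (π : S ⟶ X), IsRes k U π ∧
        ∀ (S' : Scheme.{u}) (π' : S' ⟶ X), IsRes k U π' → ∃! u : S' ⟶ S, u ≫ π = π' := by
  induction n using Nat.strong_induction_on with
  | _ n ih =>
  intro S π h hn
  letI : S.Over (Spec (CommRingCat.of k)) := ⟨π ≫ (X ↘ (Spec (CommRingCat.of k)))⟩
  by_cases hno : ∀ (E : S.IdealSheafData) (N : S.Modules), IsIntegral E.subscheme →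
        topologicalKrullDim (E.support : Set S) = 1 → ClSub.IsInverseOf N (ClSub.idealMod E) →
        Subsingleton (Coh.HH E.subscheme (Coh.structureModule E.subscheme) 1) →
        Curv2.euler k S (CohB1.tensorMod (ClSub.quotMod E) N) - Curv2.euler k S (ClSub.quotMod E) = -1 →
        ¬ ∃ x : X, π.base '' (E.support : Set S) = {x}
  · exact ⟨S, π, h, fun S' π' h' => minimal_of_no_minus hU h hno π' h'⟩
  · push Not at hno
    obtain ⟨E, N, hi, hd, hN, h1, h2, x, hx⟩ := hno
    have hE := isExcCurve_of_num h.good hi hd hN h1 h2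
    have hcon := con_of_image E π x hx
    obtain ⟨S₁, c, π₁, hc, hπ₁, h₁⟩ := h.contract E.subschemeι hE hcon
    exact ih _ (by rw [← hn]; exact ncard_lt hU h E.subschemeι hE hcon hc hπ₁ h₁) h₁ rfl

end

end K455.MinRes
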