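import Groth.Agent.Surf.K455.MinCount
import Groth.Agent.Surf.K456.Resol
import Groth.Agent.Coh.K415.LerayGen
import Groth.Agent.CohqB.RelVan
import Groth.Agent.CohqB.SerLocFib
import Groth.Agent.Dcoh.Restrict
import Groth.Agent.S0032
import Groth.Agent.S0007

/-!
# Rational singularities of normal surfaces: local versus global
-/

set_option autoImplicit false
universe u
open CategoryTheory CategoryTheory.Limits AlgebraicGeometry TopologicalSpace Opposite

namespace K455.RatSing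

open Groth.Agent Groth.Agent.Dix Groth.Agent.CohqB.RelVan K455.Srf K455.MinRes

/-- The cohomology of `f⁻¹ V` is the module of sections of the higher direct image, for `V` affine. -/
theorem nonempty_equiv {X S : Scheme.{u}} (f : X ⟶ S) [QuasiCompact f] [QuasiSeparated f] (V : S.Opens)
    (hV : IsAffineOpen V) (M : X.Modules) (hM : Coh.IsQCoh M) (p : ℕ) :
    Nonempty (Coh.HH (f ⁻¹ᵁ V).toScheme (M.restrict (f ⁻¹ᵁ V).ι) p ≃
      ((Coh.RpushAb f p).obj (Coh.toAb M)).obj.obj (op V)) := by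
  have : IsAffine V := hV
  have hM' : Coh.IsQCoh (M.restrict (f ⁻¹ᵁ V).ι) := PerfA.QCohSerre.isQCoh_restrict _ hM
  obtain ⟨e1⟩ := S0032.result (f ∣_ V) (M.restrict (f ⁻¹ᵁ V).ι) p
  obtain ⟨e2⟩ := Ega3B.RpushAbCmp.nonempty_toAb_Rpush_iso (f ∣_ V) (M.restrict (f ⁻¹ᵁ V).ι) p
  obtain ⟨e3⟩ := Ega3B.RpushAbCmp.nonempty_toAb_Rpush_iso f M p
  have e4 := CohqA.RpushLoc.rpushResOpen f V p M
  have a2 := (((sheafToPresheaf _ _).mapIso e2).app (op ⊤)).addCommGroupIsoToAddEquiv.toEquiv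
  have a4 := (((sheafToPresheaf _ _).mapIso ((Ega3B.RpushAbCmp.toAbF _).mapIso e4)).app
    (op ⊤)).addCommGroupIsoToAddEquiv.toEquiv
  have a3 := (((sheafToPresheaf _ _).mapIso e3).app (op (V.ι ''ᵁ ⊤))).addCommGroupIsoToAddEquiv.toEquiv
  have hVt : V.ι ''ᵁ ⊤ = V := by simp
  have a5 : ((Coh.RpushAb f p).obj (Coh.toAb M)).obj.obj (op (V.ι ''ᵁ ⊤)) ≃
      ((Coh.RpushAb f p).obj (Coh.toAb M)).obj.obj (op V) := by rw [hVt]
  exact ⟨e1.toEquiv.trans (a2.symm.trans (a4.symm.trans (a3.trans a5)))⟩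

theorem subsingleton_affine {X : Scheme.{u}} {V : X.Opens} (hV : IsAffineOpen V) :
    Subsingleton (Coh.HH V.toScheme ((Coh.structureModule X).restrict V.ι) 1) := by
  have : IsAffine V := hV
  have hM : Coh.IsQCoh ((Coh.structureModule X).restrict V.ι) :=
    PerfA.QCohSerre.isQCoh_restrict _ (Fdesc.StructMod.isQCoh_structureModule X)
  exact S0007.result V.toScheme _ 1 one_pos

/-- `H¹(W, O) ⟶ H¹(u⁻¹ W, O)` is injective if `u_* O = O`. -/
theorem subsingleton_of_map {T W : Scheme.{u}} {R : Type u} [CommRing R] (u : T ⟶ W) (w : W ⟶ Spec (CommRingCat.of R))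
    (hu : ∀ V : W.Opens, Function.Bijective (u.app V).hom)
    (h : Subsingleton (Coh.HH T (Coh.structureModule T) 1)) : Subsingleton (Coh.HH W (Coh.structureModule W) 1) := by
  letI : W.Over (Spec (CommRingCat.of R)) := ⟨w⟩
  letI : T.Over (Spec (CommRingCat.of R)) := ⟨u ≫ w⟩
  obtain ⟨φ, hφ⟩ := K415.LerayGen.exists_injective_one u R rfl (Coh.structureModule T)
  have h1 : IsIso (ClSub.unitToPush u) := (isIso_unitToPush_iff u).2 hu
  exact CohqB.SerLocFib.subsingleton_HH_of_iso (asIso (ClSub.unitToPush u)) 1 hφ.subsingleton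

theorem bijective_restrict {T W : Scheme.{u}} (u : T ⟶ W) (hu : ∀ V : W.Opens, Function.Bijective (u.app V).hom)
    (O : W.Opens) (V : O.toScheme.Opens) : Function.Bijective ((u ∣_ O).app V).hom := by
  have h1 : IsIso (u.app (O.ι ''ᵁ V)) := (ConcreteCategory.isIso_iff_bijective _).2 (hu _)
  have h2 : IsIso ((u ∣_ O).app V) := by
    rw [morphismRestrict_app]
    exact @IsIso.comp_isIso _ _ _ _ _ _ _ h1 (T.presheaf.map_isIso _)
  exact (ConcreteCategory.isIso_iff_bijective _).1 h2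

/-- Vanishing of `H¹` over `V` descends. -/
theorem subsingleton_desc {S S' X : Scheme.{u}} {R : Type u} [CommRing R] (x : X ⟶ Spec (CommRingCat.of R))
    (π : S ⟶ X) (π' : S' ⟶ X) (u : S' ⟶ S) (hπ : u ≫ π = π')
    (hu : ∀ V : S.Opens, Function.Bijective (u.app V).hom) (V : X.Opens)
    (h : Subsingleton (Coh.HH (π' ⁻¹ᵁ V).toScheme ((Coh.structureModule S').restrict (π' ⁻¹ᵁ V).ι) 1)) :
    Subsingleton (Coh.HH (π ⁻¹ᵁ V).toScheme ((Coh.structureModule S).restrict (π ⁻¹ᵁ V).ι) 1) := by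
  subst hπ
  have h1 : Subsingleton (Coh.HH (u ⁻¹ᵁ (π ⁻¹ᵁ V)).toScheme (Coh.structureModule _) 1) :=
    CohqB.SerLocFib.subsingleton_HH_of_iso (Groth.Agent.Dcoh.Restrict.restrictUnit (u ⁻¹ᵁ (π ⁻¹ᵁ V)).ι).symm 1 h
  refine CohqB.SerLocFib.subsingleton_HH_of_iso (Groth.Agent.Dcoh.Restrict.restrictUnit (π ⁻¹ᵁ V).ι) 1 ?_
  exact subsingleton_of_map (u ∣_ (π ⁻¹ᵁ V)) ((π ⁻¹ᵁ V).ι ≫ π ≫ x) (bijective_restrict u hu _) h1

section

variable {k : Type u} [Field k] [IsAlgClosed k] {X : Scheme.{u}} [X.Over (Spec (CommRingCat.of k))]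
  [IsProper (X ↘ (Spec (CommRingCat.of k)))] [IsIntegral X]

/-- The identity is a resolution of a regular surface. -/
theorem isRes_id (hdim : topologicalKrullDim X = 2) (U : X.Opens)
    (hreg : ∀ x : X, IsRegularLocalRing (X.presheaf.stalk x)) : IsRes k U (𝟙 X) := by
  refine ⟨inferInstance, inferInstance, hdim, ?_, ?_, ?_⟩
  · rw [Category.id_comp]
    exact RelDim.smooth_of_regular k _ hreg
  · rw [isIso_unitToPush_iff]
    intro V
    rw [Scheme.Hom.id_app]
    exact Function.bijective_id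
  · infer_instance

variable (k) in
include k in
theorem finite_sing (hdim : topologicalKrullDim X = 2) (hnorm : Pi1.IsNormalScheme X)
    (U : X.Opens) (hU : ∀ x : X, x ∈ U ↔ IsRegularLocalRing (X.presheaf.stalk x)) :
    ((U : Set X)ᶜ).Finite ∧ ∀ x ∉ U, IsClosed ({x} : Set X) := by
  have hN : IsNoetherian X := Fga.IntAdd.isNoetherian k X
  have h1 : ∀ x : X, ringKrullDim (X.presheaf.stalk x) ≤ (2 : ℕ) := fun x =>
    K464.Curves.ringKrullDim_stalk_le (by rw [hdim]) x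
  have h2 : ∀ x ∉ U, ¬ ringKrullDim (X.presheaf.stalk x) ≤ 1 := fun x hx h =>
    hx ((hU x).2 (K456.Resol.isRegular_of_le_one hnorm x h))
  refine ⟨Groth.Agent.Resolve.K375.Geo.finite_of_dim 2 h1 U.2.isClosed_compl fun x hx => ?_, fun x hx =>
    K456.Resol.isClosed_of_two hdim x (h2 x hx)⟩
  have h3 := (ENat.WithBot.add_one_le_iff (n := 1)).2 (by exact_mod_cast not_le.1 (h2 x hx))
  exact h3.trans' (by norm_num)

/-- Domination of resolutions by the minimal one on sections. -/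
theorem bijective_app_of_res {U : X.Opens} (hU : (U : Set X).Nonempty) {S S' : Scheme.{u}} {π : S ⟶ X} {π' : S' ⟶ X}
    (h : IsRes k U π) (h' : IsRes k U π') (u : S' ⟶ S) (hu : u ≫ π = π') (V : S.Opens) :
    Function.Bijective (u.app V).hom := by
  have hg := h.good
  have hg' := h'.good
  have i1 := hg.integral
  have i2 := hg'.integral
  have i3 := hg.noeth
  have i4 := hg'.noeth
  have i5 := h.1
  have i6 := h'.1
  have hb : ExcPts.IsBir π := K373.BirSeq.isBir_of_open π ⟨U, hU, h.2.2.2.2.2⟩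
  have hb' : ExcPts.IsBir π' := K373.BirSeq.isBir_of_open π' ⟨U, hU, h'.2.2.2.2.2⟩
  have hub : ExcPts.IsBir u := ExcPts.isBir_of_comp u π (by rw [hu]; exact hb') hb
  exact (ConcreteCategory.isIso_iff_bijective _).1
    (K480.Rigid.isIso_app_of_isBir (fun q => hg.isSurf.normal q) u hub V)

theorem exists_of_local (hdim : topologicalKrullDim X = 2) (hnorm : Pi1.IsNormalScheme X)
    (U : X.Opens) (hU : ∀ x : X, x ∈ U ↔ IsRegularLocalRing (X.presheaf.stalk x))
    (hloc : ∀ x : X, x ∉ U → ∃ (S : Scheme.{u}) (π : S ⟶ X), IsRes k U π ∧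
        ∃ V : X.Opens, x ∈ V ∧ IsAffineOpen V ∧ (∀ y : X, y ∈ V → y ≠ x → y ∈ U) ∧
          ∀ V' : X.Opens, V' ≤ V →
            Subsingleton (((Coh.RpushAb π 1).obj (Coh.toAb (Coh.structureModule S))).obj.obj (Opposite.op V'))) :
    ∃ (S : Scheme.{u}) (π : S ⟶ X), IsRes k U π ∧
      IsZero ((Coh.RpushAb π 1).obj (Coh.toAb (Coh.structureModule S))) := by
  have hUne := nonempty_reg k hnorm U hU
  obtain ⟨S, π, h, hmin⟩ : ∃ (S : Scheme.{u}) (π : S ⟶ X), IsRes k U π ∧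
        ∀ (S' : Scheme.{u}) (π' : S' ⟶ X), IsRes k U π' → ∃! u : S' ⟶ S, u ≫ π = π' := by
    by_cases hex : ∃ x : X, x ∉ U
    · obtain ⟨x, hx⟩ := hex
      obtain ⟨S₀, π₀, h₀, -⟩ := hloc x hx
      exact exists_minimal hUne _ h₀ rfl
    · push Not at hex
      exact exists_minimal hUne _ (isRes_id hdim U fun x => (hU x).1 (hex x)) rfl
  have i1 := h.1
  refine ⟨S, π, h, isZero_RpushAb_of_cover π _ (Fdesc.StructMod.isQCoh_structureModule S) 1 fun x => ?_⟩
  by_cases hx : x ∈ U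
  · obtain ⟨V, hV, hxV, hVU⟩ := exists_isAffineOpen_mem_and_subset (U := U) (x := x) hx
    have h1 : IsIso (π ∣_ U) := h.2.2.2.2.2
    have h2 : IsIso (π ∣_ V) := isIso_restrict_of_le π hVU
    have h3 : IsAffine V := hV
    have h4 : IsAffineOpen (π ⁻¹ᵁ V) := IsAffine.of_isIso (π ∣_ V)
    exact ⟨V, hxV, hV, subsingleton_affine h4⟩
  · obtain ⟨S', π', h', V, hxV, hV, -, hsub⟩ := hloc x hx
    obtain ⟨u, hu, -⟩ := hmin S' π' h'
    have i2 := h'.1
    obtain ⟨e⟩ := nonempty_equiv π' V hV _ (Fdesc.StructMod.isQCoh_structureModule S') 1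
    have h5 := hsub V le_rfl
    exact ⟨V, hxV, hV, subsingleton_desc (X ↘ (Spec (CommRingCat.of k))) π π' u hu
      (bijective_app_of_res hUne h h' u hu) V e.subsingleton⟩

theorem local_of_exists (hdim : topologicalKrullDim X = 2) (hnorm : Pi1.IsNormalScheme X)
    (U : X.Opens) (hU : ∀ x : X, x ∈ U ↔ IsRegularLocalRing (X.presheaf.stalk x))
    {S : Scheme.{u}} {π : S ⟶ X} (h : IsRes k U π)
    (h0 : IsZero ((Coh.RpushAb π 1).obj (Coh.toAb (Coh.structureModule S)))) (x : X) (hx : x ∉ U) :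
    ∃ (S : Scheme.{u}) (π : S ⟶ X), IsRes k U π ∧
        ∃ V : X.Opens, x ∈ V ∧ IsAffineOpen V ∧ (∀ y : X, y ∈ V → y ≠ x → y ∈ U) ∧
          ∀ V' : X.Opens, V' ≤ V →
            Subsingleton (((Coh.RpushAb π 1).obj (Coh.toAb (Coh.structureModule S))).obj.obj (Opposite.op V')) := by
  obtain ⟨hfin, hcl⟩ := finite_sing k hdim hnorm U hU
  have h1 : IsClosed ((U : Set X)ᶜ \ {x}) := by
    rw [← Set.biUnion_of_singleton ((U : Set X)ᶜ \ {x})]
    exact (hfin.subset Set.diff_subset).isClosed_biUnion fun y hy => hcl y hy.1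
  obtain ⟨V, hV, hxV, hVU⟩ := exists_isAffineOpen_mem_and_subset (U := (⟨_, h1.isOpen_compl⟩ : X.Opens)) (x := x)
    (fun h2 => h2.2 rfl)
  refine ⟨S, π, h, V, hxV, hV, fun y hy hne => ?_, fun V' _ => ?_⟩
  · by_contra hyU
    exact hVU hy ⟨hyU, hne⟩
  · have h3 : IsZero (((Coh.RpushAb π 1).obj (Coh.toAb (Coh.structureModule S))).obj.obj (Opposite.op V')) := by
      have h4 : IsZero ((sheafToPresheaf _ _).obj ((Coh.RpushAb π 1).obj (Coh.toAb (Coh.structureModule S)))) :=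
        Functor.map_isZero _ h0
      exact h4.obj _
    exact AddCommGrpCat.subsingleton_of_isZero h3

end

end K455.RatSing
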