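import Groth.Agent.Surf.K455.GenTwoFinal
import Groth.Agent.Models.H55.Recog

/-!
# Smooth families of curves of genus two over a curve of genus zero are products (K455)
-/

set_option autoImplicit false
universe u
open CategoryTheory CategoryTheory.Limits AlgebraicGeometry TopologicalSpace Opposite

namespace K455.GenTwo

open Groth.Agent K464.PtCurve K464.FibCurve K464.DegCurve K464.Curves K464.Base Groth.Agent.Grpsch.PicGrp
  K443.P1V K443.P1Push

/-- A smooth proper curve of genus zero is the projective line. -/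
theorem exists_iso_P1 (k : Type u) [Field k] [IsAlgClosed k]
    (C : Scheme.{u}) [C.Over (Spec (CommRingCat.of k))] [IsProper (C ↘ (Spec (CommRingCat.of k)))]
    [Smooth (C ↘ (Spec (CommRingCat.of k)))] [IsIntegral C] (hdimC : topologicalKrullDim C = 1)
    (hC0 : Curv2.genus k C = 0) :
    ∃ e : C ≅ CohB1.ProjSpace 1 k, e.hom ≫ CohB1.ProjSpace.toSpec 1 k = C ↘ Spec (CommRingCat.of k) := by
  have hN : IsNoetherian C := CurvesB.CurveRR.isNoetherian_of_proper k C
  obtain ⟨c, -, hcc⟩ := (isClosed_univ (X := C)).exists_closed_singleton Set.univ_nonempty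
  have hE := isEff_pt k (C ↘ Spec (CommRingCat.of k)) hdimC (fun z => S1535.result k C z) hcc
  obtain ⟨L, hL, hLe⟩ := exists_mk (ic (pt hcc) hE)⁻¹
  refine Models.H55.Recog.exists_iso_of_deg_one k C hdimC (VarietyA.CurveFin.finrank_h0_structure k C) hC0 L hL ?_
  rw [← degC_mk k C hL, ← hLe, degC_inv k C hdimC, degC_pt k hdimC hcc]
  norm_num

theorem main_triv (k : Type u) [Field k] [IsAlgClosed k]
    (C : Scheme.{u}) [C.Over (Spec (CommRingCat.of k))] [IsProper (C ↘ (Spec (CommRingCat.of k)))]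
    [Smooth (C ↘ (Spec (CommRingCat.of k)))] [IsIntegral C] (hdimC : topologicalKrullDim C = 1)
    (hC0 : Curv2.genus k C = 0)
    (X : Scheme.{u}) [X.Over (Spec (CommRingCat.of k))] (f : X ⟶ C)
    (hf : f ≫ (C ↘ Spec (CommRingCat.of k)) = X ↘ Spec (CommRingCat.of k)) [IsProper f] [Smooth f]
    (hfib : ∀ c : C, ConnectedSpace ↥(f.fiber c) ∧ topologicalKrullDim ↥(f.fiber c) = 1)
    (hgen : ∀ c : C, IsClosed ({c} : Set C) → Curv2.euler k X (ClSub.quotMod (f.fiberι c).ker) = -1)
    (hN : ∀ [IsIntegral X] [IsProper (X ↘ Spec (CommRingCat.of k))]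
      [SmoothOfRelativeDimension 2 (X ↘ Spec (CommRingCat.of k))] (_ : ∃ H : X.Modules, CohB1.IsAmple H)
      (WX : X.Modules) (_ : ExtPow.IsExtPow 2 (Omega.sheaf (X ↘ Spec (CommRingCat.of k))) WX)
      (hWi : PicF.IsInvertible WX), 12 * Curv2.euler k X (Coh.structureModule X) = dot k X (mk WX hWi) (mk WX hWi) +
      (Curv2.euler k X (Coh.structureModule X) - Curv2.euler k X (Omega.sheaf (X ↘ Spec (CommRingCat.of k))) +
        Curv2.euler k X WX)) :
    ∃ (F : Scheme.{u}) (q : F ⟶ (Spec (CommRingCat.of k))) (e : X ≅ pullback q (C ↘ (Spec (CommRingCat.of k)))),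
      e.hom ≫ pullback.snd q (C ↘ (Spec (CommRingCat.of k))) = f := by
  have iP := isProper_P1 k
  have hNC : IsNoetherian C := CurvesB.CurveRR.isNoetherian_of_proper k C
  have i1 := isProper_X f hf
  have i2 := smooth_X f hf
  have i3 := isIntegral_X f hf hfib
  have hdim := dim_X f hf hfib hdimC
  have i7 : SmoothOfRelativeDimension 2 (X ↘ Spec (CommRingCat.of k)) :=
    Picfga.CurveRelDim.smoothOfRelativeDimension_of_topologicalKrullDim_eq k X _ 2 hdim
  obtain ⟨c, -, hcc⟩ := (isClosed_univ (X := C)).exists_closed_singleton Set.univ_nonempty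
  have hc := isCurve_f f hf hfib hdimC hcc (hgen c hcc)
  obtain ⟨α, hα⟩ := exists_iso_P1 k C hdimC hC0
  have hf₁ : (f ≫ α.hom) ≫ (CohB1.ProjSpace 1 k ↘ Spec (CommRingCat.of k)) = X ↘ Spec (CommRingCat.of k) := by
    have h1 : α.hom ≫ (CohB1.ProjSpace 1 k ↘ Spec (CommRingCat.of k)) = C ↘ Spec (CommRingCat.of k) := hα
    rw [Category.assoc, h1, hf]
  have hc₁ : K333.Fam.IsCurve (f ≫ α.hom) 2 :=
    hc.baseChange (v := 𝟙 X) (w := α.inv) (IsPullback.of_horiz_isIso ⟨by simp⟩)
  obtain ⟨Z, oZ, r, hr, hiso⟩ := main_P1 k hdim (f ≫ α.hom) hf₁ hc₁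
    (fun WX hWX hWi => hN (K456.AmpleEx.exists_ample k X hdim) WX hWX hWi)
  have h2 : pullback.lift r f (hr.trans hf.symm) = pullback.lift r (f ≫ α.hom) (hr.trans hf₁.symm) ≫
      pullback.map (Z ↘ Spec (CommRingCat.of k)) (CohB1.ProjSpace 1 k ↘ Spec (CommRingCat.of k))
        (Z ↘ Spec (CommRingCat.of k)) (C ↘ Spec (CommRingCat.of k)) (𝟙 Z) α.inv (𝟙 _) (by simp) (by
          rw [Category.comp_id, Iso.eq_inv_comp]; exact hα) := by
    apply pullback.hom_ext
    · rw [Category.assoc, pullback.map, pullback.lift_fst, pullback.lift_fst, pullback.lift_fst_assoc,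
        Category.comp_id]
    · rw [Category.assoc, pullback.map, pullback.lift_snd, pullback.lift_snd, pullback.lift_snd_assoc,
        Category.assoc, Iso.hom_inv_id, Category.comp_id]
  have h3 : IsIso (pullback.lift r f (hr.trans hf.symm) :
      X ⟶ pullback (Z ↘ Spec (CommRingCat.of k)) (C ↘ Spec (CommRingCat.of k))) := by
    rw [h2]; infer_instance
  exact ⟨Z, Z ↘ Spec (CommRingCat.of k), asIso (pullback.lift r f (hr.trans hf.symm)), by
    rw [asIso_hom, pullback.lift_snd]⟩

end K455.GenTwo
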