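import Groth.Agent.Surf.K455.SeqFactor
import Groth.Agent.Surf.K456.AmpleEx
import Groth.Agent.S7315

/-!
# Contractions of exceptional curves on smooth proper surfaces
-/

set_option autoImplicit false
universe u
open CategoryTheory CategoryTheory.Limits AlgebraicGeometry TopologicalSpace

namespace K455.Srf

open Groth.Agent Groth.Agent.Dix Groth.Agent.Dix.ExcPts Groth.Agent.Dix.PointIdeal Groth.Agent.Grpsch.PicGrp

theorem isIso_unitToPush_iff {X Y : Scheme.{u}} (f : X ⟶ Y) :
    IsIso (ClSub.unitToPush f) ↔ ∀ U : Y.Opens, Function.Bijective (f.app U).hom := by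
  rw [Scheme.Modules.Hom.isIso_iff_isIso_app]
  refine forall_congr' fun U => ?_
  rw [ConcreteCategory.isIso_iff_bijective]
  exact Iff.rfl

variable {k : Type u} [Field k]

/-- The target of a contraction is good. -/
theorem Good.of_contraction [PerfectField k] {E S S₁ : Scheme.{u}} {t : S ⟶ Spec (CommRingCat.of k)} (h : Good t)
    (ι : E ⟶ S) (c : S ⟶ S₁) (hc : Models.IsContractionOf ι c) (g : S₁ ⟶ Spec (CommRingCat.of k))
    [IsProper g] : Good g := by
  obtain ⟨hN, hp, y, hy, hrange, hreg, hdim, hbl⟩ := hc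
  have := h.integral
  have hex : ∃ x, c x = y := by
    have : y ∈ Set.range ((ι ≫ c).base : E → S₁) := by rw [hrange]; rfl
    obtain ⟨e, he⟩ := this
    exact ⟨ι e, by rw [← Scheme.Hom.comp_apply]; exact he⟩
  have hsurj : Surjective c := Groth.Agent.Models.H69.Contr.surjective (hy := hy) hbl hex
  have hiso : IsIso (c ∣_ (⟨{y}ᶜ, hy.isOpen_compl⟩ : S₁.Opens)) := Groth.Agent.Models.H69.Contr.isIso_compl y hy hbl
  have hreg' : ∀ z : S₁, IsRegularLocalRing (S₁.presheaf.stalk z) := by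
    intro z
    by_cases hz : z = y
    · rw [hz]; exact hreg
    · obtain ⟨w, rfl⟩ := c.surjective z
      have h1 : IsIso (c.stalkMap w) := Dix.BirIso.isIso_stalkMap c _ hiso w hz
      have := h.regular w
      exact IsRegularLocalRing.of_ringEquiv (asIso (c.stalkMap w)).commRingCatIsoToRingEquiv.symm
  have hconn : ConnectedSpace S₁ := c.surjective.connectedSpace c.continuous
  refine ⟨inferInstance, RelDim.smooth_of_regular k g hreg', RelDim.isIntegral_of_regular hreg', ?_⟩
  rw [Dix.ContractSurf.topologicalKrullDim_eq S₁]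
  apply le_antisymm
  · refine iSup_le fun z => ?_
    by_cases hz : z = y
    · rw [hz, hdim]
    · obtain ⟨w, rfl⟩ := c.surjective z
      rw [Dix.ContractSurf.ringKrullDim_stalk_eq c (⟨{y}ᶜ, hy.isOpen_compl⟩ : S₁.Opens) w hz, ← h.dim,
        Dix.ContractSurf.topologicalKrullDim_eq S]
      exact le_iSup (fun z : S => ringKrullDim (S.presheaf.stalk z)) w
  · rw [← hdim]
    exact le_iSup (fun z : S₁ => ringKrullDim (S₁.presheaf.stalk z)) y

/-- **Castelnuovo**: exceptional curves of the first kind on smooth proper surfaces can be contracted. -/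
theorem Good.exists_contraction [PerfectField k] {E S : Scheme.{u}} {t : S ⟶ Spec (CommRingCat.of k)} (h : Good t)
    (ι : E ⟶ S) [IsClosedImmersion ι] (hE : Models.IsExcCurve ι) :
    ∃ (S₁ : Scheme.{u}) (c : S ⟶ S₁) (g : S₁ ⟶ Spec (CommRingCat.of k)), Models.IsContractionOf ι c ∧ c ≫ g = t ∧
      Good g := by
  letI : S.Over (Spec (CommRingCat.of k)) := ⟨t⟩
  have i1 : IsProper (S ↘ Spec (CommRingCat.of k)) := h.proper
  have i2 := h.proper
  have i3 := h.integral
  obtain ⟨L, hL⟩ := K456.AmpleEx.exists_ample_of_regular k S h.dim h.regular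
  have hI : PicF.IsInvertible (ClSub.idealMod ι.ker) := Dix.IdealModCartier.isInvertible_idealMod hE.1
  obtain ⟨M, hM, ⟨e⟩⟩ := exists_inverse hI
  obtain ⟨S₁, c, g, hc, hcg, hg, -⟩ := S7315.result k t L hL ι hE M ⟨Ega2.Tens.swap _ _ ≪≫ e⟩
  exact ⟨S₁, c, g, hc, hcg, h.of_contraction ι c hc g⟩

/-- Contractions over `k` of good surfaces are good. -/
theorem Good.of_contraction' [PerfectField k] {E S S₁ : Scheme.{u}} {g : S₁ ⟶ Spec (CommRingCat.of k)}
    (ι : E ⟶ S) [IsClosedImmersion ι] (hE : Models.IsExcCurve ι) (c : S ⟶ S₁) (hc : Models.IsContractionOf ι c)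
    (h : Good (c ≫ g)) : Good g := by
  obtain ⟨S₂, c₂, g₂, hc₂, hcg₂, hg₂⟩ := h.exists_contraction ι hE
  obtain ⟨hN, hp, y, hy, hrange, -⟩ := id hc
  obtain ⟨hN', hp', y', hy', hrange', -⟩ := id hc₂
  have hcon : ∀ e e' : E, c (ι e) = c (ι e') := fun e e' => by
    have h1 : (ι ≫ c) e ∈ Set.range ((ι ≫ c).base) := ⟨e, rfl⟩
    have h2 : (ι ≫ c) e' ∈ Set.range ((ι ≫ c).base) := ⟨e', rfl⟩
    rw [hrange] at h1 h2
    exact h1.trans h2.symm
  have hcon' : ∀ e e' : E, c₂ (ι e) = c₂ (ι e') := fun e e' => by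
    have h1 : (ι ≫ c₂) e ∈ Set.range ((ι ≫ c₂).base) := ⟨e, rfl⟩
    have h2 : (ι ≫ c₂) e' ∈ Set.range ((ι ≫ c₂).base) := ⟨e', rfl⟩
    rw [hrange'] at h1 h2
    exact h1.trans h2.symm
  obtain ⟨a, ha, -⟩ := K372.Contr.existsUnique_desc ι hE c₂ hc₂ c hcon
  obtain ⟨b, hb, -⟩ := K372.Contr.existsUnique_desc ι hE c hc c₂ hcon'
  have ha : c₂ ≫ a = c := ha
  have hb : c ≫ b = c₂ := hb
  have uniq : ∀ {T : Scheme.{u}} (p q : S₁ ⟶ T), c ≫ p = c ≫ q → p = q := by
    intro T p q hpq
    obtain ⟨r, -, hr⟩ := K372.Contr.existsUnique_desc ι hE c hc (c ≫ p) (fun e e' => by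
      rw [Scheme.Hom.comp_apply, Scheme.Hom.comp_apply, hcon e e'])
    rw [hr p rfl, hr q hpq.symm]
  have uniq' : ∀ {T : Scheme.{u}} (p q : S₂ ⟶ T), c₂ ≫ p = c₂ ≫ q → p = q := by
    intro T p q hpq
    obtain ⟨r, -, hr⟩ := K372.Contr.existsUnique_desc ι hE c₂ hc₂ (c₂ ≫ p) (fun e e' => by
      rw [Scheme.Hom.comp_apply, Scheme.Hom.comp_apply, hcon' e e'])
    rw [hr p rfl, hr q hpq.symm]
  have hba : b ≫ a = 𝟙 _ := uniq _ _ (by rw [← Category.assoc, hb, ha, Category.comp_id])
  have hab : a ≫ b = 𝟙 _ := uniq' _ _ (by rw [← Category.assoc, ha, hb, Category.comp_id])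
  have hbg : b ≫ g₂ = g := uniq _ _ (by rw [← Category.assoc, hb, hcg₂])
  have hbi : IsIso b := ⟨a, hba, hab⟩
  have hg : IsProper g := by
    have := hg₂.proper
    rw [← hbg]
    infer_instance
  exact h.of_contraction ι c hc g

/-- Contraction sequences over `k` with good source have good target. -/
theorem Good.target_of_seq [PerfectField k] {Y Z : Scheme.{u}} {f : Y ⟶ Z} (hf : Models.IsContractionSeq f) :
    ∀ {s : Z ⟶ Spec (CommRingCat.of k)}, Good (f ≫ s) → Good s := by
  induction hf with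
  | iso e =>
    intro s h
    have h1 := (Good.of_seq (Models.IsContractionSeq.iso e.symm) h).1
    rwa [Iso.symm_hom, Iso.inv_hom_id_assoc] at h1
  | step ι b r hι hE hb hr ih =>
    intro s h
    rw [Category.assoc] at h
    exact ih (h.of_contraction' ι hE b hb)

end K455.Srf
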