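import Groth.Agent.Surf.K455.SeqCanon
import Groth.Agent.Variety.K432.NefBasic
import Groth.Agent.Dix.EtMinF

/-!
# The exceptional curve of a blow-up is contracted by maps to a surface on which `K` is nonnegative on its image

* `degOn_pull_nonneg`;
* `contracts`.
-/

set_option autoImplicit false
universe u
open CategoryTheory CategoryTheory.Limits AlgebraicGeometry TopologicalSpace

namespace K455.Srf

open Groth.Agent Groth.Agent.Dix Groth.Agent.Dix.ExcPts Groth.Agent.Dix.PointIdeal Groth.Agent.Grpsch.PicGrp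
  Groth.Agent.Fga.PicMon Groth.Agent.Dix.IdealModCartier Groth.Agent.Divis.EffCartier K464.Base K464.DegCurve
  K464.Curves K432.CurveLift K432.CurveNorm K432.CurveDeg K432.NefBasic Groth.Agent.CycB

variable (k : Type u) [Field k]

/-- The degree of a pull back to a curve is nonnegative if it is so on the image. -/
theorem degOn_pull_nonneg {Y S : Scheme.{u}} [Y.Over (Spec (CommRingCat.of k))] [S.Over (Spec (CommRingCat.of k))]
    [IsProper (Y ↘ Spec (CommRingCat.of k))] [IsProper (S ↘ Spec (CommRingCat.of k))] (φ : Y ⟶ S)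
    (hφ : φ ≫ (S ↘ Spec (CommRingCat.of k)) = Y ↘ Spec (CommRingCat.of k))
    {C : Y.IdealSheafData} (hC : IsCurve C) (a : Pic S)
    (h : ∀ D : S.IdealSheafData, IsCurve D → (D.support : Set S) ⊆ φ '' (C.support : Set Y) → 0 ≤ degOn k S D a) :
    0 ≤ degOn k Y C (pull φ a) := by
  obtain ⟨L, hL, rfl⟩ := exists_mk a
  have := hC.integral
  let f : C.subscheme ⟶ S := C.subschemeι ≫ φ
  let p := S ↘ Spec (CommRingCat.of k)
  have hp : IsProper p := inferInstance
  have hfp : f ≫ p = C.subschemeι ≫ (Y ↘ Spec (CommRingCat.of k)) := by rw [Category.assoc, hφ]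
  have hCd : topologicalKrullDim C.subscheme = 1 := (dim_sub Y C).trans hC.dim
  have hfpp : IsProper (f ≫ p) := by rw [hfp]; infer_instance
  have key : degOn k Y C (pull φ (mk L hL)) = dg (f ≫ p) ((Scheme.Modules.pullback f).obj L) := by
    rw [pull_mk, degOn_eq_deg, dg_congr _ ((Scheme.Modules.pullbackComp C.subschemeι φ).symm.app L), hfp]
    rfl
  rw [key]
  obtain ⟨g, hg, hdom⟩ := exists_factor f
  have hCr : RelDim.rtd (f ≫ p) (genericPoint C.subscheme) = (1 : ℕ) :=
    (dim_eq_iff (f ≫ p) 1).mp (by rw [hCd]; rfl)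
  obtain ⟨n, hn, hn'⟩ := exists_dim_closure p (f (genericPoint C.subscheme))
  have hn1 : n ≤ 1 := by
    rw [RelDim.rtd_comp, hn] at hCr
    have : (n : Cardinal.{u}) ≤ (1 : ℕ) := by rw [← hCr]; exact le_self_add
    exact_mod_cast this
  have hprop : IsProper g := by
    have : IsProper (g ≫ ((ptIdeal (f (genericPoint C.subscheme))).subschemeι ≫ p)) := by
      rw [← Category.assoc, hg]; infer_instance
    exact IsProper.of_comp g ((ptIdeal (f (genericPoint C.subscheme))).subschemeι ≫ p)
  rcases Nat.le_one_iff_eq_zero_or_eq_one.mp hn1 with h0 | h1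
  · have hconst : ∀ x, f x = f (genericPoint C.subscheme) := by
      intro x
      by_contra hne
      have h2 : f (genericPoint C.subscheme) ⤳ f x := (genericPoint_specializes x).map f.continuous
      have h3 := RelDim.rtd_lt_of_specializes p h2 (Ne.symm hne) (Subsingleton.elim _ _)
      rw [hn, h0] at h3
      exact absurd h3 (by simp)
    rw [dg_pullback_const (f ≫ p) f _ hconst L hL]
  · have hdimI : topologicalKrullDim (ptIdeal (f (genericPoint C.subscheme))).subscheme = 1 := by
      rw [topologicalKrullDim_subscheme, support_ptIdeal, hn', h1]; rfl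
    obtain ⟨m, hm, hmL⟩ := exists_dg_pullback_dominant
      ((ptIdeal (f (genericPoint C.subscheme))).subschemeι ≫ p) g hCd hdimI
    have h4 := hmL _ (Fdesc.LocGen.isInvertible_pullback (ptIdeal (f (genericPoint C.subscheme))).subschemeι hL)
    have e1 : (Scheme.Modules.pullback g).obj
        ((Scheme.Modules.pullback (ptIdeal (f (genericPoint C.subscheme))).subschemeι).obj L) ≅
        (Scheme.Modules.pullback f).obj L :=
      (Scheme.Modules.pullbackComp g _).app L ≪≫ (Scheme.Modules.pullbackCongr hg).app L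
    have e2 : g ≫ (ptIdeal (f (genericPoint C.subscheme))).subschemeι ≫ p = f ≫ p := by
      rw [← Category.assoc, hg]
    rw [dg_congr _ e1, e2] at h4
    rw [h4]
    have hD : IsCurve (ptIdeal (f (genericPoint C.subscheme))) :=
      ⟨isIntegral_ptIdeal _, by rw [← topologicalKrullDim_subscheme, hdimI]⟩
    have h5 := h _ hD (by
      rw [support_ptIdeal]
      have h6 : IsClosed (φ '' (C.support : Set Y)) := by
        have : IsProper φ := by
          have : IsProper (φ ≫ (S ↘ Spec (CommRingCat.of k))) := by rw [hφ]; infer_instance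
          exact IsProper.of_comp φ (S ↘ Spec (CommRingCat.of k))
        exact φ.isClosedMap _ C.support.isClosed
      refine closure_minimal ?_ h6
      rintro _ rfl
      refine ⟨C.subschemeι (genericPoint C.subscheme), ?_, (Scheme.Hom.comp_apply _ _ _).symm⟩
      rw [← C.range_subschemeι]
      exact ⟨_, rfl⟩)
    rw [degOn_eq_deg] at h5
    exact mul_nonneg hm.le h5

section contracts

variable {k}
variable {Z W : Scheme.{u}} {s : Z ⟶ Spec (CommRingCat.of k)} (b : W ⟶ Z) (x : Z) (hx : IsClosed ({x} : Set Z))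
  (hb : BlowUp.IsBlowUp b (pt x hx))

include hb in
/-- The exceptional curve is a curve. -/
theorem isCurve_exc [IsLocallyNoetherian Z] [IsRegularLocalRing (Z.presheaf.stalk x)]
    (hdim : ringKrullDim (Z.presheaf.stalk x) = 2) : IsCurve ((pt x hx).comap b) := by
  refine ⟨BlowCanon.isIntegral_exc b x hx hdim hb, ?_⟩
  rw [← dim_sub]
  obtain ⟨i, hi, hker, -⟩ := ExcCurve.exists_curve b x hx hdim hb
  have h1 : i.ker = ((pt x hx).comap b).subschemeι.ker := by rw [Scheme.IdealSheafData.ker_subschemeι, hker]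
  have h2 := IsClosedImmersion.isIso_lift ((pt x hx).comap b).subschemeι i h1.symm
  have h3 := (IsClosedImmersion.lift ((pt x hx).comap b).subschemeι i
    h1.symm.le).homeomorph.isHomeomorph.topologicalKrullDim_eq
  letI : Field (Z.presheaf.stalk x ⧸ IsLocalRing.maximalIdeal (Z.presheaf.stalk x)) := Ideal.Quotient.field _
  rw [← h3]
  exact Dix.EtMinF.topologicalKrullDim_P1 _

theorem support_exc : (((pt x hx).comap b).support : Set W) = b ⁻¹' {x} := by
  rw [Scheme.IdealSheafData.support_comap]
  ext w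
  exact mem_support_pt x hx (b w)

include hb in
/-- `K · E = -1`. -/
theorem degOn_exc [IsAlgClosed k] (h : Good s) (hdim : ringKrullDim (Z.presheaf.stalk x) = 2)
    {K' : W.Modules} (hK' : ExtPow.IsExtPow 2 (Omega.sheaf (b ≫ s)) K') (hKi' : PicF.IsInvertible K') :
    letI : W.Over (Spec (CommRingCat.of k)) := ⟨b ≫ s⟩
    degOn k W ((pt x hx).comap b) (mk K' hKi') = -1 := by
  have hW := (h.blowUp b x hx hdim hb).1
  letI : Z.Over (Spec (CommRingCat.of k)) := ⟨s⟩
  letI : W.Over (Spec (CommRingCat.of k)) := ⟨b ≫ s⟩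
  have := h.proper
  have := h.integral
  have := h.noeth
  have := h.relDim
  have := h.regular x
  have i1 : IsProper (Z ↘ Spec (CommRingCat.of k)) := h.proper
  have i2 : IsProper (W ↘ Spec (CommRingCat.of k)) := hW.proper
  have i4 : SmoothOfRelativeDimension 2 (W ↘ Spec (CommRingCat.of k)) := hW.relDim
  have hW2 : topologicalKrullDim W ≤ (2 : ℕ) := by rw [hW.dim]; rfl
  have h1 := BlowCanon.intNum_exc_canonical k b rfl x hx hdim hb hW2 hK'
  have h2 : @Module.finrank k (Z.residueField x) _ _ (Curv2.resAlgebra k Z x).toModule = 1 :=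
    ResOne.finrank_residueField k Z hx
  have h3 := intNum_idealMod_mk k W hW2 ((pt x hx).comap b) hKi'
  change _ = ((@Module.finrank k (Z.residueField x) _ _ (Curv2.resAlgebra k Z x).toModule : ℕ) : ℤ) at h1
  rw [h2, h3] at h1
  push_cast at h1
  linarith

include hb in
/-- **The exceptional curve is contracted.** -/
theorem contracts [IsAlgClosed k] (h : Good s) (hdim : ringKrullDim (Z.presheaf.stalk x) = 2)
    {S : Scheme.{u}} (φ : W ⟶ S) (hφ : Models.IsContractionSeq φ) {t : S ⟶ Spec (CommRingCat.of k)} (ht : Good t)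
    (hover : φ ≫ t = b ≫ s) {K : S.Modules} (hK : ExtPow.IsExtPow 2 (Omega.sheaf t) K) (hKi : PicF.IsInvertible K)
    (hnef : letI : S.Over (Spec (CommRingCat.of k)) := ⟨t⟩
      ∀ D : S.IdealSheafData, IsCurve D → (D.support : Set S) ⊆ φ '' (b ⁻¹' {x}) → 0 ≤ degOn k S D (mk K hKi)) :
    (φ '' (b ⁻¹' {x})).Subsingleton := by
  have hW := (h.blowUp b x hx hdim hb).1
  have := h.noeth
  have := h.regular x
  have hE := isCurve_exc b x hx hb hdim
  have := hW.relDim
  have := hW.proper
  obtain ⟨K', hK', hKi'⟩ := Canon.exists_canonical (b ≫ s) 2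
  have hK2 : ExtPow.IsExtPow 2 (Omega.sheaf (φ ≫ t)) K' := by rw [hover]; exact hK'
  obtain ⟨R, hR, hmk, hfin⟩ := exists_disc hφ ht hK hKi hK2 hKi'
  letI : W.Over (Spec (CommRingCat.of k)) := ⟨b ≫ s⟩
  letI : S.Over (Spec (CommRingCat.of k)) := ⟨t⟩
  have i2 : IsProper (W ↘ Spec (CommRingCat.of k)) := hW.proper
  have i3 : IsProper (S ↘ Spec (CommRingCat.of k)) := ht.proper
  have h1 := degOn_exc b x hx hb h hdim hK' hKi'
  have h2 := degOn_pull_nonneg k φ hover hE (mk K hKi) (fun D hD hsub => hnef D hD (by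
    rw [support_exc] at hsub; exact hsub))
  rw [← hmk, degOn_mul k hE, h1] at h2
  have h3 : gp hE ∈ R.support := by
    by_contra hcon
    have h4 := degOn_ic_nonpos k hE hR hcon
    linarith
  have h4 : ((pt x hx).comap b).support ≤ R.support := by
    intro y hy
    have h5 : (((pt x hx).comap b).support : Set W) ⊆ R.support := (support_subset_iff hE R).2 h3
    exact h5 hy
  have h5 : (φ '' (b ⁻¹' {x})).Finite := hfin.subset (Set.image_mono (by
    rw [← support_exc b x hx]; exact h4))
  have h6 : IsClosed (φ '' (b ⁻¹' {x})) := by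
    have : IsProper φ := by
      have : IsProper (φ ≫ t) := by rw [hover]; infer_instance
      have := ht.proper
      exact IsProper.of_comp φ t
    rw [← support_exc b x hx]
    exact φ.isClosedMap _ ((pt x hx).comap b).support.isClosed
  have : JacobsonSpace S := by
    have := ht.proper
    exact LocallyOfFiniteType.jacobsonSpace t
  have h7 : ∀ y ∈ φ '' (b ⁻¹' {x}), IsClosed ({y} : Set S) := fun y hy =>
    CMCut.isClosed_of_finite h6 h5 hy
  have h8 : ∀ y ∈ φ '' (b ⁻¹' {x}), y = φ (gp hE) := by
    rintro _ ⟨w, hw, rfl⟩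
    have h9 : gp hE ⤳ w := by
      rw [specializes_iff_mem_closure, closure_gp hE, support_exc]
      exact hw
    have h10 := h7 (φ (gp hE)) ⟨gp hE, by
      rw [← support_exc b x hx]
      exact gp_mem hE, rfl⟩
    have h11 : φ (gp hE) ⤳ φ w := h9.map φ.continuous
    exact h11.mem_closed h10 rfl
  intro y hy y' hy'
  rw [h8 y hy, h8 y' hy']

end contracts

end K455.Srf
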