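import Groth.Agent.Surf.K455.Canon
import Groth.Agent.Dual.H328.ClopenGlue
import Groth.Agent.Krr.H482.PullFinal

/-!
# Canonical modules and open immersions
-/

set_option autoImplicit false
universe u
open CategoryTheory CategoryTheory.Limits AlgebraicGeometry TopologicalSpace

namespace K455.CanonOpen

open Groth.Agent

variable {X X' Y S : Scheme.{u}} (f : X ⟶ S) (f' : X' ⟶ S) [QuasiSeparated f] [QuasiSeparated f'] (n : ℕ)
  [SmoothOfRelativeDimension n f] [SmoothOfRelativeDimension n f'] (j : Y ⟶ X) (j' : Y ⟶ X') [IsOpenImmersion j]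
  [IsOpenImmersion j'] (h : j ≫ f = j' ≫ f')

include h in
/-- The canonical modules of two smooth schemes with a common open subscheme agree there. -/
theorem nonempty_iso {W : X.Modules} (hW : ExtPow.IsExtPow n (Omega.sheaf f) W) {W' : X'.Modules}
    (hW' : ExtPow.IsExtPow n (Omega.sheaf f') W') :
    Nonempty ((Scheme.Modules.pullback j').obj W' ≅ (Scheme.Modules.pullback j).obj W) := by
  have h1 := Ega2.QCohLocal.isFinLocFree_of_rank (Dual.H339.OmegaRank.isFinLocFreeOfRank_omega n f)
  have h2 := Ega2.QCohLocal.isFinLocFree_of_rank (Dual.H339.OmegaRank.isFinLocFreeOfRank_omega n f')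
  have e1 : (Scheme.Modules.pullback j).obj (Omega.sheaf f) ≅ Omega.sheaf (j ≫ f) :=
    Smoothlim.ConormalRes.omegaRestrictIso (f := f) (f' := j ≫ f) (j := j) (l := 𝟙 S) (by rw [Category.comp_id])
  have e2 : (Scheme.Modules.pullback j').obj (Omega.sheaf f') ≅ Omega.sheaf (j ≫ f) :=
    Smoothlim.ConormalRes.omegaRestrictIso (f := f') (f' := j ≫ f) (j := j') (l := 𝟙 S)
      (by rw [Category.comp_id, h])
  exact Dual.H375.ExtRestr.nonempty_iso (e2 ≪≫ e1.symm) (Krr.H482.PullFinal.isExtPow_pullback j' h2 hW')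
    (Krr.H482.PullFinal.isExtPow_pullback j h1 hW)

end K455.CanonOpen
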