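import Groth.Agent.S1364
import Groth.Agent.Ega43.GeomFibre
import Groth.Agent.Fdesc.GeomAlgClosed
import Groth.Agent.Curves.K333.OmegaZero
import Groth.Agent.Curves.K333.Stein
import Groth.Agent.Surf.K464.FibCurve
import Groth.Agent.Surf.K455.RelDim
import Groth.Agent.Variety.K658.RelDimComp
import Groth.Agent.Curves.K318.PtPow
import Groth.Agent.PerfB.StructFlat
import Groth.Agent.Picfga.CurveRelDim
import Groth.Agent.Surf.K456.FibDiv

/-!
# Smooth families of curves of genus two: set up (K455)

`f : X ⟶ C` smooth and proper over a proper curve over an algebraically closed field, all fibres connected of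
dimension one, `χ(O) = -1` on the closed fibres: `f` is geometrically connected, a `K333` curve of genus two,
`X` is an integral surface.
-/

set_option autoImplicit false
universe u
open CategoryTheory CategoryTheory.Limits AlgebraicGeometry TopologicalSpace

namespace K455.GenTwo

open Groth.Agent K333.Fam K464.PtCurve K464.FibCurve K464.Curves K464.Base

variable {k : Type u} [Field k] [IsAlgClosed k] {X C : Scheme.{u}}

theorem isAlgClosed_residueField (q : C ⟶ Spec (CommRingCat.of k)) [LocallyOfFiniteType q] (c : C)
    (hc : IsClosed ({c} : Set C)) : IsAlgClosed (C.residueField c) :=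
  IsAlgClosed.of_ringEquiv k (C.residueField c) (residueFieldIsoBase q c hc).symm.commRingCatIsoToRingEquiv

/-- A proper smooth morphism with connected fibres over a connected scheme of finite type over an algebraically closed
field is geometrically connected. -/
theorem geomConn (q : C ⟶ Spec (CommRingCat.of k)) [LocallyOfFiniteType q] [ConnectedSpace C]
    (f : X ⟶ C) [IsProper f] [Smooth f] (h : ∀ c : C, ConnectedSpace ↥(f.fiber c)) : GeometricallyConnected f := by
  have hJ : JacobsonSpace C := LocallyOfFiniteType.jacobsonSpace q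
  have hgr : GeometricallyReduced f := Flat2B.SmoothGeom.geometricallyReduced_of_smooth f
  have h1 := S1364.result f
  obtain ⟨c, -, hc⟩ := nonempty_inter_closedPoints (X := C) (Z := Set.univ) Set.univ_nonempty
    isOpen_univ.isLocallyClosed
  have hc : IsClosed ({c} : Set C) := hc
  have hA := isAlgClosed_residueField q c hc
  have hcs := h c
  have h2 : GeometricallyConnected (f.fiberToSpecResidueField c) :=
    Fdesc.GeomAlgClosed.geometricallyConnected_of_connectedSpace (k := (C.residueField c : Type u)) _
  have h3 := Ega43.GeomFibre.nGeomConnComp_eq_one f c h2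
  rw [GeometricallyConnected.iff_geometricallyConnected_fiber]
  intro s
  refine Ega43.GeomFibre.geometricallyConnected_of_nGeomConnComp f s ?_
  rw [← h3]
  exact h1.apply_eq_of_preconnectedSpace s c

theorem relDim_f (q : C ⟶ Spec (CommRingCat.of k)) [LocallyOfFiniteType q] [ConnectedSpace C]
    (f : X ⟶ C) [IsProper f] [Smooth f]
    (hfib : ∀ c : C, ConnectedSpace ↥(f.fiber c) ∧ topologicalKrullDim ↥(f.fiber c) = 1) :
    SmoothOfRelativeDimension 1 f := by
  have := geomConn q f fun c => (hfib c).1
  exact relDim_of_fibres f 1 (fun s => by rw [(hfib s).2]; rfl)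

section curve

variable [X.Over (Spec (CommRingCat.of k))] [C.Over (Spec (CommRingCat.of k))]
  [IsProper (C ↘ Spec (CommRingCat.of k))] [IsIntegral C] (f : X ⟶ C)
  (hf : f ≫ (C ↘ Spec (CommRingCat.of k)) = X ↘ Spec (CommRingCat.of k)) [IsProper f] [Smooth f]

include hf in
omit [IsAlgClosed k] [IsIntegral C] [Smooth f] in
theorem isProper_X : IsProper (X ↘ Spec (CommRingCat.of k)) := by
  rw [← hf]; infer_instance

include hf in
omit [IsAlgClosed k] [IsIntegral C] [IsProper f] [IsProper (C ↘ Spec (CommRingCat.of k))] in
theorem smooth_X [Smooth (C ↘ Spec (CommRingCat.of k))] : Smooth (X ↘ Spec (CommRingCat.of k)) := by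
  rw [← hf]; infer_instance

variable (hfib : ∀ c : C, ConnectedSpace ↥(f.fiber c) ∧ topologicalKrullDim ↥(f.fiber c) = 1)

variable [Smooth (C ↘ Spec (CommRingCat.of k))] (hdimC : topologicalKrullDim C = 1)

include hf hfib hdimC in
theorem relDim_X : SmoothOfRelativeDimension 2 (X ↘ Spec (CommRingCat.of k)) := by
  have h1 := relDim_f (C ↘ Spec (CommRingCat.of k)) f hfib
  have h2 : SmoothOfRelativeDimension 1 (C ↘ Spec (CommRingCat.of k)) :=
    Picfga.CurveRelDim.smoothOfRelativeDimension_of_topologicalKrullDim_eq k C _ 1 hdimC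
  have h3 : SmoothOfRelativeDimension (1 + 1) (f ≫ (C ↘ Spec (CommRingCat.of k))) := inferInstance
  rwa [hf] at h3

include hf hfib in
theorem isIntegral_X : IsIntegral X := by
  have := isProper_X f hf
  have := smooth_X f hf
  have := geomConn (C ↘ Spec (CommRingCat.of k)) f fun c => (hfib c).1
  have hN : IsNoetherian X := CurvesB.CurveRR.isNoetherian_of_proper k X
  have : ConnectedSpace X := GeometricallyConnected.connectedSpace (f := f) f.isOpenMap
  exact RelDim.isIntegral_of_regular (K456.FibDiv.isRegular_of_smooth (X ↘ Spec (CommRingCat.of k)))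

include hf hfib hdimC in
theorem dim_X : topologicalKrullDim X = 2 := by
  have := relDim_X f hf hfib hdimC
  have := isIntegral_X f hf hfib
  exact K658.RelDimComp.topologicalKrullDim_eq 2 (X ↘ Spec (CommRingCat.of k))

include hf hfib hdimC in
/-- The Euler characteristic of all fibres. -/
theorem eulerChar_eq {c : C} (hc : IsClosed ({c} : Set C)) {n : ℤ}
    (hgen : Curv2.euler k X (ClSub.quotMod (f.fiberι c).ker) = n) (s : C) :
    PerfAux.eulerChar f (Coh.structureModule X) s = n := by
  have := isProper_X f hf
  have hcl : IsClosedImmersion (C.fromSpecResidueField c) := (isClosed_singleton_iff_isClosedImmersion).1 hc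
  rw [K456.FibDiv.ker_fiberι, K318.PtPow.ker_fromSpecResidueField_eq hc, euler_quotMod_sub] at hgen
  have hd : topologicalKrullDim X ≤ (2 : ℕ) := (dim_X f hf hfib hdimC).le
  have h1 := euler_fibre k f hf hc Fdesc.LocGen.isInvertible_structureModule hd
  have h2 := PerfB.Semi.isLocallyConstant_euler f (Coh.structureModule X) (PerfB.StructFlat.isFP_structure)
      (PerfB.StructFlat.isFlatOver_structure f)
  let _ := overC k X ((pt hc).comap f)
  rw [h2.apply_eq_of_preconnectedSpace s (genericPoint C), ← h1, ← hgen]
  exact euler_congr k _ (CurvesA.HHMap.pullbackUnit ((pt hc).comap f).subschemeι)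

include hf hfib hdimC in
theorem isCurve_f {c : C} (hc : IsClosed ({c} : Set C))
    (hgen : Curv2.euler k X (ClSub.quotMod (f.fiberι c).ker) = -1) : IsCurve f 2 := by
  have h1 := relDim_f (C ↘ Spec (CommRingCat.of k)) f hfib
  have h2 := geomConn (C ↘ Spec (CommRingCat.of k)) f fun c => (hfib c).1
  refine ⟨inferInstance, h1, h2, fun s => ?_⟩
  have h3 := K333.OmegaZero.euler_eq f s
  rw [eulerChar_eq f hf hfib hdimC hc hgen] at h3
  have : (PerfAux.betti f (Coh.structureModule X) s 1 : ℤ) = 2 := by linarith
  exact_mod_cast this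

end curve

end K455.GenTwo
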