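import Groth.Agent.Surf.K464.FibCurve
import Groth.Agent.Variety.K432.CurveNorm
import Groth.Agent.AgPol.K814.CurveHom
import Groth.Agent.MorSch.K921.IsoLocus
import Groth.Agent.Surf.K456.FlatCurve
import Groth.Agent.S1340
import Groth.Agent.S1297
import Groth.Agent.Pi1.H419.SteinNormal
import Groth.Agent.Pi1.H386.NormalCurve
import Groth.Agent.EtpbcA.CharPDim
import Groth.Agent.Surf.K455.Down

/-!
# Curves: morphisms preserving degrees, Stein factorization, product decomposition (K455)

* `isIso_of_deg`: a morphism of proper integral curves (regular target) preserving degrees is an isomorphism.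
* `stein`: Stein factorization of a morphism from a normal scheme to a proper curve.
* `isIso_lift`: `(r, f) : X ⟶ Z × C` is an isomorphism if its restrictions to the closed fibres of `f` are.
-/

set_option autoImplicit false
universe u
open CategoryTheory CategoryTheory.Limits AlgebraicGeometry TopologicalSpace Opposite

namespace K455.GenTwo

open Groth.Agent K464.PtCurve K464.FibCurve K464.DegCurve K464.Curves K464.Base
  Groth.Agent.Grpsch.PicGrp

section deg

variable (k : Type u) [Field k] [IsAlgClosed k] {F Z : Scheme.{u}} [F.Over (Spec (CommRingCat.of k))]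
  [Z.Over (Spec (CommRingCat.of k))] [IsProper (F ↘ Spec (CommRingCat.of k))] [IsProper (Z ↘ Spec (CommRingCat.of k))]
  [IsIntegral Z]

include k in
omit [IsAlgClosed k] in
/-- There is a closed point different from a given point. -/
theorem exists_closed_ne (hZ : topologicalKrullDim Z = 1) (y : Z) : ∃ b : Z, IsClosed ({b} : Set Z) ∧ y ≠ b := by
  have hJ : JacobsonSpace Z := LocallyOfFiniteType.jacobsonSpace (Z ↘ Spec (CommRingCat.of k))
  have : IsNoetherian Z := CurvesB.CurveRR.isNoetherian_of_proper k Z
  by_cases hy : y = genericPoint Z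
  · obtain ⟨c, -, hcc⟩ := (isClosed_univ (X := Z)).exists_closed_singleton Set.univ_nonempty
    exact ⟨c, hcc, fun h => ne_generic hZ hcc (h.symm.trans hy)⟩
  · have hy' := isClosed_of_ne hZ hy
    obtain ⟨b, hb, hbc⟩ := nonempty_inter_closedPoints (X := Z) (Z := ({y} : Set _)ᶜ)
      ⟨genericPoint Z, fun h => hy h.symm⟩ hy'.isOpen_compl.isLocallyClosed
    exact ⟨b, hbc, fun h => hb h.symm⟩

/-- A morphism of proper integral curves which preserves degrees is an isomorphism. -/
theorem isIso_of_deg [IsIntegral F] (hF : topologicalKrullDim F = 1) (hZ : topologicalKrullDim Z = 1)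
    (hreg : ∀ z : Z, IsRegularLocalRing (Z.presheaf.stalk z)) (g : F ⟶ Z)
    (hg : g ≫ (Z ↘ Spec (CommRingCat.of k)) = F ↘ Spec (CommRingCat.of k))
    (h : ∀ A : Pic Z, degC k F (pull g A) = degC k Z A) : IsIso g := by
  have hN : IsNoetherian Z := CurvesB.CurveRR.isNoetherian_of_proper k Z
  have hp := K464.FibCurve.isProper k g hg
  have hlfp := K464.FibCurve.locallyOfFinitePresentation k g hg
  have hE : ∀ (b : Z) (hb : IsClosed ({b} : Set Z)), BlowUp.IsEffCartierIdeal (pt hb) := fun b hb =>
    isEff_pt k (Z ↘ Spec (CommRingCat.of k)) hZ hreg hb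
  have hdom : IsDominant g := by
    by_cases hz : g (genericPoint F) = genericPoint Z
    · refine ⟨?_⟩
      rw [DenseRange, dense_iff_closure_eq, Set.eq_univ_iff_forall]
      intro z
      have h1 : closure {genericPoint Z} ⊆ closure (Set.range g) :=
        closure_mono (Set.singleton_subset_iff.2 ⟨_, hz⟩)
      rw [(genericPoint_spec Z).def] at h1
      exact h1 trivial
    · exfalso
      have hz' := isClosed_of_ne hZ hz
      obtain ⟨b, hb, hne⟩ := exists_closed_ne k hZ (g (genericPoint F))
      have h1 := h (ic (pt hb) (hE b hb))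
      rw [degC_pt k hZ hb, degC_pull_ic_eq_zero k] at h1
      · norm_num at h1
      · intro y hy
        have h2 : g (genericPoint F) ⤳ g y := (genericPoint_specializes y).map g.continuous
        have h3 : g y = g (genericPoint F) := by
          have := h2.mem_closed hz' rfl
          exact this
        exact hne (h3.symm.trans ((mem_support_pt hb _).1 hy))
  have hfin : IsFinite g := K432.CurveNorm.isFinite_of_dominant (Z ↘ Spec (CommRingCat.of k)) g hF hZ
  have hfl : Flat g := K456.FlatCurve.flat_of_dominant g hreg hZ.le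
  rw [Scheme.Hom.isIso_iff_finrank_eq]
  funext y
  obtain ⟨b, hb, -⟩ := exists_closed_ne k hZ y
  have h1 := h (ic (pt hb) (hE b hb))
  rw [degC_pt k hZ hb] at h1
  have hI : PicF.IsInvertible (ClSub.idealMod (pt hb)) := Dix.IdealModCartier.isInvertible_idealMod (hE b hb)
  have h2 := K814.CurveHom.deg_pullback k hF hZ g hg (ClSub.idealMod (pt hb)) hI y
  have h3 : Curv2.deg k Z (ClSub.idealMod (pt hb)) 1 = -1 := by
    rw [← degC_pt k hZ hb (hE b hb), ic, degC_mk]
  have h4 : degC k F (pull g (ic (pt hb) (hE b hb))) =
      Curv2.deg k F ((Scheme.Modules.pullback g).obj (ClSub.idealMod (pt hb))) 1 := by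
    rw [ic, pull_mk, degC_mk]
  rw [h4, h2, h3] at h1
  have h5 : (g.finrank y : ℤ) = 1 := by linarith
  exact_mod_cast h5

end deg

section stein

theorem subsingleton_of_dim {E : Scheme.{u}} [IsIntegral E] (h : topologicalKrullDim E ≤ 0) : Subsingleton E := by
  have key : ∀ x : E, x = genericPoint E := by
    intro x
    by_contra hne
    let a : IrreducibleCloseds E := ⟨closure {x}, isIrreducible_singleton.closure, isClosed_closure⟩
    let b : IrreducibleCloseds E := ⟨Set.univ, IrreducibleSpace.isIrreducible_univ E, isClosed_univ⟩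
    have h1 : a < b := by
      refine lt_of_le_of_ne (fun _ _ => trivial) fun hab => hne ?_
      have h3 : closure {x} = (Set.univ : Set E) := congrArg (fun z : IrreducibleCloseds E => (z : Set E)) hab
      exact (IsGenericPoint.eq (S := Set.univ) h3 (genericPoint_spec E))
    have h2 : 0 < topologicalKrullDim E := Order.krullDim_pos_iff.2 ⟨_, _, h1⟩
    exact absurd h (not_le.2 h2)
  exact ⟨fun x y => (key x).trans (key y).symm⟩

theorem le_zero_of_lt_one {x : WithBot ℕ∞} (h : x < 1) : x ≤ 0 := by
  induction x using WithBot.recBotCoe with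
  | bot => exact bot_le
  | coe x =>
    have h1 : x < 1 := by exact_mod_cast h
    rw [Order.lt_one_iff.1 h1]
    rfl

theorem isAffine_of_subsingleton {E : Scheme.{u}} [Subsingleton E] [Nonempty E] : IsAffine E := by
  obtain ⟨x⟩ := ‹Nonempty E›
  obtain ⟨_, ⟨U, hU, rfl⟩, hxU, -⟩ :=
    E.isBasis_affineOpens.exists_subset_of_mem_open (Set.mem_univ x) isOpen_univ
  have h1 : U = ⊤ := by
    ext y
    simp only [Subsingleton.elim y x]
    exact ⟨fun _ => trivial, fun _ => hxU⟩
  subst h1
  have hU2 : IsAffine (⊤ : E.Opens).toScheme := hU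
  exact .of_isIso E.topIso.inv

theorem pic_trivial {k : Type u} [Field k] {E : Scheme.{u}} (p : E ⟶ Spec (CommRingCat.of k)) [IsProper p] [IsIntegral E]
    (h : topologicalKrullDim E ≤ 0) (c : Pic E) : c = 1 := by
  have := subsingleton_of_dim h
  have := isAffine_of_subsingleton (E := E)
  have hF : IsField Γ(E, ⊤) := isField_of_universallyClosed k p
  have hL : IsLocalRing Γ(E, ⊤) := by
    let _ : Field Γ(E, ⊤) := hF.toField
    infer_instance
  have h1 : pull E.isoSpec.inv c = 1 := pic_spec_local Γ(E, ⊤) _
  have h2 := congrArg (pull E.isoSpec.hom) h1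
  rw [← pull_comp, Iso.hom_inv_id, pull_id, map_one] at h2
  exact h2

variable (k : Type u) [Field k] [IsAlgClosed k] {X B : Scheme.{u}} [X.Over (Spec (CommRingCat.of k))]
  [B.Over (Spec (CommRingCat.of k))] [IsProper (X ↘ Spec (CommRingCat.of k))] [IsProper (B ↘ Spec (CommRingCat.of k))]
  [IsIntegral X]

/-- Stein factorization over a curve. -/
theorem stein (hX : _root_.Pi1.IsNormalScheme X) (hB : topologicalKrullDim B ≤ 1) (h : X ⟶ B)
    (hh : h ≫ (B ↘ Spec (CommRingCat.of k)) = X ↘ Spec (CommRingCat.of k)) (a : Pic B) (ha : pull h a ≠ 1) :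
    ∃ (Z : Scheme.{u}) (_ : Z.Over (Spec (CommRingCat.of k))) (r : X ⟶ Z) (q : Z ⟶ B),
      r ≫ (Z ↘ Spec (CommRingCat.of k)) = X ↘ Spec (CommRingCat.of k) ∧
      q ≫ (B ↘ Spec (CommRingCat.of k)) = Z ↘ Spec (CommRingCat.of k) ∧ r ≫ q = h ∧
      IsProper (Z ↘ Spec (CommRingCat.of k)) ∧ Smooth (Z ↘ Spec (CommRingCat.of k)) ∧ IsIntegral Z ∧
      topologicalKrullDim Z = 1 ∧ IsIso (ClSub.unitToPush r) ∧ Surjective r := by
  have hp : IsProper h := K464.FibCurve.isProper k h hh
  have hBN : IsLocallyNoetherian B := LocallyOfFiniteType.isLocallyNoetherian (B ↘ Spec (CommRingCat.of k))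
  have hfin : IsFinite h.fromNormalization := S1297.result h
  have hE : IsIntegral h.normalization := inferInstance
  have hnor := Pi1.H419.SteinNormal.isNormalScheme_normalization (X := X) hX h
  have hEp : IsProper (h.fromNormalization ≫ (B ↘ Spec (CommRingCat.of k))) := inferInstance
  have hd : topologicalKrullDim h.normalization ≤ 1 :=
    (EtpbcA.CharPDim.dim_le_of_isIntegralHom h.fromNormalization).trans hB
  have hsm := Pi1.H386.NormalCurve.smooth_of_normal k (h.fromNormalization ≫ (B ↘ Spec (CommRingCat.of k))) hnor hd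
  have hdim : topologicalKrullDim h.normalization = 1 := by
    refine le_antisymm hd ?_
    by_contra hcon
    have h0 : topologicalKrullDim h.normalization ≤ 0 := by
      exact le_zero_of_lt_one (not_le.1 hcon)
    apply ha
    rw [← Scheme.Hom.toNormalization_fromNormalization h, pull_comp,
      pic_trivial (h.fromNormalization ≫ (B ↘ Spec (CommRingCat.of k))) h0 (pull h.fromNormalization a), map_one]
  have hO : ∀ U, IsIso (h.toNormalization.app U) := fun U => S1340.result h U
  have hpr : IsProper h.toNormalization := by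
    have : IsProper (h.toNormalization ≫ h.fromNormalization) := by
      rw [Scheme.Hom.toNormalization_fromNormalization]; exact hp
    exact IsProper.of_comp h.toNormalization h.fromNormalization
  have hdom : IsDominant h.toNormalization := inferInstance
  refine ⟨h.normalization, ⟨h.fromNormalization ≫ (B ↘ Spec (CommRingCat.of k))⟩, h.toNormalization,
    h.fromNormalization, ?_, rfl, Scheme.Hom.toNormalization_fromNormalization h, hEp, hsm, hE, hdim, ?_, ?_⟩
  · change h.toNormalization ≫ h.fromNormalization ≫ _ = _
    rw [Scheme.Hom.toNormalization_fromNormalization_assoc, hh]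
  · rw [K455.Srf.isIso_unitToPush_iff]
    intro U
    have := hO U
    exact ConcreteCategory.bijective_of_isIso (h.toNormalization.app U)
  · refine ⟨fun z => ?_⟩
    have h1 : Set.range h.toNormalization = Set.univ := by
      have h2 := h.toNormalization.isClosedMap.isClosed_range
      rw [← h2.closure_eq]
      exact hdom.denseRange.closure_range
    rw [← Set.mem_range, h1]; trivial

end stein

end K455.GenTwo
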