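import Groth.Agent.Surf.K464.FibCurve
import Groth.Agent.MorSch.K921.IsoLocus

/-!
# Product decomposition (K455)

`isIso_lift`: `(r, f) : X ⟶ Z × C` is an isomorphism if its restrictions to the closed fibres of `f` are.
-/

set_option autoImplicit false
universe u
open CategoryTheory CategoryTheory.Limits AlgebraicGeometry TopologicalSpace Opposite

namespace K455.GenTwo

open Groth.Agent K464.PtCurve K464.FibCurve K464.Curves

variable (k : Type u) [Field k] [IsAlgClosed k] {X Z C : Scheme.{u}} [X.Over (Spec (CommRingCat.of k))]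
  [Z.Over (Spec (CommRingCat.of k))] [C.Over (Spec (CommRingCat.of k))] [IsProper (X ↘ Spec (CommRingCat.of k))]
  [IsProper (Z ↘ Spec (CommRingCat.of k))] [IsProper (C ↘ Spec (CommRingCat.of k))]

theorem isIso_lift (f : X ⟶ C) (hf : f ≫ (C ↘ Spec (CommRingCat.of k)) = X ↘ Spec (CommRingCat.of k))
    (r : X ⟶ Z) (hr : r ≫ (Z ↘ Spec (CommRingCat.of k)) = X ↘ Spec (CommRingCat.of k)) [Flat f]
    (h : ∀ (c : C) (hc : IsClosed ({c} : Set C)), IsIso (((pt hc).comap f).subschemeι ≫ r)) :
    IsIso (pullback.lift r f (hr.trans hf.symm) :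
      X ⟶ pullback (Z ↘ Spec (CommRingCat.of k)) (C ↘ Spec (CommRingCat.of k))) := by
  have hN : IsNoetherian C := CurvesB.CurveRR.isNoetherian_of_proper k C
  have hJ : JacobsonSpace C := LocallyOfFiniteType.jacobsonSpace (C ↘ Spec (CommRingCat.of k))
  have hfp : IsProper f := K464.FibCurve.isProper k f hf
  set φ : X ⟶ pullback (Z ↘ Spec (CommRingCat.of k)) (C ↘ Spec (CommRingCat.of k)) :=
    pullback.lift r f (hr.trans hf.symm) with hφ
  have w : φ ≫ pullback.snd (Z ↘ Spec (CommRingCat.of k)) (C ↘ Spec (CommRingCat.of k)) = f := pullback.lift_snd _ _ _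
  have key := fun {S' X' Y' : Scheme.{u}} {t : S' ⟶ C} {f' : X' ⟶ Y'} {pX : X' ⟶ X} {pY : Y' ⟶ _} {h' : Y' ⟶ S'} =>
    K921.IsoLocus.isIso_baseChange_iff (X' := X') (Y' := Y') (t := t) (f' := f') (pX := pX) (pY := pY)
      (h' := h') φ f (pullback.snd (Z ↘ Spec (CommRingCat.of k)) (C ↘ Spec (CommRingCat.of k))) w
  have hloc : ∀ (c : C), IsClosed ({c} : Set C) →
      c ∈ K921.IsoLocus.locus φ (pullback.snd (Z ↘ Spec (CommRingCat.of k)) (C ↘ Spec (CommRingCat.of k))) := by
    intro c hc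
    obtain ⟨τ, h1, h2, h3, h4⟩ := exists_point k hc
    obtain ⟨q, hq⟩ := exists_isPullback τ (pt hc) h4 f
    have h5 : q = ((pt hc).comap f).subschemeι ≫ (X ↘ Spec (CommRingCat.of k)) := by
      rw [← hf, hq.w_assoc, h2, Category.comp_id]
    let pY : Z ⟶ pullback (Z ↘ Spec (CommRingCat.of k)) (C ↘ Spec (CommRingCat.of k)) :=
      pullback.lift (𝟙 Z) ((Z ↘ Spec (CommRingCat.of k)) ≫ τ) (by rw [Category.assoc, h2]; simp)
    have H' : IsPullback pY (Z ↘ Spec (CommRingCat.of k))
        (pullback.snd (Z ↘ Spec (CommRingCat.of k)) (C ↘ Spec (CommRingCat.of k))) τ := by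
      refine IsPullback.of_right ?_ (pullback.lift_snd _ _ _) (IsPullback.of_hasPullback _ _)
      rw [pullback.lift_fst, h2]
      exact IsPullback.of_horiz_isIso ⟨by simp⟩
    have H : IsPullback ((pt hc).comap f).subschemeι (((pt hc).comap f).subschemeι ≫ r) φ pY := by
      refine IsPullback.of_bot ?_ ?_ H'
      · rw [w, Category.assoc, hr, ← h5]
        exact hq
      · apply pullback.hom_ext
        · rw [Category.assoc, Category.assoc, pullback.lift_fst, pullback.lift_fst, Category.comp_id]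
        · rw [Category.assoc, w, Category.assoc, Category.assoc, pullback.lift_snd, reassoc_of% hr, hq.w, h5,
            Category.assoc]
    have h6 := (key H H').1 (h c hc)
    exact h6 h3
  have htop : (Set.range (𝟙 C : C ⟶ C) : Set C) ⊆ (K921.IsoLocus.locus φ
      (pullback.snd (Z ↘ Spec (CommRingCat.of k)) (C ↘ Spec (CommRingCat.of k))) : Set C) := by
    rintro x -
    by_contra hx
    obtain ⟨c, hc, hcc⟩ := (Opens.isOpen (K921.IsoLocus.locus φ
      (pullback.snd (Z ↘ Spec (CommRingCat.of k)) (C ↘ Spec (CommRingCat.of k))))).isClosed_compl.exists_closed_singleton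
        ⟨x, hx⟩
    exact hc (hloc c hcc)
  exact (key (t := 𝟙 C) (f' := φ) (pX := 𝟙 X) (pY := 𝟙 _) (h' := pullback.snd _ _)
    (IsPullback.of_horiz_isIso ⟨by simp⟩) (IsPullback.of_horiz_isIso ⟨by simp⟩)).2 htop

end K455.GenTwo
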