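import Groth.Agent.Surf.K455.GenTwoMain
import Groth.Agent.Surf.K455.GenTwoCurve
import Groth.Agent.Surf.K455.GenTwoProd
import Groth.Agent.Surf.K456.LerayTw
import Groth.Agent.VBCurve.K707.Slope
import Groth.Agent.CurvesC.ProjMap
import Groth.Agent.CurvesC.RegNormal
import Groth.Agent.Vancyc.H878.OmegaRank

/-!
# Smooth families of curves of genus two over the projective line are products (K455)
-/

set_option autoImplicit false
universe u
open CategoryTheory CategoryTheory.Limits AlgebraicGeometry TopologicalSpace Opposite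

namespace K455.GenTwo

open Groth.Agent K464.PtCurve K464.FibCurve K464.DegCurve K464.Curves K464.Base Groth.Agent.Fdesc.LocGen
  Groth.Agent.Grpsch.PicGrp

section num

variable (k : Type u) [Field k] [IsAlgClosed k] {X Z : Scheme.{u}} [X.Over (Spec (CommRingCat.of k))]
  [Z.Over (Spec (CommRingCat.of k))] [IsProper (X ↘ Spec (CommRingCat.of k))] [IsProper (Z ↘ Spec (CommRingCat.of k))]
  [IsIntegral X] [IsIntegral Z] [Smooth (Z ↘ Spec (CommRingCat.of k))] (hdim : topologicalKrullDim X = 2)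
  (hZ : topologicalKrullDim Z = 1) (r : X ⟶ Z)
  (hr : r ≫ (Z ↘ Spec (CommRingCat.of k)) = X ↘ Spec (CommRingCat.of k)) [Surjective r]
  (hO : IsIso (ClSub.unitToPush r))

include hdim hZ hr hO in
/-- `χ(r^*A) - χ(O) = deg A (1 - rk R¹r_* O)`. -/
theorem exists_rank : ∃ n : ℕ, ∀ A : Pic Z, chi k X (pull r A) - chi k X 1 = degC k Z A * (1 - n) := by
  have i6 := Dcoh.DerSch.hasInjectiveResolutions X
  have hCrv := K707.Base.Crv.of_smooth (k := k) hZ
  have hN : IsNoetherian Z := CurvesB.CurveRR.isNoetherian_of_proper k Z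
  have hNX : IsNoetherian X := CurvesB.CurveRR.isNoetherian_of_proper k X
  have hcoh : Coh.IsCoh (Coh.structureModule X) := CurvesB.UnitCoh.isCoh_structureModule X
  have hR := K456.LerayTw.coh_Rpush k r hr hcoh 1
  refine ⟨VarietyA.DegRank.rk ((Coh.Rpush r 1).obj (Coh.structureModule X)), fun A => ?_⟩
  obtain ⟨B, hB, rfl⟩ := exists_mk A
  have h1 := K456.LerayTw.euler_tw k hdim hZ r hr hO hB
  have h2 := K456.LerayTw.euler_structure k hdim hZ r hr hO
  have h3 := K456.CurveTw.dg_tw hCrv hR hB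
  rw [K707.Deg.dg, K707.Deg.dg, K456.CurveTw.rk_tw hR hB, K707.Deg.dg, K456.CurveTw.rk_one hB] at h3
  rw [pull_mk, chi_mk, chi_one, h1, h2, degC_mk, Curv2.deg]
  push_cast at h3 ⊢
  linarith

include hdim hZ hr hO in
theorem deg_two {m h : Pic X} {A : Pic Z} (hA : pull r A = m) (hdA : 0 ≤ degC k Z A)
    (hm : chi k X m = Curv2.euler k X (Coh.structureModule X) + 2) (hhm : dot k X h m = 2) (B : Pic Z) :
    dot k X h (pull r B) = degC k Z B := by
  obtain ⟨n, hn⟩ := exists_rank k hdim hZ r hr hO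
  have h1 := hn A
  rw [hA, hm, chi_one, add_sub_cancel_left] at h1
  have hreg : ∀ z : Z, IsRegularLocalRing (Z.presheaf.stalk z) := fun z => S1535.result k Z z
  have hdom : IsDominant r := ⟨(inferInstance : Surjective r).surj.denseRange⟩
  have hn0 : n = 0 := by
    by_contra hne
    have h2 : (1 : ℤ) ≤ n := by exact_mod_cast Nat.one_le_iff_ne_zero.2 hne
    have h3 : degC k Z A * (1 - n) ≤ 0 := mul_nonpos_of_nonneg_of_nonpos hdA (by linarith)
    linarith
  rw [hn0] at h1
  obtain ⟨N, hN, rfl⟩ := exists_mk h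
  have h4 := dot_pull k r hr hdim.le hZ hreg A hN
  rw [hA, dot_comm, hhm] at h4
  have h5 : fd r N = 1 := by
    have h6 : degC k Z A = 2 := by push_cast at h1; linarith
    rw [h6] at h4; linarith
  rw [dot_comm, dot_pull k r hr hdim.le hZ hreg B hN, h5, mul_one]

end num

section P1

open K443.P1V K443.P1Push

variable (k : Type u) [Field k] [IsAlgClosed k] {X : Scheme.{u}} [X.Over (Spec (CommRingCat.of k))]
  [IsProper (X ↘ Spec (CommRingCat.of k))] [Smooth (X ↘ Spec (CommRingCat.of k))] [IsIntegral X]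
  (hdim : topologicalKrullDim X = 2) (f : X ⟶ CohB1.ProjSpace 1 k)
  (hf : f ≫ (CohB1.ProjSpace 1 k ↘ Spec (CommRingCat.of k)) = X ↘ Spec (CommRingCat.of k))
  (hc : K333.Fam.IsCurve f 2)

include hc in
/-- The map given by the two sections of the relative canonical module. -/
theorem exists_map (hΩ : PicF.IsInvertible (Omega.sheaf f))
    (e : (Scheme.Modules.pushforward f).obj (Omega.sheaf f) ≅ ∐ fun _ : Fin 2 => O k 0) :
    ∃ φ : X ⟶ CohB1.ProjSpace 1 k, φ ≫ (CohB1.ProjSpace 1 k ↘ Spec (CommRingCat.of k)) =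
      X ↘ Spec (CommRingCat.of k) ∧ pull φ (mk (O k 1) (isInvertible_O k 1)) = mk _ hΩ := by
  have i0 := isProper_P1 k
  have hNX : IsNoetherian X := CurvesB.CurveRR.isNoetherian_of_proper k X
  have i1 := hc.proper
  obtain ⟨e0⟩ := Ega2.TwistInv.nonempty_unit_iso (CohB1.polyGrading 1 k)
  have e0' : Coh.structureModule (CohB1.ProjSpace 1 k) ≅ O k 0 := e0
  let θ : Coh.structureModule X ≅ (Scheme.Modules.pullback f).obj (O k 0) :=
    (CurvesA.HHMap.pullbackUnit f).symm ≪≫ (Scheme.Modules.pullback f).mapIso e0'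
  let s : Fin 2 → (Coh.structureModule X ⟶ Omega.sheaf f) := fun j => θ.hom ≫ cmp (A := fun _ => O k 0) e j
  have hs : ⨆ j, CohB1.genLocus (Omega.sheaf f) (s j) = ⊤ := by
    rw [← Opens.coe_inj, Opens.coe_iSup, Opens.coe_top]
    by_contra hne
    obtain ⟨x, hx, hxc⟩ := (isOpen_iUnion fun j => (CohB1.genLocus (Omega.sheaf f) (s j)).isOpen
      ).isClosed_compl.exists_closed_singleton (Set.nonempty_compl.2 hne)
    have hfx : IsClosed ({f x} : Set (CohB1.ProjSpace 1 k)) := by
      have h1 := f.isClosedMap _ hxc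
      rwa [Set.image_singleton] at h1
    obtain ⟨j, W, e', hxW, h1, h2⟩ := exists_comp (A := fun _ : Fin 2 => O k 0) e (fun _ => isInvertible_O k 0) (x := x)
      fun U hU hxU => exists_gen (k := k) (CohB1.ProjSpace 1 k ↘ Spec (CommRingCat.of k)) hc hfx hU hxU
    apply hx
    refine Set.mem_iUnion.2 ⟨j, (mem_genLocus_iff (s j) x).2 ⟨W, hxW, ?_⟩⟩
    have h3 : IsGen (sec θ.hom W) := (isGen_one W).app θ.hom
    obtain ⟨a, ha, h4⟩ := h1.exists_unit h3
    have h5 : sec (s j) W = a • (cmp (A := fun _ => O k 0) e j).app W e' := by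
      rw [sec_comp, h4, Scheme.Modules.Hom.app_smul]
    rw [h5]
    exact h2.unit_smul ha
  obtain ⟨φ, -, h2, -, -, e1, -⟩ := CurvesC.ProjMap.exists_morphism (n := 1) (R := k)
    (X ↘ Spec (CommRingCat.of k)) (Omega.sheaf f) s hs
  refine ⟨φ, h2, ?_⟩
  rw [pull_mk, mk_eq_iff]
  exact ⟨e1⟩

include hf hc in
theorem euler_fibre_curve (hdim : topologicalKrullDim X = 2) {c : CohB1.ProjSpace 1 k}
    (hcc : IsClosed ({c} : Set (CohB1.ProjSpace 1 k))) : Curv2.euler k X (ClSub.quotMod (f.fiberι c).ker) = -1 := by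
  have i0 := isProper_P1 k
  rw [ker_fiberι_eq f hcc, euler_quotMod_sub]
  let _ := overC k X ((pt hcc).comap f)
  have := isProper_sub k X ((pt hcc).comap f)
  obtain ⟨τ, hτ, H⟩ := exists_isPullback_fibre k f hf hcc
  obtain ⟨h1, h2, h3, h4, h5, h6, -⟩ := hc.field k τ _ _ H
  have hi := (isCurve_fibre k f hf hc hcc).integral
  rw [CurvesC.CurveCoh.euler_eq k ((pt hcc).comap f).subscheme h4, h6]
  rw [Curv2.genus] at h5
  rw [h5]; norm_num

include hdim hf hc in
/-- A smooth family of curves of genus two over the projective line is a product. -/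
theorem main_P1
    (hN : ∀ (WX : X.Modules) (_ : ExtPow.IsExtPow 2 (Omega.sheaf (X ↘ Spec (CommRingCat.of k))) WX)
      (hWi : PicF.IsInvertible WX), 12 * Curv2.euler k X (Coh.structureModule X) = dot k X (mk WX hWi) (mk WX hWi) +
      (Curv2.euler k X (Coh.structureModule X) - Curv2.euler k X (Omega.sheaf (X ↘ Spec (CommRingCat.of k))) +
        Curv2.euler k X WX)) :
    ∃ (Z : Scheme.{u}) (_ : Z.Over (Spec (CommRingCat.of k))) (r : X ⟶ Z)
      (hr : r ≫ (Z ↘ Spec (CommRingCat.of k)) = X ↘ Spec (CommRingCat.of k)),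
      IsIso (pullback.lift r f (hr.trans hf.symm) :
        X ⟶ pullback (Z ↘ Spec (CommRingCat.of k)) (CohB1.ProjSpace 1 k ↘ Spec (CommRingCat.of k))) := by
  have i0 := isProper_P1 k
  have i0' := smooth_P1 k
  have i1 := hc.proper
  have i2 := hc.rel
  have i3 := hc.conn
  have i4 := hc.smooth
  have hd := hdim.le
  have hsurj : Surjective f := inferInstance
  have hdom : IsDominant f := ⟨hsurj.surj.denseRange⟩
  have hP1 := dim_P1 k
  have hΩ : PicF.IsInvertible (Omega.sheaf f) := K333.OmegaFam.isInvertible_omega _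
  have i7 : SmoothOfRelativeDimension 2 (X ↘ Spec (CommRingCat.of k)) :=
    Picfga.CurveRelDim.smoothOfRelativeDimension_of_topologicalKrullDim_eq k X _ 2 hdim
  have hrΩ : FlatMod.IsFinLocFreeOfRank 2 (Omega.sheaf (X ↘ Spec (CommRingCat.of k))) :=
    Vancyc.H878.OmegaRank.isFinLocFreeOfRank_omega 2 _
  obtain ⟨WX, hWX⟩ := Dual.H366.ExtQCoh.exists_isExtPow (1 + 1)
    (Ega2.QCohLocal.isQCoh_of_isFinLocFree (Krr.H495.Rank.isFinLocFree_of_rank hrΩ))
  have hWi : PicF.IsInvertible WX := K456.Adj.isInvertible_canonical k hdim hWX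
  obtain ⟨⟨e⟩, hhm, hχ⟩ := main_num k hdim f hf hc hWX hWi
    (fun c hcc => euler_fibre_curve k f hf hc hdim hcc) (hN WX hWX hWi) hΩ
  obtain ⟨φ, hφ, hφm⟩ := exists_map k f hc hΩ e
  have hnor : _root_.Pi1.IsNormalScheme X := by
    intro x
    have := S1535.result k X x
    exact ⟨CurvesC.RegNormal.isDomain (X.presheaf.stalk x),
      (CurvesC.RegNormal.cic (X.presheaf.stalk x)).isIntegrallyClosed⟩
  obtain ⟨Z, oZ, r, q, hr, hq, hrq, hZp, hZs, hZi, hZd, hO, hsr⟩ := stein k hnor hP1.le φ hφ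
    (mk (O k 1) (isInvertible_O k 1)) (fun h1 => by
      rw [hφm] at h1
      rw [h1, dot_one_right] at hhm
      norm_num at hhm)
  have hdA : 0 ≤ degC k Z (pull q (mk (O k 1) (isInvertible_O k 1))) := by
    obtain ⟨b, hb, hne⟩ := exists_closed_ne k hP1 (q (genericPoint Z))
    have hE := isEff_pt k (CohB1.ProjSpace 1 k ↘ Spec (CommRingCat.of k)) hP1 (reg_P1 k) hb
    have h1 : degC k Z (pull q (ic (pt hb) hE)) ≤ 0 :=
      degC_pull_ic_nonpos k Z hZd q hE (fun h => hne ((mem_support_pt hb _).1 h))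
    rw [pic_eq k (ic (pt hb) hE), degC_pt k hP1 hb, zpow_neg_one, map_inv, degC_inv k Z hZd] at h1
    linarith
  refine ⟨Z, oZ, r, hr, isIso_lift k f hf r hr fun c hcc => ?_⟩
  let _ := overC k X ((pt hcc).comap f)
  have := isProper_sub k X ((pt hcc).comap f)
  have hF := isCurve_fibre k f hf hc hcc
  have := hF.integral
  refine isIso_of_deg k ((dim_sub X _).trans hF.dim) hZd (fun z => S1535.result k Z z) _ ?_ fun A => ?_
  · rw [Category.assoc, hr]; rfl
  · obtain ⟨hE, e2⟩ := hcl_eq k f hdom hcc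
    rw [pull_comp, ← degOn_eq_degC, degOn_eq_neg_dot k X hE, ← dot_inv_left k X hd, ← e2]
    refine deg_two k hdim hZd r hr hO ?_ hdA hχ hhm A
    rw [← pull_comp, hrq, hφm]

end P1

end K455.GenTwo
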