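import Groth.Agent.Surf.K455.GenTwoBase
import Groth.Agent.Curves.K333.PushOmega
import Groth.Agent.Fga.EtTriv
import Groth.Agent.Variety.K430.DivHom
import Groth.Agent.Ega1.GlobGenPt
import Groth.Agent.CurvesC.InvSec
import Groth.Agent.S11334

/-!
# Smooth families of curves of genus two: the relative canonical module is relatively generated (K455)

* `exists_gen`: sections of `Ω_{X/C}` over the inverse image of an affine open generate at a given closed point.
* `exists_comp`: if `f_* L ≅ ∐ A_j` and `L` is generated as above, at every point one of the maps `f^* A_j ⟶ L` is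
  surjective.
* `exists_divs`: the divisors of these maps.
-/

set_option autoImplicit false
universe u
open CategoryTheory CategoryTheory.Limits AlgebraicGeometry TopologicalSpace Opposite

namespace K455.GenTwo

open Groth.Agent K333.Fam K464.PtCurve K464.FibCurve K464.Curves K464.Base Groth.Agent.Fdesc.LocGen
  Groth.Agent.CohqA.PullbackUniv Groth.Agent.CohqA.PullbackAffine
  Groth.Agent.CohqA.PullbackSections Groth.Agent.CohqA.AffineBaseChange
  Groth.Agent.CohqA.BaseChangeMod Groth.Agent.CohqA.PullbackQCoh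

section Alg

variable {A B : Type u} [CommRing A] [CommRing B] {φ : A →+* B} {M N : Type u}
    [AddCommGroup M] [AddCommGroup N] [Module A M] [Module B N] {θ : M →+ N}

theorem bc_surjective (hφ : Function.Surjective φ) (h : IsBC φ θ) : Function.Surjective θ := by
  let _ := φ.toAlgebra
  let _ : Module A N := Module.compHom N φ
  have : IsScalarTower A B N := ⟨fun a b c => by
      change (φ a * b) • c = φ a • b • c
      rw [mul_smul]⟩
  have h' : IsBaseChange B ({ toFun := θ, map_add' := θ.map_add, map_smul' := h.map_smul } : M →ₗ[A] N) :=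
    (isBC_iff_isBaseChange _).1 h
  intro y
  obtain ⟨t, rfl⟩ := h'.equiv.surjective y
  induction t using TensorProduct.induction_on with
  | zero => exact ⟨0, by rw [map_zero, map_zero]⟩
  | tmul r m =>
    obtain ⟨a, rfl⟩ := hφ r
    refine ⟨a • m, ?_⟩
    rw [IsBaseChange.equiv_tmul]
    exact h.map_smul a m
  | add x y hx hy =>
    obtain ⟨a, ha⟩ := hx
    obtain ⟨b, hb⟩ := hy
    exact ⟨a + b, by rw [map_add, map_add, ha, hb]⟩

end Alg

section gen

variable {k : Type u} [Field k] [IsAlgClosed k] {X C : Scheme.{u}}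

/-- Sections of the relative differentials over the inverse image of an affine open set generate at a given closed
point. -/
theorem exists_gen (p : C ⟶ Spec (CommRingCat.of k)) [LocallyOfFiniteType p] {f : X ⟶ C} (hf : IsCurve f 2) {x : X}
    (hx : IsClosed ({f x} : Set C)) {U : C.Opens} (hU : IsAffineOpen U) (hxU : f x ∈ U) :
    ∃ (m : Γ(Omega.sheaf f, f ⁻¹ᵁ U)) (W : X.Opens) (hW : W ≤ f ⁻¹ᵁ U), x ∈ W ∧ IsGen (res (Omega.sheaf f) hW m) := by
  have i1 := hf.proper
  have i2 := hf.rel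
  have i3 := hf.conn
  have i4 := hf.smooth
  have hinv : PicF.IsInvertible (Omega.sheaf f) := K333.OmegaFam.isInvertible_omega f
  have hq : Coh.IsQCoh (Omega.sheaf f) := Ega2.QCohLocal.isQCoh_of_isInvertible hinv
  have hq' : (Omega.sheaf f).IsQuasicoherent := hq
  let τ : Spec (CommRingCat.of k) ⟶ C := pointOfClosedPoint p (f x) hx
  have hτ : τ ≫ p = 𝟙 _ := pointOfClosedPoint_comp _ _ _
  have hτx : ∀ a, τ a = f x := fun a => pointOfClosedPoint_apply _ _ _ a
  let F : Scheme.{u} := pullback f τ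
  let i : F ⟶ X := pullback.fst f τ
  let q : F ⟶ Spec (CommRingCat.of k) := pullback.snd f τ
  have H : IsPullback i q f τ := .of_hasPullback _ _
  let iF : F.Over (Spec (CommRingCat.of k)) := ⟨q⟩
  obtain ⟨j1, j2, j3, j4, j5, -, -⟩ := hf.field k τ F i H
  have j6 : Smooth (F ↘ Spec (CommRingCat.of k)) := SmoothOfRelativeDimension.smooth 1 _
  have j7 : ConnectedSpace F := GeometricallyConnected.connectedSpace_of_subsingleton (F ↘ Spec (CommRingCat.of k))
  have j8 : IsIntegral F := by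
    have : IsNoetherian F := CurvesB.CurveRR.isNoetherian_of_proper k F
    exact RelDim.isIntegral_of_regular (K456.FibDiv.isRegular_of_smooth (F ↘ Spec (CommRingCat.of k)))
  have hgg := S11334.result k F j4 (K456.FibDiv.isRegular_of_smooth (F ↘ Spec (CommRingCat.of k))) j5.ge
  -- the point of the fibre
  obtain ⟨y, hy⟩ : ∃ y : F, i y = x := by
    have h1 : x ∈ Set.range i := by
      change x ∈ Set.range (pullback.fst f τ)
      rw [Scheme.Pullback.range_fst]
      exact ⟨IsLocalRing.closedPoint k, hτx _⟩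
    exact h1
  have hΩ : PicF.IsInvertible (Omega.sheaf (F ↘ Spec (CommRingCat.of k))) := K333.OmegaFam.isInvertible_omega _
  obtain ⟨s, hs⟩ := Ega1.GlobGenPt.exists_mem_genLocus hΩ hgg y
  let e : (Scheme.Modules.pullback i).obj (Omega.sheaf f) ≅ Omega.sheaf (F ↘ Spec (CommRingCat.of k)) :=
    Vancyc.H878.RelOmega.omegaBC H
  rw [mem_genLocus_iff] at hs
  obtain ⟨V, hyV, hV⟩ := hs
  let s' := s ≫ e.inv
  have hV' : IsGen (sec s' V) := by
    have h1 : sec s' V = e.inv.app V (sec s V) := sec_comp s e.inv V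
    rw [h1]
    exact hV.app e.inv
  -- lift the section
  have hle : (⊤ : (Spec (CommRingCat.of k)).Opens) ≤ τ ⁻¹ᵁ U := fun a _ => by
    change τ a ∈ U
    rw [hτx]; exact hxU
  have hqp : ((Scheme.Modules.pushforward f).obj (Omega.sheaf f)).IsQuasicoherent :=
    Ega1.QcqsPush.isQCoh_pushforward f (Omega.sheaf f) hq
  have hbc := isBC_secMap τ (pushSquare f τ i q H.w (pbUnit i (Omega.sheaf f)))
    (K333.PushOmega.isUniv f (Omega.sheaf f) hq (K333.PushOmega.good f) i q τ H) hU (isAffineOpen_top _) hle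
  have hsurj : Function.Surjective (τ.appLE U ⊤ hle).hom := by
    have h1 : p.appLE ⊤ U le_top ≫ τ.appLE U ⊤ hle = (τ ≫ p).appLE ⊤ ⊤ le_top :=
      Scheme.Hom.appLE_comp_appLE _ _ _ _ _ _ _
    have h2 : IsIso ((τ ≫ p).appLE ⊤ ⊤ le_top) := by
      have h3 : (τ ≫ p).appLE ⊤ ((τ ≫ p) ⁻¹ᵁ ⊤) le_rfl = (τ ≫ p).app ⊤ := Scheme.Hom.appLE_eq_app _
      have h4 : IsIso (τ ≫ p) := by rw [hτ]; infer_instance
      have h5 : IsIso ((τ ≫ p).app ⊤) := inferInstance
      rw [← h3] at h5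
      exact h5
    rw [← h1] at h2
    have h4 : Function.Surjective (p.appLE ⊤ U le_top ≫ τ.appLE U ⊤ hle).hom :=
      ((ConcreteCategory.isIso_iff_bijective _).1 h2).2
    rw [CommRingCat.hom_comp] at h4
    exact Function.Surjective.of_comp h4
  obtain ⟨m, hm⟩ := bc_surjective hsurj hbc (sec s' ⊤)
  have e' : q ⁻¹ᵁ ⊤ ≤ i ⁻¹ᵁ (f ⁻¹ᵁ U) := preimage_le H.w U ⊤ hle
  have h5 : secMap i (pbUnit i (Omega.sheaf f)) (f ⁻¹ᵁ U) (q ⁻¹ᵁ ⊤) e' m = sec s' ⊤ :=
    (secMap_pushSquare f τ i q H.w (pbUnit i (Omega.sheaf f)) U ⊤ hle e' m).symm.trans hm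
  have h6 : res _ e' (pullSec i (M := Omega.sheaf f) (U := f ⁻¹ᵁ U) m) = sec s' ⊤ := h5
  have hyU : i y ∈ f ⁻¹ᵁ U := by rw [hy]; exact hxU
  have hVU : V ≤ i ⁻¹ᵁ (f ⁻¹ᵁ U) := le_trans le_top e'
  obtain ⟨U₁, h₁, hyU₁, hgen⟩ := Fga.EtTriv.exists_isGen_of_pull i (Omega.sheaf f) hinv (U := f ⁻¹ᵁ U) m y hyU V hVU hyV
    (by
      have h7 : res _ hVU (pullSec i (M := Omega.sheaf f) (U := f ⁻¹ᵁ U) m) =
          res _ (le_top : V ≤ ⊤) (sec s' ⊤) := by
        rw [← h6]
        exact (res_res _ _ _ _).symm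
      rw [h7, res_sec]
      exact hV')
  exact ⟨m, U₁, h₁, hy ▸ hyU₁, hgen⟩

end gen

section comp

variable {X C : Scheme.{u}} {f : X ⟶ C} {L : X.Modules} {r : ℕ} {A : Fin r → C.Modules}

/-- The map `f^* A_j ⟶ L` attached to a decomposition of `f_* L`. -/
noncomputable def cmp (e : (Scheme.Modules.pushforward f).obj L ≅ ∐ A) (j : Fin r) :
    (Scheme.Modules.pullback f).obj (A j) ⟶ L :=
  ((Scheme.Modules.pullbackPushforwardAdjunction f).homEquiv (A j) L).symm (Sigma.ι A j ≫ e.inv)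

theorem cmp_app (e : (Scheme.Modules.pushforward f).obj L ≅ ∐ A) (j : Fin r) {U : C.Opens} (g : Γ(A j, U)) :
    (cmp e j).app (f ⁻¹ᵁ U) (pullSec f g) = (Sigma.ι A j ≫ e.inv).app U g := by
  rw [← homEquiv_app, cmp, Equiv.apply_symm_apply]

/-- Decomposition of a section of a finite coproduct. -/
theorem exists_sum {U : C.Opens} (m : Γ(∐ A, U)) : ∃ n : ∀ j, Γ(A j, U), m = ∑ j, (Sigma.ι A j).app U (n j) := by
  classical
  have hbi : HasFiniteBiproducts C.Modules := HasFiniteBiproducts.of_hasFiniteProducts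
  let θ := biproduct.isoCoproduct A
  refine ⟨fun j => (θ.inv ≫ biproduct.π A j).app U m, ?_⟩
  have h1 : (∑ j, (θ.inv ≫ biproduct.π A j) ≫ Sigma.ι A j) = 𝟙 (∐ A) := by
    rw [← cancel_epi θ.hom, ← cancel_mono θ.inv]
    have h2 : ∀ j, θ.hom ≫ ((θ.inv ≫ biproduct.π A j) ≫ Sigma.ι A j) ≫ θ.inv = biproduct.π A j ≫ biproduct.ι A j := by
      intro j
      have h3 : Sigma.ι A j ≫ θ.inv = biproduct.ι A j := by
        rw [biproduct.isoCoproduct_inv]; simp
      simp only [Category.assoc, Iso.hom_inv_id_assoc, h3]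
    rw [Preadditive.comp_sum, Preadditive.sum_comp]
    simp only [Category.assoc] at h2 ⊢
    rw [Finset.sum_congr rfl fun j _ => h2 j, biproduct.total]
    simp
  have h3 := congr(($h1).app U m)
  have h4 : ∀ (φ ψ : ∐ A ⟶ ∐ A), (φ + ψ).app U m = φ.app U m + ψ.app U m := fun _ _ => rfl
  let T : (∐ A ⟶ ∐ A) →+ Γ(∐ A, U) := AddMonoidHom.mk' (fun φ => φ.app U m) h4
  have h5 : T (∑ j, (θ.inv ≫ biproduct.π A j) ≫ Sigma.ι A j) = ∑ j, T ((θ.inv ≫ biproduct.π A j) ≫ Sigma.ι A j) :=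
    map_sum T _ _
  exact h3.symm.trans h5

theorem exists_comp (e : (Scheme.Modules.pushforward f).obj L ≅ ∐ A) (hA : ∀ j, PicF.IsInvertible (A j))
    {x : X} (h : ∀ U : C.Opens, IsAffineOpen U → f x ∈ U →
      ∃ (m : Γ(L, f ⁻¹ᵁ U)) (W : X.Opens) (hW : W ≤ f ⁻¹ᵁ U), x ∈ W ∧ IsGen (res L hW m)) :
    ∃ (j : Fin r) (W : X.Opens) (e' : Γ((Scheme.Modules.pullback f).obj (A j), W)), x ∈ W ∧ IsGen e' ∧
      IsGen ((cmp e j).app W e') := by
  choose U₀ g₀ hxU₀ hg₀ using fun j => (isInvertible_iff (A j)).1 (hA j) (f x)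
  obtain ⟨_, ⟨U, hU, rfl⟩, hxU, hle⟩ := C.isBasis_affineOpens.exists_subset_of_mem_open
    (show f x ∈ (⋂ j, (U₀ j : Set C)) from Set.mem_iInter.2 fun j => hxU₀ j)
    (isOpen_iInter_of_finite fun j => (U₀ j).isOpen)
  have hle' : ∀ j, U ≤ U₀ j := fun j y hy => Set.mem_iInter.1 (hle hy) j
  obtain ⟨m, W, hW, hxW, hm⟩ := h U hU hxU
  have hg : ∀ j, IsGen (res (A j) (hle' j) (g₀ j)) := fun j => (hg₀ j).res (hle' j)
  set g := fun j => res (A j) (hle' j) (g₀ j) with hgdef
  obtain ⟨n, hn⟩ := exists_sum (A := A) (e.hom.app U m)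
  choose c hc using fun j => (hg j).exists_eq (n j)
  have h1 : m = ∑ j, (f.app U (c j) : Γ(X, f ⁻¹ᵁ U)) • (cmp e j).app (f ⁻¹ᵁ U) (pullSec f (g j)) := by
    have h2 : e.inv.app U (e.hom.app U m) = m := by
      have := congr(($(e.hom_inv_id).app U) m)
      exact this
    rw [← h2, hn, map_sum]
    refine Finset.sum_congr rfl fun j _ => ?_
    rw [hc j, Scheme.Modules.Hom.app_smul, Scheme.Modules.Hom.app_smul, cmp_app]
    rfl
  choose b hb using fun j => hm.exists_eq (res L hW ((cmp e j).app (f ⁻¹ᵁ U) (pullSec f (g j))))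
  have h3 : (1 : Γ(X, W)) = ∑ j, ores hW (f.app U (c j)) * b j := by
    refine hm.ext ?_
    rw [one_smul, Finset.sum_smul]
    conv_lhs => rw [h1, map_sum]
    refine Finset.sum_congr rfl fun j _ => ?_
    rw [res_smul, hb j, mul_smul]
  have h4 : ∃ j, IsUnit (X.presheaf.germ W x hxW (b j)) := by
    by_contra hcon
    push Not at hcon
    have h5 := congrArg (X.presheaf.germ W x hxW).hom h3
    rw [map_one, map_sum] at h5
    have h6 : (1 : X.presheaf.stalk x) ∈ IsLocalRing.maximalIdeal (X.presheaf.stalk x) := by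
      rw [h5]
      refine Ideal.sum_mem _ fun j _ => ?_
      rw [map_mul]
      exact Ideal.mul_mem_left _ _ (hcon j)
    exact (IsLocalRing.maximalIdeal.isMaximal _).ne_top ((Ideal.eq_top_iff_one _).2 h6)
  obtain ⟨j, hj⟩ := h4
  have hxb : x ∈ X.basicOpen (b j) := (X.mem_basicOpen (b j) x hxW).2 hj
  have hbW : X.basicOpen (b j) ≤ W := X.basicOpen_le _
  have h7 : IsGen (pullSec f (g j)) := (hg j).pullSec f
  refine ⟨j, X.basicOpen (b j), res _ (hbW.trans hW) (pullSec f (g j)), hxb, h7.res _, ?_⟩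
  rw [app_res, ← res_res L hW hbW, hb j, res_smul]
  exact (hm.res hbW).unit_smul (X.toRingedSpace.isUnit_res_basicOpen (b j))

/-- The component maps are split monomorphisms on sections. -/
theorem cmp_ne_zero (e : (Scheme.Modules.pushforward f).obj L ≅ ∐ A) (j : Fin r) {U : C.Opens} {g : Γ(A j, U)}
    (h : (cmp e j).app (f ⁻¹ᵁ U) (pullSec f g) = 0) : g = 0 := by
  classical
  have hbi : HasFiniteBiproducts C.Modules := HasFiniteBiproducts.of_hasFiniteProducts
  let θ := biproduct.isoCoproduct A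
  have h1 : (Sigma.ι A j ≫ e.inv) ≫ e.hom ≫ θ.inv ≫ biproduct.π A j = 𝟙 (A j) := by
    have h3 : Sigma.ι A j ≫ θ.inv = biproduct.ι A j := by
      rw [biproduct.isoCoproduct_inv]; simp
    simp only [Category.assoc, Iso.inv_hom_id_assoc, reassoc_of% h3, biproduct.ι_π_self]
  have h2 : (e.hom ≫ θ.inv ≫ biproduct.π A j).app U ((Sigma.ι A j ≫ e.inv).app U g) = g :=
    congr(($h1).app U g)
  rw [← h2, ← cmp_app, h]
  exact map_zero _

theorem stalk_ne_zero [IsIntegral X] (hL : PicF.IsInvertible L)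
    (hA : ∀ j, PicF.IsInvertible (A j)) (e : (Scheme.Modules.pushforward f).obj L ≅ ∐ A) (j : Fin r) :
    CycB.StalkExact.stalkLin (cmp e j) (genericPoint X) ≠ 0 := by
  intro h0
  obtain ⟨U, g, hU, hg⟩ := (isInvertible_iff (A j)).1 (hA j) (f (genericPoint X))
  have hη : genericPoint X ∈ f ⁻¹ᵁ U := hU
  have h1 : L.presheaf.germ (f ⁻¹ᵁ U) _ hη ((cmp e j).app (f ⁻¹ᵁ U) (pullSec f g)) = 0 := by
    rw [← CycB.StalkExact.stalkLin_germ, h0]; rfl
  rw [← map_zero (L.presheaf.germ (f ⁻¹ᵁ U) _ hη).hom] at h1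
  obtain ⟨W, hW, i₁, i₂, h2⟩ := L.presheaf.germ_eq _ hη hη _ _ h1
  have h3 := CurvesC.InvSec.eq_zero_of_res_eq_zero hL i₁.le ⟨_, hW⟩ ((cmp e j).app (f ⁻¹ᵁ U) (pullSec f g))
    (by rw [show (homOfLE i₁.le) = i₁ from rfl, h2]; exact map_zero _)
  have h4 := cmp_ne_zero e j h3
  have h5 : (1 : Γ(C, U)) = 0 := hg.ext (by rw [h4, smul_zero, smul_zero])
  have : Nonempty U := ⟨⟨_, hU⟩⟩
  exact one_ne_zero h5

/-- The divisors of the component maps: their supports have empty intersection. -/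
theorem exists_divs [IsIntegral X] (hL : PicF.IsInvertible L)
    (hA : ∀ j, PicF.IsInvertible (A j)) (e : (Scheme.Modules.pushforward f).obj L ≅ ∐ A) :
    ∃ D : Fin r → X.IdealSheafData, (∀ j, BlowUp.IsEffCartierIdeal (D j)) ∧
      (∀ j, Nonempty (CohB1.tensorMod L (ClSub.idealMod (D j)) ≅ (Scheme.Modules.pullback f).obj (A j))) ∧
      ∀ x : X, (∀ U : C.Opens, IsAffineOpen U → f x ∈ U →
        ∃ (m : Γ(L, f ⁻¹ᵁ U)) (W : X.Opens) (hW : W ≤ f ⁻¹ᵁ U), x ∈ W ∧ IsGen (res L hW m)) →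
        ∃ j, x ∉ (D j).support := by
  choose D h1 h2 h3 using fun j => K430.DivHom.exists_div (isInvertible_pullback f (hA j)) hL (cmp e j)
    (stalk_ne_zero hL hA e j)
  refine ⟨D, h1, h2, fun x hx => ?_⟩
  obtain ⟨j, W, e', hxW, he', hg⟩ := exists_comp e hA hx
  refine ⟨j, ?_⟩
  have h4 := h3 j x W hxW e' ((cmp e j).app W e') 1 he' hg (one_smul _ _).symm
  rw [Divis.CartierBasic.mem_support_iff_stalkIdeal_ne_top, not_not, h4, map_one]
  exact Ideal.span_singleton_one

end comp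

end K455.GenTwo
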