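import Groth.Agent.Surf.K455.GenTwoRel
import Groth.Agent.Surf.K455.GenTwoBase

/-!
# Smooth families of curves of genus two over the projective line: the relative canonical module is `O` twice (K455)

`main_num`: `f_* Ω_{X/P¹} ≅ O ⊕ O`.
-/

set_option autoImplicit false
universe u
open CategoryTheory CategoryTheory.Limits AlgebraicGeometry TopologicalSpace Opposite

namespace K455.GenTwo

open Groth.Agent K464.PtCurve K464.FibCurve K464.DegCurve K464.Curves K464.Base Groth.Agent.Fdesc.LocGen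
  Groth.Agent.Grpsch.PicGrp

section fib

variable (k : Type u) [Field k] [IsAlgClosed k] {X B : Scheme.{u}} [X.Over (Spec (CommRingCat.of k))]
  [B.Over (Spec (CommRingCat.of k))] [IsProper (X ↘ Spec (CommRingCat.of k))] [IsProper (B ↘ Spec (CommRingCat.of k))]
  [IsIntegral B] (f : X ⟶ B)
  (hf : f ≫ (B ↘ Spec (CommRingCat.of k)) = X ↘ Spec (CommRingCat.of k))

omit [IsAlgClosed k] [IsProper (X ↘ Spec (CommRingCat.of k))] [IsProper (B ↘ Spec (CommRingCat.of k))]
  [IsIntegral B] [Field k] [X.Over (Spec (CommRingCat.of k))] [B.Over (Spec (CommRingCat.of k))] in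
theorem ker_fiberι_eq {b : B} (hb : IsClosed ({b} : Set B)) : (f.fiberι b).ker = (pt hb).comap f := by
  have hcl : IsClosedImmersion (B.fromSpecResidueField b) := (isClosed_singleton_iff_isClosedImmersion).1 hb
  rw [K456.FibDiv.ker_fiberι, K318.PtPow.ker_fromSpecResidueField_eq hb]

omit [IsAlgClosed k] [IsProper (X ↘ Spec (CommRingCat.of k))] [IsProper (B ↘ Spec (CommRingCat.of k))]
  [IsIntegral B] [Field k] [X.Over (Spec (CommRingCat.of k))] [B.Over (Spec (CommRingCat.of k))] in
theorem mem_support_fibre {b : B} (hb : IsClosed ({b} : Set B)) (x : X) :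
    x ∈ ((pt hb).comap f).support ↔ f x = b := by
  rw [Scheme.IdealSheafData.support_comap]
  exact mem_support_pt hb (f x)

include hf in
/-- The closed fibres of a family of curves are curves. -/
theorem isCurve_fibre {g : ℕ} (hc : K333.Fam.IsCurve f g) {b : B} (hb : IsClosed ({b} : Set B)) :
    IsCurve ((pt hb).comap f) := by
  let _ := overC k X ((pt hb).comap f)
  have := isProper_sub k X ((pt hb).comap f)
  obtain ⟨τ, hτ, H⟩ := exists_isPullback_fibre k f hf hb
  obtain ⟨h1, h2, h3, h4, -⟩ := hc.field k τ _ _ H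
  have h5 : Smooth (((pt hb).comap f).subscheme ↘ Spec (CommRingCat.of k)) := SmoothOfRelativeDimension.smooth 1 _
  have hN : IsNoetherian ((pt hb).comap f).subscheme := CurvesB.CurveRR.isNoetherian_of_proper k _
  have : ConnectedSpace ((pt hb).comap f).subscheme :=
    GeometricallyConnected.connectedSpace (f := ((pt hb).comap f).subscheme ↘ Spec (CommRingCat.of k))
      (((pt hb).comap f).subscheme ↘ Spec (CommRingCat.of k)).isOpenMap
  exact ⟨RelDim.isIntegral_of_regular (K456.FibDiv.isRegular_of_smooth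
    (((pt hb).comap f).subscheme ↘ Spec (CommRingCat.of k))), (dim_sub X _).symm.trans h4⟩

variable [IsIntegral X] [Smooth (X ↘ Spec (CommRingCat.of k))] (hdim : topologicalKrullDim X = 2)
  (hB : topologicalKrullDim B = 1) (hreg : ∀ b : B, IsRegularLocalRing (B.presheaf.stalk b)) [IsDominant f]

include hdim hB hreg hf in
/-- `ω·F = -2 χ(O_F)`. -/
theorem fd_canonical {WX : X.Modules} (hWX : ExtPow.IsExtPow 2 (Omega.sheaf (X ↘ Spec (CommRingCat.of k))) WX)
    (hW : PicF.IsInvertible WX) {b : B} (hb : IsClosed ({b} : Set B)) :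
    fd f WX = -2 * Curv2.euler k X (ClSub.quotMod ((pt hb).comap f)) := by
  have : IsNoetherian B := CurvesB.CurveRR.isNoetherian_of_proper k B
  have hE := isEff_pt k (B ↘ Spec (CommRingCat.of k)) hB hreg hb
  have h1 := K459.Arak.adjunction k hdim hWX hW (isEff_fibre f hB hb hE)
  rw [← pull_ic f hE (isEff_fibre f hB hb hE), dot_pull k f hf hdim.le hB hreg _ hW,
    dot_pull_pull k f hf hdim.le hB hreg, degC_pt k hB hb hE] at h1
  linarith

end fib

section P1

open K443.P1V K443.P1Push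

variable (k : Type u) [Field k] [IsAlgClosed k] {X : Scheme.{u}} [X.Over (Spec (CommRingCat.of k))]
  [IsProper (X ↘ Spec (CommRingCat.of k))] [Smooth (X ↘ Spec (CommRingCat.of k))] [IsIntegral X]
  (hdim : topologicalKrullDim X = 2) (f : X ⟶ CohB1.ProjSpace 1 k)
  (hf : f ≫ (CohB1.ProjSpace 1 k ↘ Spec (CommRingCat.of k)) = X ↘ Spec (CommRingCat.of k))
  (hc : K333.Fam.IsCurve f 2)

/-- The class of a fibre. -/
noncomputable abbrev hcl : Pic X := pull f (mk (O k 1) (isInvertible_O k 1))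

/-- The class of a closed fibre. -/
theorem hcl_eq (hdom : IsDominant f) {b : CohB1.ProjSpace 1 k} (hb : IsClosed ({b} : Set (CohB1.ProjSpace 1 k))) :
    ∃ hE : BlowUp.IsEffCartierIdeal ((pt hb).comap f), hcl k f = (ic ((pt hb).comap f) hE)⁻¹ := by
  have i0 := isProper_P1 k
  have hE := isEff_pt k (CohB1.ProjSpace 1 k ↘ Spec (CommRingCat.of k)) (dim_P1 k) (reg_P1 k) hb
  refine ⟨isEff_fibre f (dim_P1 k) hb hE, ?_⟩
  rw [← pull_ic f hE (isEff_fibre f (dim_P1 k) hb hE), pic_eq k (ic (pt hb) hE), degC_pt k (dim_P1 k) hb hE,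
    zpow_neg_one, map_inv, inv_inv]

include hdim hf hc in
theorem main_num {WX : X.Modules} (hWX : ExtPow.IsExtPow 2 (Omega.sheaf (X ↘ Spec (CommRingCat.of k))) WX)
    (hWi : PicF.IsInvertible WX)
    (hgen : ∀ c : CohB1.ProjSpace 1 k, IsClosed ({c} : Set (CohB1.ProjSpace 1 k)) →
      Curv2.euler k X (ClSub.quotMod (f.fiberι c).ker) = -1)
    (hN : 12 * Curv2.euler k X (Coh.structureModule X) = dot k X (mk WX hWi) (mk WX hWi) +
      (Curv2.euler k X (Coh.structureModule X) - Curv2.euler k X (Omega.sheaf (X ↘ Spec (CommRingCat.of k))) +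
        Curv2.euler k X WX)) (hΩ : PicF.IsInvertible (Omega.sheaf f)) :
    Nonempty ((Scheme.Modules.pushforward f).obj (Omega.sheaf f) ≅ ∐ fun _ : Fin 2 => O k 0) ∧
      dot k X (hcl k f) (mk _ hΩ) = 2 ∧
      chi k X (mk _ hΩ) = Curv2.euler k X (Coh.structureModule X) + 2 := by
  have i0 := isProper_P1 k
  have i0' := smooth_P1 k
  have i1 := hc.proper
  have i2 := hc.rel
  have i3 := hc.conn
  have i4 := hc.smooth
  have hP1 := dim_P1 k
  have hregP := reg_P1 k
  have i5 : SmoothOfRelativeDimension 1 (CohB1.ProjSpace 1 k ↘ Spec (CommRingCat.of k)) :=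
    inferInstanceAs (SmoothOfRelativeDimension 1 (CohB1.ProjSpace.toSpec 1 k))
  have i6 : IsNoetherian (CohB1.ProjSpace 1 k) := CurvesB.CurveRR.isNoetherian_of_proper k _
  have hNX : IsNoetherian X := CurvesB.CurveRR.isNoetherian_of_proper k X
  have hJ : JacobsonSpace (CohB1.ProjSpace 1 k) :=
    LocallyOfFiniteType.jacobsonSpace (CohB1.ProjSpace 1 k ↘ Spec (CommRingCat.of k))
  have hsurj : Surjective f := inferInstance
  have hdom : IsDominant f := ⟨hsurj.surj.denseRange⟩
  have hreg : ∀ x : X, IsRegularLocalRing (X.presheaf.stalk x) := fun x => S1535.result k X x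
  have i7 : SmoothOfRelativeDimension 2 (X ↘ Spec (CommRingCat.of k)) :=
    Picfga.CurveRelDim.smoothOfRelativeDimension_of_topologicalKrullDim_eq k X _ 2 hdim
  have hd := hdim.le
  set m := mk (Omega.sheaf f) hΩ with hm
  set h := hcl k f with hh
  set χ := Curv2.euler k X (Coh.structureModule X) with hχ
  obtain ⟨c, -, hcc⟩ := (isClosed_univ (X := CohB1.ProjSpace 1 k)).exists_closed_singleton Set.univ_nonempty
  have hΩC : PicF.IsInvertible (Omega.sheaf (CohB1.ProjSpace 1 k ↘ Spec (CommRingCat.of k))) :=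
    K333.OmegaFam.isInvertible_omega _
  have hpull : pull f (mk _ hΩC) = h ^ (-2 : ℤ) := by
    rw [pic_eq k (mk _ hΩC), K459.Arak.degC_omega k hP1, euler_P1, map_zpow, hh]; norm_num
  have hWm : mk WX hWi = h ^ (-2 : ℤ) * m := by
    rw [mk_canonical hf hWX hWi hΩC hΩ, hpull]
  have hmW : m = mk WX hWi * h ^ 2 := by
    rw [hWm, mul_right_comm, ← zpow_natCast, ← zpow_add]; simp
  have h00 : dot k X h h = 0 := dot_pull_pull k f hf hd hP1 hregP _ _
  have hfd : fd f WX = 2 := by
    rw [fd_canonical k f hf hdim hP1 hregP hWX hWi hcc, ← ker_fiberι_eq f hcc, hgen c hcc]; norm_num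
  have hhW : dot k X h (mk WX hWi) = 2 := by
    rw [hh, hcl, dot_pull k f hf hd hP1 hregP _ hWi, hfd, degC_O]; norm_num
  have hhm : dot k X h m = 2 := by
    rw [hmW, dot_mul_right k X hd, hhW, dot_pow_right k X hd, h00]; norm_num
  have rr : ∀ a : Pic X, 2 * chi k X a = dot k X a a - dot k X a (mk WX hWi) + 2 * χ := by
    intro a
    obtain ⟨L, hL, rfl⟩ := exists_mk a
    have h1 := K455.SmoothRR.rr k hWX hd hL
    rw [intNum_eq_dot k X hd hL hL, intNum_eq_dot k X hd hL hWi, Fga.IntAdd.eulerCharLE_eq k X 2 hd,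
      Fga.IntAdd.eulerCharLE_eq k X 2 hd] at h1
    exact h1
  have hχW : Curv2.euler k X WX = χ := by
    have h1 := K455.SmoothRR.euler_W k hWX
    rwa [Fga.IntAdd.eulerCharLE_eq k X 2 hd, Fga.IntAdd.eulerCharLE_eq k X 2 hd] at h1
  have hχm : chi k X m = χ + 2 := by
    have h2 := rr m
    rw [hWm, dot_mul_right k X hd, dot_zpow_right k X hd, dot_comm k X m h, hhm] at h2
    linarith
  have hχΩ : Curv2.euler k X (Omega.sheaf (X ↘ Spec (CommRingCat.of k))) = 2 * χ + 4 := by
    rw [euler_Omega hf hΩC hΩ, hpull]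
    have h1 := rr (h ^ (-2 : ℤ))
    rw [dot_zpow_left k X hd, dot_zpow_right k X hd, dot_zpow_left k X hd, h00, hhW] at h1
    linarith
  have hnoe : 12 * χ = dot k X (mk WX hWi) (mk WX hWi) - 4 := by
    rw [hN, hχW, hχΩ]; ring
  obtain ⟨a, ⟨ea⟩, hchi⟩ := push_data k hdim f hf hc hWX hcc (hgen c hcc)
  obtain ⟨D, hD, heD, hloc⟩ := exists_divs (f := f) hΩ (fun j => isInvertible_O k (a j)) ea
  have hdis : Disjoint ((D 0).support : Set X) (D 1).support := by
    rw [Set.disjoint_iff_inter_eq_empty]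
    by_contra hne
    obtain ⟨x, hx, hxc⟩ := (((D 0).support.isClosed).inter (D 1).support.isClosed).exists_closed_singleton
      (Set.nonempty_iff_ne_empty.2 hne)
    have hfx : IsClosed ({f x} : Set (CohB1.ProjSpace 1 k)) := by
      have h1 := f.isClosedMap _ hxc
      rwa [Set.image_singleton] at h1
    obtain ⟨j, hj⟩ := hloc x fun U hU hxU =>
      exists_gen (k := k) (CohB1.ProjSpace 1 k ↘ Spec (CommRingCat.of k)) hc hfx hU hxU
    fin_cases j
    · exact hj hx.1
    · exact hj hx.2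
  have hab : ∀ j, m * h ^ (-(a j)) = (ic (D j) (hD j))⁻¹ := by
    intro j
    have h1 : m * ic (D j) (hD j) = h ^ (a j) := by
      rw [hm, hh, hcl, ← map_zpow, ← mk_O, pull_mk]
      exact (mk_mul_mk _ _).trans ((mk_eq_iff _ _).2 (heD j))
    rw [zpow_neg, ← h1, mul_inv, mul_inv_cancel_left]
  have hgp : ∀ (E : X.IdealSheafData), IsCurve E → ∀ (b : CohB1.ProjSpace 1 k)
      (hb : IsClosed ({b} : Set (CohB1.ProjSpace 1 k))) (hE : IsCurve E), f (gp hE) ≠ b →
      ∃ hF : BlowUp.IsEffCartierIdeal ((pt hb).comap f), gp hE ∉ ((pt hb).comap f).support ∧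
        degOn k X E h = - degOn k X E (ic ((pt hb).comap f) hF) := by
    intro E _ b hb hE hne
    obtain ⟨hF, e⟩ := hcl_eq k f hdom hb
    refine ⟨hF, fun h1 => hne ((mem_support_fibre f hb _).1 h1), ?_⟩
    rw [hh, e, degOn_inv k hE]
  have hinf : ∀ y : CohB1.ProjSpace 1 k, ∃ b, IsClosed ({b} : Set (CohB1.ProjSpace 1 k)) ∧ y ≠ b := by
    intro y
    by_cases hy : y = genericPoint (CohB1.ProjSpace 1 k)
    · exact ⟨c, hcc, fun h => ne_generic hP1 hcc (h.symm.trans hy)⟩
    · have hy' := isClosed_of_ne hP1 hy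
      obtain ⟨b, hb, hbc⟩ := nonempty_inter_closedPoints (X := CohB1.ProjSpace 1 k) (Z := ({y} : Set _)ᶜ)
        ⟨genericPoint (CohB1.ProjSpace 1 k), fun h => hy h.symm⟩ hy'.isOpen_compl.isLocallyClosed
      exact ⟨b, hbc, fun h => hb h.symm⟩
  have hnef : ∀ E : X.IdealSheafData, IsCurve E → 0 ≤ degOn k X E h := by
    intro E hE
    obtain ⟨b, hb, hne⟩ := hinf (f (gp hE))
    obtain ⟨hF, h1, h2⟩ := hgp E hE b hb hE hne
    have := degOn_ic_nonpos k hE hF h1
    linarith
  have hvert : ∀ E : X.IdealSheafData, IsCurve E → degOn k X E h = 0 → 0 ≤ degOn k X E m := by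
    intro E hE h0
    by_cases hy : f (gp hE) = genericPoint (CohB1.ProjSpace 1 k)
    · exfalso
      obtain ⟨hF, h1, h2⟩ := hgp E hE c hcc hE (fun h => ne_generic hP1 hcc (h.symm.trans hy))
      have hcl2 := f.isClosedMap _ E.support.isClosed
      have h3 : c ∈ f '' (E.support : Set X) := by
        have h4 : closure {genericPoint (CohB1.ProjSpace 1 k)} ⊆ f '' (E.support : Set X) :=
          closure_minimal (Set.singleton_subset_iff.2 ⟨gp hE, gp_mem hE, hy⟩) hcl2
        rw [(genericPoint_spec _).def] at h4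
        exact h4 trivial
      obtain ⟨x, hx, hxc⟩ := h3
      have := degOn_ic_neg k hE hF h1 (Set.not_disjoint_iff.2 ⟨x, hx, (mem_support_fibre f hcc x).2 hxc⟩)
      linarith
    · have hb := isClosed_of_ne hP1 hy
      have hF := isCurve_fibre k f hf hc hb
      have e : E = (pt hb).comap f := eq_of_gp_mem hE hF ((mem_support_fibre f hb _).2 rfl)
      obtain ⟨hF', h1⟩ := hcl_eq k f hdom hb
      rw [e, degOn_eq_neg_dot k X hF', ← dot_inv_left k X hd, ← h1, hhm]
      norm_num
  obtain ⟨H, hH⟩ := K456.AmpleEx.exists_ample k X hdim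
  obtain ⟨ha0, hb0, hmm⟩ := num (k := k) hdim hH hWX hWi hmW h00 hhm hnef hvert (hD 0) (hD 1) (hab 0) (hab 1) hdis hchi
    hnoe
  refine ⟨⟨ea ≪≫ eqToIso ?_⟩, hhm, hχm⟩
  congr 1
  funext j
  fin_cases j
  · simp [ha0]
  · simp [hb0]

end P1

end K455.GenTwo
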