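import Groth.Agent.Surf.K459.Arak
import Groth.Agent.AdjLin.K801.DotForm
import Groth.Agent.Surf.K464.Comp

/-!
# Smooth families of curves of genus two over the projective line: numerical part (K455)

`m` the class of the relative canonical module, `h` the class of a fibre, `W = m h⁻²` the canonical class.
* `dot_disjoint`: disjoint effective divisors.
* `light_cone`: `c² > 0`, `m² = h² = 0`, `m·h > 0`, `c·h > 0` imply `0 ≤ c·m`.
* `num`: from two disjoint sections of `m h^(-a)`, `m h^(-b)`, `χ(O) = a + b - 1` and Noether: `a = b = 0`, `m² = 0`.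
-/

set_option autoImplicit false
universe u
open CategoryTheory CategoryTheory.Limits AlgebraicGeometry

namespace K455.GenTwo

open Groth.Agent Groth.Agent.Grpsch.PicGrp K464.Base K464.Curves K464.Comp Groth.Agent.Dix.IdealModCartier
  Groth.Agent.Divis.EffCartier Groth.Agent.Divis.IdealComap Groth.Agent.Divis.CartierBasic

variable {k : Type u} [Field k] {X : Scheme.{u}} [X.Over (Spec (CommRingCat.of k))]
  [IsProper (X ↘ Spec (CommRingCat.of k))]

/-- Disjoint effective divisors have intersection number zero. -/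
theorem dot_disjoint [IsIntegral X] (hdim : topologicalKrullDim X = 2)
    (hreg : ∀ x : X, IsRegularLocalRing (X.presheaf.stalk x)) {E : X.IdealSheafData}
    (hE : BlowUp.IsEffCartierIdeal E) (F : X.IdealSheafData) (hF : BlowUp.IsEffCartierIdeal F)
    (h : Disjoint (F.support : Set X) E.support) : dot k X (ic F hF) (ic E hE) = 0 := by
  have hN : IsNoetherian X := CurvesB.CurveRR.isNoetherian_of_proper k X
  refine eff_induction k (X ↘ Spec (CommRingCat.of k)) hdim hreg
    (P := fun F => ∀ hF : BlowUp.IsEffCartierIdeal F, Disjoint (F.support : Set X) E.support →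
      dot k X (ic F hF) (ic E hE) = 0) ?_ ?_ F hF hF h
  · intro hF _
    rw [ic_congr hF isEff_top rfl, ic_top, dot_one_left]
  · intro C F hC hCe hFe ih hCF hd
    have h1 : ((C * F).support : Set X) = (C.support : Set X) ∪ F.support := by
      rw [Scheme.IdealSheafData.support_mul]; rfl
    rw [h1, Set.disjoint_union_left] at hd
    rw [ic_congr hCF (isEff_mul hCe hFe) rfl, ic_mul hCe hFe, dot_mul_left k X hdim.le, ih hFe hd.2,
      dot_ic_eq k X hCe, degOn_ic_eq_zero k hC hE hd.1]
    ring

/-- The light cone. -/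
theorem light_cone [IsIntegral X] (hdim : topologicalKrullDim X = 2) {H : X.Modules} (hH : CohB1.IsAmple H)
    {m h c : Pic X} (hm : dot k X m m = 0) (hh : dot k X h h = 0) (hmh : 0 < dot k X m h)
    (hc : 0 < dot k X c c) (hch : 0 < dot k X c h) : 0 ≤ dot k X c m := by
  by_contra hcon
  push Not at hcon
  have hd := hdim.le
  have h1 : dot k X (m ^ (dot k X c h) * h ^ (- dot k X c m)) (m ^ (dot k X c h) * h ^ (- dot k X c m)) =
      2 * (dot k X c h * (- dot k X c m) * dot k X m h) := by
    rw [dot_mul_left k X hd, dot_mul_right k X hd, dot_mul_right k X hd]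
    simp only [dot_zpow_left k X hd, dot_zpow_right k X hd]
    rw [hm, hh, dot_comm k X h m]
    ring
  have h2 : dot k X (m ^ (dot k X c h) * h ^ (- dot k X c m)) c = 0 := by
    rw [dot_mul_left k X hd, dot_zpow_left k X hd, dot_zpow_left k X hd, dot_comm k X m c, dot_comm k X h c]
    ring
  have h3 : 0 < dot k X c h * (- dot k X c m) * dot k X m h := mul_pos (mul_pos hch (by linarith)) hmh
  have h4 := K801.DotForm.hodge hdim hH (a := m ^ (dot k X c h) * h ^ (- dot k X c m)) (b := c)
    (by rw [h1]; linarith) h2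
  linarith

variable [IsAlgClosed k] [Smooth (X ↘ Spec (CommRingCat.of k))] [IsIntegral X] (hdim : topologicalKrullDim X = 2)

omit [Smooth (X ↘ Spec (CommRingCat.of k))] [IsIntegral X] in
theorem euler_curve_le {D : X.IdealSheafData} (hD : IsCurve D) : Curv2.euler k X (ClSub.quotMod D) ≤ 1 := by
  let _ := overC k X D
  have := isProper_sub k X D
  have := hD.integral
  rw [euler_quotMod_sub]
  have h1 : topologicalKrullDim D.subscheme = 1 := (dim_sub X D).trans hD.dim
  rw [CurvesC.CurveCoh.euler_eq k D.subscheme h1]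
  have h2 := VarietyA.CurveFin.finrank_h0_structure k D.subscheme
  rw [h2]
  push_cast
  linarith [Int.natCast_nonneg (Module.finrank k (Coh.HH D.subscheme (Coh.structureModule D.subscheme) 1))]

include hdim in
/-- Adjunction inequality for an integral curve: `c² + c·W ≥ -2`. -/
theorem adj_ge {WX : X.Modules} (hWX : ExtPow.IsExtPow 2 (Omega.sheaf (X ↘ Spec (CommRingCat.of k))) WX)
    (hW : PicF.IsInvertible WX) {D : X.IdealSheafData} (hC : IsCurve D) (hD : BlowUp.IsEffCartierIdeal D) :
    -2 ≤ dot k X (ic D hD)⁻¹ (ic D hD)⁻¹ + dot k X (ic D hD)⁻¹ (mk WX hW) := by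
  have h1 := K459.Arak.adjunction k hdim hWX hW hD
  have h2 := euler_curve_le (k := k) hC
  rw [dot_inv_inv k X hdim.le, dot_inv_left k X hdim.le]
  linarith

include hdim in
/-- The numerical part. -/
theorem num {H : X.Modules} (hH : CohB1.IsAmple H)
    {WX : X.Modules} (hWX : ExtPow.IsExtPow 2 (Omega.sheaf (X ↘ Spec (CommRingCat.of k))) WX)
    (hW : PicF.IsInvertible WX) {m h : Pic X} (hmW : m = mk WX hW * h ^ 2) (hh : dot k X h h = 0)
    (hhm : dot k X h m = 2)
    (hnef : ∀ D : X.IdealSheafData, IsCurve D → 0 ≤ degOn k X D h)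
    (hvert : ∀ D : X.IdealSheafData, IsCurve D → degOn k X D h = 0 → 0 ≤ degOn k X D m)
    {a b : ℤ} {Da Db : X.IdealSheafData} (hDa : BlowUp.IsEffCartierIdeal Da) (hDb : BlowUp.IsEffCartierIdeal Db)
    (ha : m * h ^ (-a) = (ic Da hDa)⁻¹) (hb : m * h ^ (-b) = (ic Db hDb)⁻¹)
    (hdis : Disjoint (Da.support : Set X) Db.support)
    (hchi : Curv2.euler k X (Coh.structureModule X) = a + b - 1)
    (hnoe : 12 * Curv2.euler k X (Coh.structureModule X) = dot k X (mk WX hW) (mk WX hW) - 4) :
    a = 0 ∧ b = 0 ∧ dot k X m m = 0 := by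
  have hd := hdim.le
  have hreg : ∀ x : X, IsRegularLocalRing (X.presheaf.stalk x) := fun x => S1535.result k X x
  have hmh : dot k X m h = 2 := by rw [dot_comm]; exact hhm
  have hW' : mk WX hW = m * h ^ (-2 : ℤ) := by
    rw [hmW, mul_assoc, ← zpow_natCast, ← zpow_add]; simp
  have hWW : dot k X (mk WX hW) (mk WX hW) = dot k X m m - 8 := by
    rw [hW', dot_mul_left k X hd, dot_mul_right k X hd, dot_mul_right k X hd]
    simp only [dot_zpow_left k X hd, dot_zpow_right k X hd]
    rw [hh, hmh, hhm]; ring
  have h1 : dot k X (m * h ^ (-a)) (m * h ^ (-b)) = 0 := by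
    rw [ha, hb, dot_inv_inv k X hd]
    exact dot_disjoint hdim hreg hDb Da hDa hdis
  have h2 : dot k X m m = 2 * (a + b) := by
    rw [dot_mul_left k X hd, dot_mul_right k X hd, dot_mul_right k X hd] at h1
    simp only [dot_zpow_left k X hd, dot_zpow_right k X hd] at h1
    rw [hh, hmh, hhm] at h1; linarith
  have hab : a + b = 0 := by
    rw [hWW, hchi, h2] at hnoe; linarith
  have hmm : dot k X m m = 0 := by rw [h2, hab]; ring
  have key : ∀ (a : ℤ) (D : X.IdealSheafData) (hD : BlowUp.IsEffCartierIdeal D), m * h ^ (-a) = (ic D hD)⁻¹ →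
      a ≤ 0 := by
    intro a D hD haD
    by_contra hpos
    push Not at hpos
    have h3 : degOn k X D m = -2 * a := by
      rw [degOn_eq_neg_dot k X hD, ← dot_inv_left k X hd, ← haD, dot_mul_left k X hd, dot_zpow_left k X hd, hmm, hhm]
      ring
    have h4 : ¬ ∀ C : X.IdealSheafData, IsCurve C → 0 ≤ degOn k X C m := fun hall => by
      have := degOn_nonneg_of_forall k hdim hall hD
      linarith
    push Not at h4
    obtain ⟨C, hC, hCm⟩ := h4
    have hCe : BlowUp.IsEffCartierIdeal C := isEff_of_isCurve k (X ↘ Spec (CommRingCat.of k)) hdim hreg hC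
    have h5 : 0 < degOn k X C h := by
      rcases (hnef C hC).lt_or_eq with h | h
      · exact h
      · exact absurd (hvert C hC h.symm) (by linarith)
    have h6 := adj_ge (k := k) hdim hWX hW hC hCe
    set c := (ic C hCe)⁻¹ with hc
    have h7 : dot k X c m = degOn k X C m := by
      rw [hc, dot_inv_left k X hd, degOn_eq_neg_dot k X hCe]
    have h8 : dot k X c h = degOn k X C h := by
      rw [hc, dot_inv_left k X hd, degOn_eq_neg_dot k X hCe]
    rw [hW', dot_mul_right k X hd, dot_zpow_right k X hd] at h6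
    have h9 := light_cone (k := k) hdim hH (m := m) (h := h) (c := c) hmm hh (by rw [hmh]; norm_num)
      (by linarith) (by linarith)
    linarith
  have ha0 := key a Da hDa ha
  have hb0 := key b Db hDb hb
  exact ⟨by linarith, by linarith, hmm⟩

end K455.GenTwo
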