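import Groth.Agent.Surf.K455.GenTwoGen
import Groth.Agent.Surf.K455.GenTwoNum
import Groth.Agent.Surf.K456.RelCanB
import Groth.Agent.Surf.K456.AmpleEx
import Groth.Agent.Surf.K443.P1Push
import Groth.Agent.ArSurf.K482.DetSes
import Groth.Agent.CurvesB.NodalExist460

/-!
# Smooth families of curves of genus two over the projective line: invariants (K455)
-/

set_option autoImplicit false
universe u
open CategoryTheory CategoryTheory.Limits AlgebraicGeometry TopologicalSpace Opposite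

namespace K455.GenTwo

open Groth.Agent K333.Fam K464.PtCurve K464.FibCurve K464.DegCurve K464.Curves K464.Base Groth.Agent.Fdesc.LocGen
  Groth.Agent.Grpsch.PicGrp

section rel

variable {k : Type u} [Field k] {X C : Scheme.{u}} [X.Over (Spec (CommRingCat.of k))]
  [C.Over (Spec (CommRingCat.of k))] {f : X ⟶ C}
  (hf : f ≫ (C ↘ Spec (CommRingCat.of k)) = X ↘ Spec (CommRingCat.of k)) [IsSeparated (C ↘ Spec (CommRingCat.of k))]
  [SmoothOfRelativeDimension 1 (C ↘ Spec (CommRingCat.of k))] [SmoothOfRelativeDimension 1 f] [IsSeparated f]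

include hf in
theorem exists_ses : ∃ S : ShortComplex X.Modules, S.ShortExact ∧
      Nonempty (S.X₁ ≅ (Scheme.Modules.pullback f).obj (Omega.sheaf (C ↘ Spec (CommRingCat.of k)))) ∧
      Nonempty (S.X₂ ≅ Omega.sheaf (X ↘ Spec (CommRingCat.of k))) ∧ Nonempty (S.X₃ ≅ Omega.sheaf f) := by
  have : Smooth f := SmoothOfRelativeDimension.smooth 1 f
  rw [← hf]
  exact Vancyc.H878.RelOmega.exists_shortExact f (C ↘ Spec (CommRingCat.of k))

include hf in
/-- `ω_X = f^* Ω_C · Ω_{X/C}`. -/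
theorem mk_canonical {WX : X.Modules} (hWX : ExtPow.IsExtPow 2 (Omega.sheaf (X ↘ Spec (CommRingCat.of k))) WX)
    (hWi : PicF.IsInvertible WX) (hC : PicF.IsInvertible (Omega.sheaf (C ↘ Spec (CommRingCat.of k))))
    (hO : PicF.IsInvertible (Omega.sheaf f)) :
    mk WX hWi = pull f (mk _ hC) * mk _ hO := by
  obtain ⟨S, hS, ⟨e1⟩, ⟨e2⟩, ⟨e3⟩⟩ := exists_ses hf
  have h1 : PicF.IsInvertible S.X₁ := K456.RelCan.isInvertible_of_iso e1.symm (isInvertible_pullback f hC)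
  have h3 : PicF.IsInvertible S.X₃ := K456.RelCan.isInvertible_of_iso e3.symm hO
  have r1 := Ega2.QCohLocal.isFinLocFreeOfRank_one_iff.2 h1
  have r3 := Ega2.QCohLocal.isFinLocFreeOfRank_one_iff.2 h3
  have r2 := Krr.H495.Rank.isFinLocFree_of_rank (Krr.H495.Rank.rank_shortExact hS r1 r3)
  obtain ⟨L₂, hL₂⟩ := Dual.H366.ExtQCoh.exists_isExtPow (1 + 1) (Ega2.QCohLocal.isQCoh_of_isFinLocFree r2)
  obtain ⟨e⟩ := K482.DetSes.det_ses hS r1 r3 (Sga67.TensorOps.isExtPow_one _) hL₂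
    (Sga67.TensorOps.isExtPow_one _)
  obtain ⟨e'⟩ := Sga67.TensorOps.nonempty_iso_of_isExtPow e2 hL₂ hWX
  rw [pull_mk, ← (mk_eq_iff h1 (isInvertible_pullback f hC)).2 ⟨e1⟩, ← (mk_eq_iff h3 hO).2 ⟨e3⟩, mk_mul_mk]
  exact ((mk_eq_iff _ hWi).2 ⟨e ≪≫ e'⟩).symm

include hf in
/-- `χ(Ω_X) = χ(f^* Ω_C) + χ(Ω_{X/C})`. -/
theorem euler_Omega [IsProper (X ↘ Spec (CommRingCat.of k))]
    (hC : PicF.IsInvertible (Omega.sheaf (C ↘ Spec (CommRingCat.of k)))) (hO : PicF.IsInvertible (Omega.sheaf f)) :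
    Curv2.euler k X (Omega.sheaf (X ↘ Spec (CommRingCat.of k))) =
      chi k X (pull f (mk _ hC)) + chi k X (mk _ hO) := by
  obtain ⟨S, hS, ⟨e1⟩, ⟨e2⟩, ⟨e3⟩⟩ := exists_ses hf
  have h1 : PicF.IsInvertible S.X₁ := K456.RelCan.isInvertible_of_iso e1.symm (isInvertible_pullback f hC)
  have h3 : PicF.IsInvertible S.X₃ := K456.RelCan.isInvertible_of_iso e3.symm hO
  have r1 := Ega2.QCohLocal.isFinLocFreeOfRank_one_iff.2 h1
  have r3 := Ega2.QCohLocal.isFinLocFreeOfRank_one_iff.2 h3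
  have r2 := Krr.H495.Rank.isFinLocFree_of_rank (Krr.H495.Rank.rank_shortExact hS r1 r3)
  have hN : IsNoetherian X := CurvesB.CurveRR.isNoetherian_of_proper k X
  have h := S1524.result k X S hS (isCoh_of_isInvertible k X h1) (K707.Slope.coh_of_vb r2)
    (isCoh_of_isInvertible k X h3)
  rw [pull_mk, chi_mk, chi_mk, ← euler_congr k X e1, ← euler_congr k X e2, ← euler_congr k X e3, h]

end rel

section P1

open K443.P1V K443.P1Push

variable (k : Type u) [Field k]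

theorem mk_O_add (a b : ℤ) : mk (O k a) (isInvertible_O k a) * mk (O k b) (isInvertible_O k b) =
    mk (O k (a + b)) (isInvertible_O k (a + b)) := by
  rw [mk_mul_mk, mk_eq_iff]
  exact Sga67.TwistProj.nonempty_mul 1 k a b

theorem mk_O_zero : mk (O k 0) (isInvertible_O k 0) = 1 := by
  obtain ⟨e⟩ := Ega2.TwistInv.nonempty_unit_iso (CohB1.polyGrading 1 k)
  have e' : Coh.structureModule (CohB1.ProjSpace 1 k) ≅ O k 0 := e
  rw [mk_eq_one_iff]
  exact ⟨e'.symm⟩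

theorem mk_O (a : ℤ) : mk (O k a) (isInvertible_O k a) = mk (O k 1) (isInvertible_O k 1) ^ a := by
  let φ : Multiplicative ℤ →* Pic (CohB1.ProjSpace 1 k) :=
    { toFun := fun n => mk (O k n.toAdd) (isInvertible_O k n.toAdd)
      map_one' := mk_O_zero k
      map_mul' := fun a b => (mk_O_add k a.toAdd b.toAdd).symm }
  have h1 : φ (Multiplicative.ofAdd a) = φ (Multiplicative.ofAdd 1) ^ a := by
    rw [← map_zpow, ← ofAdd_zsmul, smul_eq_mul, mul_one]
  exact h1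

theorem degC_O (a : ℤ) : degC k (CohB1.ProjSpace 1 k) (mk (O k a) (isInvertible_O k a)) = a := by
  rw [degC_mk]; exact deg_O k a

/-- `Pic P¹ = ℤ`. -/
theorem pic_eq (c : Pic (CohB1.ProjSpace 1 k)) :
    c = mk (O k 1) (isInvertible_O k 1) ^ (degC k (CohB1.ProjSpace 1 k) c) := by
  obtain ⟨L, hL, rfl⟩ := exists_mk c
  obtain ⟨d, e⟩ := S1697.result k 1 L hL
  rw [(mk_eq_iff hL (isInvertible_O k d)).2 e, degC_O, mk_O]

variable [IsAlgClosed k] {X : Scheme.{u}} [X.Over (Spec (CommRingCat.of k))]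
  [IsProper (X ↘ Spec (CommRingCat.of k))] [Smooth (X ↘ Spec (CommRingCat.of k))] [IsIntegral X]
  (hdim : topologicalKrullDim X = 2) (f : X ⟶ CohB1.ProjSpace 1 k)
  (hf : f ≫ (CohB1.ProjSpace 1 k ↘ Spec (CommRingCat.of k)) = X ↘ Spec (CommRingCat.of k)) (hc : IsCurve f 2)

theorem genus_P1 : Curv2.genus k (CohB1.ProjSpace 1 k) = 0 := by
  have h1 := h1_V (k := k) (ι := Fin 1) (a := fun _ => 0) (V := Coh.structureModule (CohB1.ProjSpace 1 k)) (by
    obtain ⟨e⟩ := Ega2.TwistInv.nonempty_unit_iso (CohB1.polyGrading 1 k)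
    have e' : Coh.structureModule (CohB1.ProjSpace 1 k) ≅ O k 0 := e
    exact ⟨e' ≪≫ (coproductUniqueIso (fun _ : Fin 1 => O k 0)).symm⟩)
  simp at h1
  exact h1

theorem euler_P1 : Curv2.euler k (CohB1.ProjSpace 1 k) (Coh.structureModule (CohB1.ProjSpace 1 k)) = 1 := by
  obtain ⟨e⟩ := Ega2.TwistInv.nonempty_unit_iso (CohB1.polyGrading 1 k)
  have e' : Coh.structureModule (CohB1.ProjSpace 1 k) ≅ O k 0 := e
  rw [K443.P1Push.euler_congr k e', euler_O]; norm_num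

theorem euler_V {V : (CohB1.ProjSpace 1 k).Modules} {a : Fin 2 → ℤ} (e : Nonempty (V ≅ ∐ fun j => O k (a j))) :
    Curv2.euler k (CohB1.ProjSpace 1 k) V = a 0 + a 1 + 2 := by
  have := isProper_P1 k
  have h0 := h0_V e
  have h1 := h1_V e
  rw [CurvesC.CurveCoh.euler_eq k (CohB1.ProjSpace 1 k) (dim_P1 k) V]
  simp only [K700.HDim.fr, Fin.sum_univ_two] at h0 h1
  rw [h0, h1]
  omega

include hdim hf hc in
theorem push_data {WX : X.Modules} (hWX : ExtPow.IsExtPow 2 (Omega.sheaf (X ↘ Spec (CommRingCat.of k))) WX)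
    {c : CohB1.ProjSpace 1 k} (hcl : IsClosed ({c} : Set (CohB1.ProjSpace 1 k)))
    (hgen : Curv2.euler k X (ClSub.quotMod (f.fiberι c).ker) = -1) :
    ∃ a : Fin 2 → ℤ, Nonempty ((Scheme.Modules.pushforward f).obj (Omega.sheaf f) ≅ ∐ fun j => O k (a j)) ∧
      Curv2.euler k X (Coh.structureModule X) = a 0 + a 1 - 1 := by
  have i0 := isProper_P1 k
  have i0' := smooth_P1 k
  have i1 := hc.proper
  have i2 := hc.rel
  have i3 := hc.conn
  have i4 := hc.smooth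
  have i5 : SmoothOfRelativeDimension 1 (CohB1.ProjSpace 1 k ↘ Spec (CommRingCat.of k)) :=
    inferInstanceAs (SmoothOfRelativeDimension 1 (CohB1.ProjSpace.toSpec 1 k))
  have i6 := Dcoh.DerSch.hasInjectiveResolutions X
  have hO : IsIso (ClSub.unitToPush f) := K333.Stein.isIso_unitToPush f
  have hΩC : PicF.IsInvertible (Omega.sheaf (CohB1.ProjSpace 1 k ↘ Spec (CommRingCat.of k))) :=
    K333.OmegaFam.isInvertible_omega _
  have hΩ : PicF.IsInvertible (Omega.sheaf f) := K333.OmegaFam.isInvertible_omega _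
  have hWi : PicF.IsInvertible WX := K456.Adj.isInvertible_canonical k hdim hWX
  have hpΩ := isInvertible_pullback f hΩC
  obtain ⟨M, hM, ⟨eM⟩⟩ := exists_inverse hpΩ
  have hMi : ClSub.IsInverseOf M ((Scheme.Modules.pullback f).obj
      (Omega.sheaf (CohB1.ProjSpace 1 k ↘ Spec (CommRingCat.of k)))) := ⟨Ega2.Tens.swap _ _ ≪≫ eM⟩
  have h1 : Nonempty (CohB1.tensorMod WX M ≅ Omega.sheaf f) := by
    rw [← mk_eq_iff (isInvertible_tensorMod hWi hM) hΩ, ← mk_mul_mk hWi hM, mk_canonical hf hWX hWi hΩC hΩ, pull_mk]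
    have h2 : mk _ hpΩ * mk M hM = 1 := by rw [mk_mul_mk, mk_eq_one_iff]; exact ⟨eM⟩
    rw [mul_right_comm, h2, one_mul]
  obtain ⟨e1⟩ := h1
  have hg : Curv2.euler k X (ClSub.quotMod (f.fiberι c).ker) = 1 - ((2 : ℕ) : ℤ) := by rw [hgen]; norm_num
  have hr := K456.RelCan.isFinLocFreeOfRank_push k hdim (dim_P1 k) f hf hO hWX c hcl 2 hg hMi
  have hd := K456.RelCan.deg_push k hdim (dim_P1 k) f hf hO hWX c hcl 2 hg hMi
    (CurvesB.NodalExist.isNodalFamily_of_smooth f)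
  obtain ⟨a, ⟨-, ⟨ea⟩⟩, -⟩ := S7797.result k 2 _ hr
  let e2 : (Scheme.Modules.pushforward f).obj (Omega.sheaf f) ≅ (Coh.push f).obj (CohB1.tensorMod WX M) :=
    (Scheme.Modules.pushforward f).mapIso e1.symm
  refine ⟨a, ⟨e2 ≪≫ ea⟩, ?_⟩
  rw [euler_V k ⟨ea⟩, genus_P1, euler_P1] at hd
  push_cast at hd
  linarith

end P1

end K455.GenTwo
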