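import Groth.Agent.Surf.K455.RelDim
import Groth.Agent.Surf.K455.BlowDim
import Groth.Agent.Resolve.K373.BirSeq
import Groth.Agent.Dix.ExcFactor

/-!
# Smooth proper surfaces over a field, and contraction sequences

* `Good s` for `s : Z ⟶ Spec k`: `Z` integral, proper and smooth over `k`, of dimension two.
* `Good.isSurf`; `Good.blowUp`; `Good.of_seq`: if `f : Y ⟶ Z` is a contraction sequence and `Z` is good, so is `Y`;
* `isBir_seq`: contraction sequences over a good surface are birational.
-/

set_option autoImplicit false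
universe u
open CategoryTheory CategoryTheory.Limits AlgebraicGeometry TopologicalSpace

namespace K455.Srf

open Groth.Agent Groth.Agent.Dix Groth.Agent.Dix.ExcPts Groth.Agent.Dix.PointIdeal

variable {k : Type u} [Field k]

/-- Smooth proper integral surfaces. -/
structure Good {Z : Scheme.{u}} (s : Z ⟶ Spec (CommRingCat.of k)) : Prop where
  proper : IsProper s
  smooth : Smooth s
  integral : IsIntegral Z
  dim : topologicalKrullDim Z = 2

variable {Z : Scheme.{u}} {s : Z ⟶ Spec (CommRingCat.of k)}

theorem Good.noeth (h : Good s) : IsNoetherian Z := by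
  have := h.proper
  have h1 : IsLocallyNoetherian Z := LocallyOfFiniteType.isLocallyNoetherian s
  have h2 : CompactSpace Z := QuasiCompact.compactSpace_of_compactSpace s
  exact { }

theorem Good.regular (h : Good s) (z : Z) : IsRegularLocalRing (Z.presheaf.stalk z) := by
  have := h.smooth
  exact Lefpen.H705.ClosedPoint.isRegularLocalRing_stalk s z

theorem Good.isSurf (h : Good s) : IsSurf Z := by
  have := h.integral
  have := h.noeth
  exact K373.BirSeq.isSurf h.regular h.dim

theorem Good.relDim (h : Good s) : SmoothOfRelativeDimension 2 s := by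
  have := h.integral
  have := h.noeth
  have := h.smooth
  refine RelDim.smoothOfRelativeDimension k s 2 fun T hT => ?_
  have h1 : T = Set.univ := by
    rw [irreducibleComponents_eq_singleton] at hT
    exact hT
  subst h1
  exact ((Homeomorph.Set.univ Z).isHomeomorph.topologicalKrullDim_eq).trans h.dim

theorem dim_eq {W : Scheme.{u}} (h2 : topologicalKrullDim W ≤ (2 : ℕ))
    (z : W) (hz : Order.coheight z = 2) : topologicalKrullDim W = 2 := by
  refine le_antisymm h2 ?_
  rw [Groth.Agent.CurvesB.DimPts.krullDim_eq]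
  have h1 : (Order.coheight z : WithBot ℕ∞) ≤ Order.krullDim W := Order.coheight_le_krullDim z
  rw [hz] at h1
  exact h1

/-- Blow-ups of closed points of good surfaces are good. -/
theorem Good.blowUp [PerfectField k] (h : Good s) {W : Scheme.{u}} (b : W ⟶ Z) (x : Z) (hx : IsClosed ({x} : Set Z))
    (hdim : ringKrullDim (Z.presheaf.stalk x) = 2) (hb : BlowUp.IsBlowUp b (pt x hx)) :
    Good (b ≫ s) ∧ ∃ (_ : IsIntegral Z) (_ : IsIntegral W), IsBir b := by
  have hZi := h.integral
  have := h.noeth
  have hreg := h.regular x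
  have := h.proper
  obtain ⟨hWi, hW, hbir, -, z, hz⟩ := HasBlow.isSurf_blowUp h.isSurf x hx hdim b hb
  have hp : IsProper b := hbir.proper
  have h3 : Smooth (b ≫ s) := RelDim.smooth_of_regular k (b ≫ s) hW.regular
  refine ⟨⟨inferInstance, h3, hWi, dim_eq (BlowDim.dim_blowUp_le b x hx hdim hb ?_) z hz⟩, hZi, hWi, hbir⟩
  rw [h.dim]
  rfl

/-- Contraction sequences over good surfaces. -/
theorem Good.of_seq [PerfectField k] {Y Z : Scheme.{u}} {f : Y ⟶ Z} (hf : Models.IsContractionSeq f) :
    ∀ {s : Z ⟶ Spec (CommRingCat.of k)}, Good s → Good (f ≫ s) ∧ ∃ (_ : IsIntegral Z) (_ : IsIntegral Y), IsBir f := by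
  induction hf with
  | iso e =>
    intro s h
    have := h.integral
    have := h.proper
    have := h.smooth
    have hY : IsIntegral _ := IsIntegral.of_isIso e.inv
    refine ⟨⟨inferInstance, inferInstance, hY, ?_⟩, h.integral, hY,
      ⟨inferInstance, genericPoint_eq_of_isOpenImmersion e.hom, inferInstance⟩⟩
    rw [← h.dim]
    exact e.hom.homeomorph.isHomeomorph.topologicalKrullDim_eq
  | step ι b r hι hE hb hr ih =>
    intro s h
    obtain ⟨h1, hXi, hZi, hbir⟩ := ih h
    obtain ⟨hn, hp, z, hz, -, hreg, hdim, hbl⟩ := hb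
    obtain ⟨h2, hZ2, hYi, hbir2⟩ := h1.blowUp b z hz hdim hbl
    exact ⟨by rw [Category.assoc]; exact h2, hXi, hYi, isBir_comp b r hbir2 hbir⟩

end K455.Srf
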