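import Groth.Agent.Surf.K455.SeqFactor
import Groth.Agent.Surf.K464.LocalNeg

/-!
# Contracted curves have negative self-intersection
-/

set_option autoImplicit false
universe u
open CategoryTheory CategoryTheory.Limits AlgebraicGeometry TopologicalSpace

namespace K455.SelfNeg

open Groth.Agent Groth.Agent.Dix Groth.Agent.Dix.ExcPts Groth.Agent.Grpsch.PicGrp
  K464.Base K464.Curves K464.DivLat K464.LocalNeg

/-- A non-generic point `v` specializing to `w` outside of the closure of `g`. -/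
theorem exists_side {S : Scheme.{u}} [IsIntegral S] [IsLocallyNoetherian S] {g w : S} (hgw : g ⤳ w) (hne : g ≠ w)
    (hg : g ≠ genericPoint S) : ∃ v : S, v ⤳ w ∧ ¬ g ⤳ v ∧ v ≠ genericPoint S := by
  have hr := S.range_fromSpecStalk (x := w)
  have hmem : ∀ y : S, y ⤳ w → ∃ p : PrimeSpectrum (S.presheaf.stalk w), S.fromSpecStalk w p = y := fun y hy => by
    have h1 : y ∈ Set.range (S.fromSpecStalk w) := by rw [hr]; exact hy
    exact h1
  have hsp : ∀ p q : PrimeSpectrum (S.presheaf.stalk w),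
      S.fromSpecStalk w p ⤳ S.fromSpecStalk w q ↔ p.asIdeal ≤ q.asIdeal := fun p q =>
    (S.fromSpecStalk w).isEmbedding.isInducing.specializes_iff.trans (PrimeSpectrum.le_iff_specializes p q).symm
  obtain ⟨p, hp⟩ := hmem g hgw
  obtain ⟨r, hr'⟩ := hmem _ (genericPoint_specializes w)
  have hc : S.fromSpecStalk w (IsLocalRing.closedPoint _) = w := Scheme.fromSpecStalk_closedPoint
  have h1 : ¬ IsLocalRing.maximalIdeal (S.presheaf.stalk w) ≤ p.asIdeal := by
    intro h
    have h2 : S.fromSpecStalk w (IsLocalRing.closedPoint _) ⤳ S.fromSpecStalk w p := (hsp _ _).2 h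
    rw [hc, hp] at h2
    exact hne (hgw.antisymm h2).eq
  obtain ⟨f, hf, hfp⟩ := Set.not_subset.1 h1
  obtain ⟨q, hq, hqm⟩ := Ideal.exists_minimalPrimes_le (I := Ideal.span {f})
    (J := IsLocalRing.maximalIdeal (S.presheaf.stalk w)) ((Ideal.span_singleton_le_iff_mem _).2 hf)
  have hqp : q.IsPrime := hq.1.1
  have hfq : f ∈ q := hq.1.2 (Ideal.mem_span_singleton_self f)
  have hh : q.height ≤ 1 := Ideal.height_le_one_of_isPrincipal_of_mem_minimalPrimes (Ideal.span {f}) q hq
  refine ⟨S.fromSpecStalk w ⟨q, hqp⟩, ?_, ?_, ?_⟩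
  · have h2 := (hsp ⟨q, hqp⟩ (IsLocalRing.closedPoint _)).2 hqm
    rwa [hc] at h2
  · rw [← hp, hsp]
    intro h
    have h2 : p.asIdeal < q := lt_of_le_of_ne h (fun h3 => hfp (by rw [h3]; exact hfq))
    have h3 : (⊥ : Ideal (S.presheaf.stalk w)) < p.asIdeal := by
      refine lt_of_le_of_ne bot_le (fun h4 => hg ?_)
      have h5 : S.fromSpecStalk w p ⤳ S.fromSpecStalk w r := (hsp _ _).2 (by rw [← h4]; exact bot_le)
      rw [hp, hr'] at h5
      exact (h5.antisymm (genericPoint_specializes g)).eq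
    have : (⊥ : Ideal (S.presheaf.stalk w)).IsPrime := Ideal.isPrime_bot
    have h4 := Ideal.height_add_one_le_of_lt_of_isPrime h3
    have h5 := Ideal.height_add_one_le_of_lt_of_isPrime h2
    have h6 : (2 : ℕ∞) ≤ 1 := by
      calc (2 : ℕ∞) = 0 + 1 + 1 := by norm_num
        _ ≤ (⊥ : Ideal (S.presheaf.stalk w)).height + 1 + 1 := by gcongr; exact bot_le
        _ ≤ p.asIdeal.height + 1 := by gcongr
        _ ≤ q.height := h5
        _ ≤ 1 := hh
    exact absurd h6 (by decide)
  · intro h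
    have h2 : S.fromSpecStalk w ⟨q, hqp⟩ ⤳ S.fromSpecStalk w p := by rw [h]; exact genericPoint_specializes _
    rw [hsp] at h2
    exact hfp (h2 hfq)

/-- On an integral scheme a non-generic point of an open is a zero of a nonzero function on it, if affine. -/
theorem exists_fun {P : Scheme.{u}} [IsIntegral P] [IsAffine P] (y : P) (hy : y ≠ genericPoint P) :
    ∃ a : Γ(P, ⊤), a ≠ 0 ∧ y ∉ P.basicOpen a := by
  have h1 : genericPoint P ∉ closure {y} := fun h =>
    hy ((specializes_iff_mem_closure.2 h).antisymm (genericPoint_specializes y)).eq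
  let V : P.Opens := ⟨(closure {y})ᶜ, isClosed_closure.isOpen_compl⟩
  obtain ⟨a, ha, ha'⟩ := (isAffineOpen_top P).exists_basicOpen_le (V := V) ⟨genericPoint P, h1⟩ trivial
  refine ⟨a, ?_, fun h => ha h (subset_closure rfl)⟩
  rintro rfl
  rw [Scheme.basicOpen_zero] at ha'
  exact ha'

variable (k : Type u) [Field k] {S : Scheme.{u}} [S.Over (Spec (CommRingCat.of k))]
  [IsProper (S ↘ Spec (CommRingCat.of k))] [IsIntegral S] [IsLocallyNoetherian S]

/-- **Contracted curves have negative self-intersection.** -/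
theorem self_neg {X : Scheme.{u}} [IsIntegral X] (π : S ⟶ X)
    {U : X.Opens} (hU : (U : Set X).Nonempty) (hiso : IsIso (π ∣_ U))
    {C : S.IdealSheafData} (hC : IsCurve C)
    (hE : BlowUp.IsEffCartierIdeal C) (hcon : (π '' (C.support : Set S)).Subsingleton) :
    dot k S (ic C hE) (ic C hE) < 0 := by
  have hg : gp hC ≠ genericPoint S := fun h => genericPoint_notMem hE (h ▸ gp_mem hC)
  obtain ⟨w, hw, hwg⟩ : ∃ w ∈ (C.support : Set S), w ≠ gp hC := by
    by_contra hcon
    push Not at hcon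
    have h1 : (C.support : Set S) = {gp hC} :=
      Set.eq_singleton_iff_unique_mem.2 ⟨gp_mem hC, hcon⟩
    have h2 := hC.dim
    rw [h1] at h2
    have h3 := BlowDim.topologicalKrullDim_singleton_le (gp hC)
    rw [h2] at h3
    exact absurd h3 (by norm_num)
  have hgw : gp hC ⤳ w := by
    rw [specializes_iff_mem_closure, closure_gp hC]; exact hw
  obtain ⟨v, hvw, hgv, hvS⟩ := exists_side hgw (Ne.symm hwg) hg
  have hUg : genericPoint X ∈ U := by
    obtain ⟨y, hy⟩ := hU
    exact (genericPoint_specializes y).mem_open U.2 hy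
  have hπg : π (genericPoint S) = genericPoint X := BirIso.map_genericPoint π U hiso hUg
  have hπv : π v ≠ genericPoint X := fun h =>
    hvS (Dix.BirIso.inj π U hiso v (genericPoint S) (by rw [h]; exact hUg) (by rw [h, hπg]))
  obtain ⟨O, hO, hxO, -⟩ := exists_isAffineOpen_mem_and_subset (U := (⊤ : X.Opens)) (x := π w) trivial
  have hOn : Nonempty O.toScheme := ⟨⟨π w, hxO⟩⟩
  have hOa : IsAffine O.toScheme := hO
  let V : S.Opens := π ⁻¹ᵁ O
  have hwV : w ∈ V := hxO
  have hvV : v ∈ V := hvw.mem_open V.2 hwV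
  have hVn : Nonempty V := ⟨⟨w, hwV⟩⟩
  have hCV : (C.support : Set S) ⊆ V := by
    intro c hc
    change π c ∈ O
    rw [hcon ⟨c, hc, rfl⟩ ⟨w, hw, rfl⟩]
    exact hxO
  let G : V.toScheme ⟶ O.toScheme := π ∣_ O
  have hG : ∀ z : V.toScheme, O.ι (G z) = π (V.ι z) := fun z => by
    rw [← Scheme.Hom.comp_apply, ← Scheme.Hom.comp_apply, morphismRestrict_ι]
  let v' : V.toScheme := ⟨v, hvV⟩
  let w' : V.toScheme := ⟨w, hwV⟩
  have hvw' : v' ⤳ w' := V.ι.isOpenEmbedding.isInducing.specializes_iff.1 hvw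
  have hy : G v' ≠ genericPoint O.toScheme := fun h => by
    apply hπv
    rw [← genericPoint_eq_of_isOpenImmersion O.ι, ← h, hG]
    rfl
  obtain ⟨a, ha, hya⟩ := exists_fun (G v') hy
  have hbo : ∀ z : V.toScheme, z ∈ V.toScheme.basicOpen (G.appTop a) ↔ G z ∈ O.toScheme.basicOpen a := fun z => by
    have h1 := Scheme.preimage_basicOpen_top G a
    rw [← h1]
    rfl
  have hGgen : G (genericPoint V.toScheme) = genericPoint O.toScheme := by
    apply O.ι.isOpenEmbedding.injective
    rw [hG, genericPoint_eq_of_isOpenImmersion V.ι, genericPoint_eq_of_isOpenImmersion O.ι, hπg]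
  have ha' : G.appTop a ≠ 0 := by
    intro h0
    have h1 : genericPoint V.toScheme ∈ V.toScheme.basicOpen (G.appTop a) := by
      rw [hbo, hGgen]
      have : Nonempty (⊤ : O.toScheme.Opens) := ⟨⟨genericPoint _, trivial⟩⟩
      exact genericPoint_mem_basicOpen ha
    rw [h0, Scheme.basicOpen_zero] at h1
    exact h1
  have hwa : G w' ∉ O.toScheme.basicOpen a := fun h =>
    hya ((hvw'.map G.continuous).mem_open (O.toScheme.basicOpen a).2 h)
  obtain ⟨z, hz, -, hz2⟩ := exists_rows k (ι := Unit) (C := fun _ => C) (fun _ => hE) (fun _ => hC)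
    (fun _ _ _ => rfl) V (fun _ => hCV) (G.appTop a) ha' (by
      intro _ u hu hu'
      rw [hbo] at hu'
      have h1 : G u = G w' := by
        apply O.ι.isOpenEmbedding.injective
        rw [hG, hG, hu]
        exact hcon ⟨_, gp_mem hC, rfl⟩ ⟨w, hw, rfl⟩
      exact hwa (h1 ▸ hu'))
  have h1 := hz2 () ⟨v', w', by rw [hbo]; exact hya, fun _ h => hgv (by
    rw [specializes_iff_mem_closure, closure_gp hC]; exact h), hvw', hw⟩
  have h2 := hz ()
  simp only [Finset.univ_unique, Finset.sum_singleton] at h1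
  have h3 : (0 : ℤ) < z () := by exact_mod_cast h2
  change (z () : ℤ) * dot k S (ic C hE) (ic C hE) < 0 at h1
  exact neg_of_mul_neg_right h1 h3.le

end K455.SelfNeg
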