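import Groth.Agent.Surf.K455.Good
import Groth.Agent.Surf.K455.BlowCanon
import Groth.Agent.Surf.K455.ResOne
import Groth.Agent.Surf.K464.LocalNeg

/-!
# The canonical class along a contraction sequence

`exists_disc`: if `f : Y ⟶ Z` is a contraction sequence of smooth proper surfaces over an algebraically closed field,
then `K_Y = f^* K_Z + R` with `R` effective and `f(R)` finite.
-/

set_option autoImplicit false
universe u
open CategoryTheory CategoryTheory.Limits AlgebraicGeometry TopologicalSpace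

namespace K455.Srf

open Groth.Agent Groth.Agent.Dix Groth.Agent.Dix.ExcPts Groth.Agent.Dix.PointIdeal Groth.Agent.Grpsch.PicGrp
  Groth.Agent.Fga.PicMon Groth.Agent.Dix.IdealModCartier Groth.Agent.Divis.EffCartier K464.Base K464.DegCurve

variable {k : Type u} [Field k]

theorem mk_mul_eq_of_mc {X : Scheme.{u}} {A B C : X.Modules} (hA : PicF.IsInvertible A) (hB : PicF.IsInvertible B)
    (hC : PicF.IsInvertible C) (h : mc A * mc B = mc C) : mk A hA * mk B hB = mk C hC := by
  rw [← mc_tensor, mc_eq_iff] at h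
  rw [mk_mul_mk, mk_eq_iff]
  exact h

/-- The canonical class of a blow-up of a closed point. -/
theorem mk_blowUp [IsAlgClosed k] {Z W : Scheme.{u}} {s : Z ⟶ Spec (CommRingCat.of k)} (h : Good s) (b : W ⟶ Z)
    (x : Z) (hx : IsClosed ({x} : Set Z)) (hdim : ringKrullDim (Z.presheaf.stalk x) = 2)
    (hb : BlowUp.IsBlowUp b (pt x hx)) {K : Z.Modules} (hK : ExtPow.IsExtPow 2 (Omega.sheaf s) K)
    (hKi : PicF.IsInvertible K) {K' : W.Modules}
    (hK' : ExtPow.IsExtPow 2 (Omega.sheaf (b ≫ s)) K') (hKi' : PicF.IsInvertible K') :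
    mk K' hKi' * ic ((pt x hx).comap b) hb.1 = pull b (mk K hKi) := by
  have hW := (h.blowUp b x hx hdim hb).1
  letI : Z.Over (Spec (CommRingCat.of k)) := ⟨s⟩
  letI : W.Over (Spec (CommRingCat.of k)) := ⟨b ≫ s⟩
  have := h.proper
  have := h.integral
  have := h.noeth
  have := h.relDim
  have := h.regular x
  have i1 : IsProper (Z ↘ Spec (CommRingCat.of k)) := h.proper
  have i2 : IsProper (W ↘ Spec (CommRingCat.of k)) := hW.proper
  have i3 : SmoothOfRelativeDimension 2 (Z ↘ Spec (CommRingCat.of k)) := h.relDim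
  have i4 : SmoothOfRelativeDimension 2 (W ↘ Spec (CommRingCat.of k)) := hW.relDim
  have i5 := hW.integral
  rw [pull_mk]
  refine mk_mul_eq_of_mc _ _ _ (BlowCanon.mc_eq k b rfl x hx hdim hb (by rw [hW.dim]; rfl) hK' hK ?_)
  have h1 : @Module.finrank k (Z.residueField x) _ _ (Curv2.resAlgebra k Z x).toModule = 1 :=
    ResOne.finrank_residueField k Z hx
  exact h1.symm ▸ one_pos

theorem gen_notMem {Y Z : Scheme.{u}} [IsIntegral Y] [IsIntegral Z] {b : Y ⟶ Z} (hb : IsBir b)
    {R : Z.IdealSheafData} (hR : BlowUp.IsEffCartierIdeal R) : b (genericPoint Y) ∉ R.support := by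
  rw [hb.gen]
  exact K464.LocalNeg.genericPoint_notMem hR

/-- **The canonical class along a contraction sequence.** -/
theorem exists_disc [IsAlgClosed k] {Y Z : Scheme.{u}} {f : Y ⟶ Z} (hf : Models.IsContractionSeq f) :
    ∀ {s : Z ⟶ Spec (CommRingCat.of k)}, Good s → ∀ {K : Z.Modules} (_ : ExtPow.IsExtPow 2 (Omega.sheaf s) K)
      (hKi : PicF.IsInvertible K) {K' : Y.Modules} (_ : ExtPow.IsExtPow 2 (Omega.sheaf (f ≫ s)) K')
      (hKi' : PicF.IsInvertible K'),
      ∃ (R : Y.IdealSheafData) (hR : BlowUp.IsEffCartierIdeal R), mk K' hKi' * ic R hR = pull f (mk K hKi) ∧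
        (f '' (R.support : Set Y)).Finite := by
  induction hf with
  | iso e =>
    intro s h K hK hKi K' hK' hKi'
    refine ⟨⊤, isEff_top, ?_, ?_⟩
    · have := h.relDim
      have := h.proper
      have h2 := (Good.of_seq (Models.IsContractionSeq.iso e) h).1
      have := h2.relDim
      have := h2.proper
      obtain ⟨φ⟩ := CanonOpen.nonempty_iso s (e.hom ≫ s) 2 e.hom (𝟙 _) (by rw [Category.id_comp]) hK hK'
      rw [ic_top, mul_one, pull_mk, mk_eq_iff]
      exact ⟨((Scheme.Modules.pullbackId _).app K').symm ≪≫ φ⟩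
    · simp
  | step ι b r hι hE hb hr ih =>
    intro s h K hK hKi K' hK' hKi'
    obtain ⟨h1, hXi, hZi, hbir⟩ := Good.of_seq hr h
    obtain ⟨hn, hp, z, hz, -, hreg, hdim, hbl⟩ := hb
    obtain ⟨h2, hZ2, hYi, hbir2⟩ := h1.blowUp b z hz hdim hbl
    have := h1.relDim
    have := h1.proper
    obtain ⟨K₁, hK₁, hKi₁⟩ := Canon.exists_canonical (r ≫ s) 2
    obtain ⟨R, hR, hR1, hR2⟩ := ih h hK hKi hK₁ hKi₁
    have hK'' : ExtPow.IsExtPow 2 (Omega.sheaf (b ≫ (r ≫ s))) K' := by
      rw [← Category.assoc]; exact hK'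
    have h3 := mk_blowUp h1 b z hz hdim hbl hK₁ hKi₁ hK'' hKi'
    have hRb := isEff_comap b hR (gen_notMem hbir2 hR)
    refine ⟨(pt z hz).comap b * R.comap b, isEff_mul hbl.1 hRb, ?_, ?_⟩
    · rw [ic_mul hbl.1 hRb, ← mul_assoc, h3, ← pull_ic b hR hRb, ← map_mul, hR1, pull_comp]
    · rw [Scheme.IdealSheafData.support_mul]
      refine (hR2.union (Set.finite_singleton (r z))).subset ?_
      rintro _ ⟨y, hy, rfl⟩
      rcases hy with hy | hy
      · right
        rw [Scheme.IdealSheafData.support_comap] at hy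
        have h4 : b y = z := (mem_support_pt z hz (b y)).1 hy
        rw [Scheme.Hom.comp_apply, h4]
        rfl
      · left
        rw [Scheme.IdealSheafData.support_comap] at hy
        exact ⟨b y, hy, by rw [Scheme.Hom.comp_apply]⟩

end K455.Srf
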