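import Groth.Agent.Surf.K455.SeqKey
import Groth.Agent.Resolve.K372.Contr

/-!
# Factorization of contraction sequences through surfaces with `K` nonnegative on contracted curves
-/

set_option autoImplicit false
universe u
open CategoryTheory CategoryTheory.Limits AlgebraicGeometry TopologicalSpace

namespace K455.Srf

open Groth.Agent Groth.Agent.Dix Groth.Agent.Dix.ExcPts Groth.Agent.Dix.PointIdeal Groth.Agent.Grpsch.PicGrp
  K464.Base K464.Curves

variable {k : Type u} [Field k]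

theorem isBir_right {X Y Z : Scheme.{u}} [IsIntegral X] [IsIntegral Y] [IsIntegral Z] (b : X ⟶ Y) (ψ : Y ⟶ Z)
    (hb : IsBir b) (h : IsBir (b ≫ ψ)) [IsProper ψ] : IsBir ψ := by
  have hgen : ψ (genericPoint Y) = genericPoint Z := by
    rw [← hb.gen, ← Scheme.Hom.comp_apply, h.gen]
  refine ⟨inferInstance, hgen, ?_⟩
  have h1 := h.bir
  rw [Scheme.Hom.stalkMap_comp] at h1
  have h2 := hb.bir
  have h3 : IsIso (ψ.stalkMap (b (genericPoint X))) :=
    @IsIso.of_isIso_comp_right _ _ _ _ _ (ψ.stalkMap (b (genericPoint X))) (b.stalkMap (genericPoint X)) h2 h1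
  have key : ∀ z, z = genericPoint Y → IsIso (ψ.stalkMap z) → IsIso (ψ.stalkMap (genericPoint Y)) := by
    rintro z rfl h; exact h
  exact key _ hb.gen h3

theorem isProper_of_good {Y S : Scheme.{u}} (φ : Y ⟶ S) {t : S ⟶ Spec (CommRingCat.of k)} (ht : Good t)
    (h : Good (φ ≫ t)) : IsProper φ := by
  have := h.proper
  have := ht.proper
  exact IsProper.of_comp φ t

theorem isContractionSeq_of_good {Y S : Scheme.{u}} [IsIntegral Y] [IsIntegral S] (φ : Y ⟶ S)
    {t : S ⟶ Spec (CommRingCat.of k)} (ht : Good t) (h : Good (φ ≫ t)) (hφ : IsBir φ) :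
    Models.IsContractionSeq φ :=
  K373.BirSeq.isContractionSeq_of_isBir _ φ h.isSurf ht.isSurf hφ le_rfl

/-- **Factorization.** -/
theorem exists_factor [IsAlgClosed k] {B S : Scheme.{u}} (c : B ⟶ Spec (CommRingCat.of k)) (q : S ⟶ B)
    (ht : Good (q ≫ c)) {K : S.Modules} (hK : ExtPow.IsExtPow 2 (Omega.sheaf (q ≫ c)) K) (hKi : PicF.IsInvertible K)
    (hnef : letI : S.Over (Spec (CommRingCat.of k)) := ⟨q ≫ c⟩
      ∀ D : S.IdealSheafData, IsCurve D → (q '' (D.support : Set S)).Subsingleton → 0 ≤ degOn k S D (mk K hKi))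
    {Y S' : Scheme.{u}} {f : Y ⟶ S'} (hf : Models.IsContractionSeq f) :
    ∀ (p : S' ⟶ B) (_ : Good (p ≫ c)) (φ : Y ⟶ S) (_ : Models.IsContractionSeq φ) (_ : φ ≫ q = f ≫ p),
      ∃ u : S' ⟶ S, f ≫ u = φ := by
  induction hf with
  | iso e =>
    intro p hp φ hφ h
    exact ⟨e.inv ≫ φ, by rw [Iso.hom_inv_id_assoc]⟩
  | step ι b r hι hE hb hr ih =>
    intro p hp φ hφ h
    obtain ⟨h1, hXi, hZi, hbir⟩ := Good.of_seq hr hp
    obtain ⟨hn, hpr, z, hz, hrange, hreg, hdim, hbl⟩ := id hb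
    obtain ⟨h2, hZ2, hYi, hbir2⟩ := h1.blowUp b z hz hdim hbl
    have hYn := h2.noeth
    have hφc : φ ≫ (q ≫ c) = b ≫ (r ≫ (p ≫ c)) := by
      rw [← Category.assoc, h]; simp only [Category.assoc]
    have h3 := contracts b z hz hbl h1 hdim φ hφ ht hφc hK hKi (fun D hD hsub => hnef D hD (by
      have h4 : q '' (D.support : Set _) ⊆ {p (r z)} := by
        rintro _ ⟨y, hy, rfl⟩
        obtain ⟨w, hw, rfl⟩ := hsub hy
        have hw' : b w = z := hw
        have h5 : (φ ≫ q) w = ((b ≫ r) ≫ p) w := by rw [h]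
        rw [Scheme.Hom.comp_apply, Scheme.Hom.comp_apply, Scheme.Hom.comp_apply, hw'] at h5
        exact h5
      exact Set.subsingleton_singleton.anti h4))
    have hιz : ∀ e, ι e ∈ b ⁻¹' {z} := fun e => by
      have h4 : (ι ≫ b) e ∈ Set.range ((ι ≫ b).base) := ⟨e, rfl⟩
      rw [hrange] at h4
      exact h4
    obtain ⟨ψ, hψ, -⟩ := K372.Contr.existsUnique_desc ι hE b hb φ
      (fun e e' => h3 ⟨_, hιz e, rfl⟩ ⟨_, hιz e', rfl⟩)
    have hψ' : b ≫ ψ = φ := hψ
    have hψq : ψ ≫ q = r ≫ p := by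
      obtain ⟨χ, -, huniq⟩ := K372.Contr.existsUnique_desc ι hE b hb (φ ≫ q) (fun e e' => by
        rw [Scheme.Hom.comp_apply, Scheme.Hom.comp_apply, h3 ⟨_, hιz e, rfl⟩ ⟨_, hιz e', rfl⟩])
      have h4 := huniq (ψ ≫ q) (by
        change b ≫ ψ ≫ q = _
        rw [← Category.assoc, hψ'])
      have h5 := huniq (r ≫ p) (by
        change b ≫ r ≫ p = _
        rw [← Category.assoc, h])
      rw [h4, h5]
    have hSi := ht.integral
    have h6 : Good (ψ ≫ (q ≫ c)) := by
      rw [← Category.assoc, hψq, Category.assoc]; exact h1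
    have hψp := isProper_of_good ψ ht h6
    have h7 : IsBir (b ≫ ψ) := by
      rw [hψ']
      obtain ⟨-, _, _, h8⟩ := Good.of_seq hφ ht
      exact h8
    obtain ⟨u, hu⟩ := ih p hp ψ (isContractionSeq_of_good ψ ht h6 (isBir_right b ψ hbir2 h7)) hψq
    exact ⟨u, by rw [Category.assoc, hu, hψ']⟩

end K455.Srf
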