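import Groth.Agent.Surf.K455.Down
import Groth.Agent.Surf.K455.Minus
import Groth.Agent.Surf.K455.MinRes
import Groth.Agent.NonsingVar.K284.BirInv

/-!
# Nonzero plurigenus and no exceptional curve: `K` is nef
-/

set_option autoImplicit false
universe u
open CategoryTheory CategoryTheory.Limits AlgebraicGeometry TopologicalSpace

namespace K455.Srf

open Groth.Agent Groth.Agent.Dix Groth.Agent.Dix.ExcPts Groth.Agent.Dix.PointIdeal Groth.Agent.Grpsch.PicGrp
  Groth.Agent.Dix.IdealModCartier Groth.Agent.Divis.EffCartier Groth.Agent.Fga.PicMon K464.Base K464.Curves K464.DivLat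

variable {k : Type u} [Field k]

/-- Effective classes of negative degree on a curve: the curve has negative self-intersection. -/
theorem dot_self_neg_of_eff (k : Type u) [Field k] {S : Scheme.{u}} [S.Over (Spec (CommRingCat.of k))]
    [IsProper (S ↘ Spec (CommRingCat.of k))] [IsLocallyNoetherian S]
    {D R : S.IdealSheafData} (hD : IsCurve D) (hE : BlowUp.IsEffCartierIdeal D) (hR : BlowUp.IsEffCartierIdeal R)
    (h : 0 < degOn k S D (ic R hR)) : dot k S (ic D hE) (ic D hE) < 0 := by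
  obtain ⟨n, J, hJ, hRJ, hgp⟩ := exists_split (ι := Unit) (C := fun _ => D) (fun _ => hD) (fun _ => hE) hR
  have h1 : R = D ^ n () * J := by
    rw [hRJ]
    simp [cyc]
  have h2 : ic R hR = ic D hE ^ n () * ic J hJ := by
    rw [← ic_pow hE, ← ic_mul (isEff_pow hE (n ())) hJ]
    exact ic_congr _ _ h1
  rw [h2, degOn_mul k hD, degOn_pow k hD] at h
  have h3 := degOn_ic_nonpos k hD hJ (hgp ())
  have h4 : 0 < (n () : ℤ) * degOn k S D (ic D hE) := by linarith
  have h5 : 0 < degOn k S D (ic D hE) := by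
    by_contra hcon
    push Not at hcon
    have h6 : (0 : ℤ) ≤ n () := by positivity
    nlinarith
  rw [dot_ic_eq]
  linarith

/-- **`K` is nef** if some plurigenus is nonzero and there is no exceptional curve of the first kind. -/
theorem nef_of_section [IsAlgClosed k] {S : Scheme.{u}} {t : S ⟶ Spec (CommRingCat.of k)} (ht : Good t)
    {K : S.Modules} (hK : ExtPow.IsExtPow 2 (Omega.sheaf t) K) (hKi : PicF.IsInvertible K) (N : ℕ) (hN0 : 0 < N)
    (hP : Nontrivial (Coh.HH S (CohB1.tensorPow K N) 0))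
    (hmin : ∀ (E : Scheme.{u}) (ι : E ⟶ S), IsClosedImmersion ι → ¬ Models.IsExcCurve ι) :
    letI : S.Over (Spec (CommRingCat.of k)) := ⟨t⟩
    ∀ D : S.IdealSheafData, IsCurve D → 0 ≤ degOn k S D (mk K hKi) := by
  letI : S.Over (Spec (CommRingCat.of k)) := ⟨t⟩
  intro D hD
  have hg : Good (S ↘ Spec (CommRingCat.of k)) := ht
  have := hg.proper
  have := hg.smooth
  have := hg.integral
  have := hg.noeth
  have hE := isEff_of_smooth k hg.dim hD
  by_contra hneg
  push Not at hneg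
  obtain ⟨s, hs⟩ := K456.SecTriv.exists_ne_zero_of_nontrivial hP
  have hKN := Fdesc.LocGen.isInvertible_tensorPow hKi N
  obtain ⟨R, hR, hmc⟩ := Pos.exists_divisor hKN s hs
  have h1 : mk K hKi ^ N * ic R hR = 1 := by
    rw [← mk_tensorPow hKi N, ic, mk_mul_mk, mk_eq_one_iff]
    rw [← mc_tensor, ← mc_one, mc_eq_iff] at hmc
    exact hmc
  have h2 := degOn_mul k hD (mk K hKi ^ N) (ic R hR)
  rw [h1, degOn_one, degOn_pow k hD] at h2
  have h0 : degOn k S D (ic R hR) = - (N * degOn k S D (mk K hKi)) := by linarith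
  have hN : 0 < degOn k S D (ic R hR) := by
    have h6 : (0 : ℤ) < N := by exact_mod_cast hN0
    rw [h0]
    nlinarith
  have h3 := dot_self_neg_of_eff k hD hE hR hN
  obtain ⟨h4, -, h5⟩ := eq_neg_one k hg hK hKi hD hE h3 hneg
  exact hmin _ D.subschemeι inferInstance (Srf.isExcCurve k hg hD hE h4 h5)

theorem genericPoint_ne {Z : Scheme.{u}} [IsIntegral Z] (hdim : topologicalKrullDim Z = 2) {y : Z}
    (hy : IsClosed ({y} : Set Z)) : genericPoint Z ≠ y := by
  rintro rfl
  have h1 : Subsingleton Z := by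
    have h2 : ∀ z : Z, z = genericPoint Z := fun z => (genericPoint_specializes z).mem_closed hy rfl
    exact ⟨fun a b => (h2 a).trans (h2 b).symm⟩
  have h3 : topologicalKrullDim Z ≤ 0 := @topologicalKrullDim_zero_of_discreteTopology _ _ inferInstance
  rw [hdim] at h3
  exact absurd h3 (by norm_num)

/-- A contraction sequence is an isomorphism over a nonempty open. -/
theorem exists_open_of_seq [PerfectField k] {Y Z : Scheme.{u}} {f : Y ⟶ Z} (hf : Models.IsContractionSeq f) :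
    ∀ {s : Z ⟶ Spec (CommRingCat.of k)}, Good s → ∃ V : Z.Opens, (V : Set Z).Nonempty ∧ IsIso (f ∣_ V) := by
  induction hf with
  | iso e =>
    intro s h
    have := h.integral
    exact ⟨⊤, ⟨genericPoint _, trivial⟩, inferInstance⟩
  | step ι b r hι hE hb hr ih =>
    intro s h
    obtain ⟨V, hV, hrV⟩ := ih h
    obtain ⟨h1, hXi, hZi, hbir⟩ := Good.of_seq hr h
    obtain ⟨hn, hp, z, hz, -, hreg, hdim, hbl⟩ := hb
    have hrp := hbir.proper
    have hrz : IsClosed ({r z} : Set _) := by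
      have := r.isClosedMap _ hz
      rwa [Set.image_singleton] at this
    have hgen := genericPoint_ne h.dim hrz
    have hVg : genericPoint _ ∈ V := by
      obtain ⟨y, hy⟩ := hV
      exact (genericPoint_specializes y).mem_open V.2 hy
    refine ⟨V ⊓ ⟨{r z}ᶜ, hrz.isOpen_compl⟩, ⟨genericPoint _, hVg, hgen⟩, ?_⟩
    rw [morphismRestrict_comp]
    have h5 : r ⁻¹ᵁ (V ⊓ ⟨{r z}ᶜ, hrz.isOpen_compl⟩) ≤ (⟨{z}ᶜ, hz.isOpen_compl⟩ : Scheme.Opens _) := by
      rintro x hx (rfl : x = z)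
      exact hx.2 rfl
    have hiso := Groth.Agent.Models.H69.Contr.isIso_compl z hz hbl
    have h6 : IsIso (b ∣_ (r ⁻¹ᵁ (V ⊓ ⟨{r z}ᶜ, hrz.isOpen_compl⟩))) :=
      @MinRes.isIso_restrict_of_le _ _ b _ (⟨{z}ᶜ, hz.isOpen_compl⟩ : Scheme.Opens _) h5 hiso
    have h7 : IsIso (r ∣_ (V ⊓ ⟨{r z}ᶜ, hrz.isOpen_compl⟩)) := MinRes.isIso_restrict_of_le r inf_le_left
    exact @IsIso.comp_isIso _ _ _ _ _ _ _ h6 h7

/-- Plurigenera along a contraction sequence. -/
theorem nontrivial_of_seq [IsAlgClosed k] {Y Z : Scheme.{u}} {f : Y ⟶ Z} (hf : Models.IsContractionSeq f)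
    {s : Z ⟶ Spec (CommRingCat.of k)} (h : Good s) {K : Z.Modules} (hK : ExtPow.IsExtPow 2 (Omega.sheaf s) K)
    {K' : Y.Modules} (hK' : ExtPow.IsExtPow 2 (Omega.sheaf (f ≫ s)) K') (N : ℕ)
    (hP : Nontrivial (Coh.HH Y (CohB1.tensorPow K' N) 0)) : Nontrivial (Coh.HH Z (CohB1.tensorPow K N) 0) := by
  obtain ⟨V, hV, hiso⟩ := exists_open_of_seq hf h
  have hY := (Good.of_seq hf h).1
  letI : Z.Over (Spec (CommRingCat.of k)) := ⟨s⟩
  letI : Y.Over (Spec (CommRingCat.of k)) := ⟨f ≫ s⟩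
  have i1 : IsProper (Z ↘ Spec (CommRingCat.of k)) := h.proper
  have i2 : IsProper (Y ↘ Spec (CommRingCat.of k)) := hY.proper
  have i3 := h.integral
  have i4 := hY.integral
  have i5 := h.noeth
  have i6 := hY.noeth
  have i7 := h.relDim
  have i8 := h.proper
  have i10 := hY.relDim
  have i11 := hY.proper
  have i9 : Nonempty (f ⁻¹ᵁ V) := by
    obtain ⟨v, hv⟩ := hV
    obtain ⟨w, -⟩ := (f ∣_ V).surjective ⟨v, hv⟩
    exact ⟨w⟩
  have hj : IsOpenImmersion ((f ⁻¹ᵁ V).ι ≫ f) := by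
    rw [← morphismRestrict_ι]
    infer_instance
  have h1 := K284.BirInv.le_tensorPow (k := k) ((f ⁻¹ᵁ V).ι ≫ f) (f ⁻¹ᵁ V).ι h.regular hY.regular 2 h.dim hY.dim
    (Category.assoc _ _ _) hK hK' N
  have hfin := K464.Cohom.finite_HH k (X := Y) (isCoh_of_isInvertible k Y (Fdesc.LocGen.isInvertible_tensorPow
    (Canon.isInvertible (f ≫ s) 2 hK') N)) 0
  have h2 : 0 < Module.finrank k (Coh.HH Y (CohB1.tensorPow K' N) 0) := Module.finrank_pos
  exact Module.nontrivial_of_finrank_pos (h2.trans_le h1)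

end K455.Srf
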